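import Cfsg.Agent.H51.Coweight
import Cfsg.Agent.H51.ParabolicCent
import Cfsg.Agent.Chevalley.Subfield

/-!
A subgroup containing the fixed points of a field endomorphism: if it has no further unipotent
elements, it meets every proper parabolic subgroup in fixed points only.
-/

set_option autoImplicit false

namespace Cfsg.Agent.H51.Sub

open Cfsg.Lie Cfsg.Agent.H37 Cfsg.Agent.H37.RootSys

variable {D : ChevalleyDatum} {F : Type*} [Field F] (Q : Chev.Data D F) (σ : F →+* F)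

/-- The endomorphism of the group given by a field endomorphism. -/
def frob : ↥(D.group F) →* ↥(D.group F) where
  toFun g := ⟨Matrix.GeneralLinearGroup.map σ g, Q.K.map_mem_group σ g.2⟩
  map_one' := Subtype.ext (map_one _)
  map_mul' a b := Subtype.ext (map_mul _ _ _)

/-- The fixed points. -/
def fixG : Subgroup ↥(D.group F) := (frob Q σ).eqLocus (MonoidHom.id _)

theorem mem_fixG {g : ↥(D.group F)} : g ∈ fixG Q σ ↔ frob Q σ g = g := Iff.rfl

theorem frob_x (r : ℕ) (t : F) : frob Q σ (Q.sys.x r t) = Q.sys.x r (σ t) :=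
  Subtype.ext (Q.K.map_xU σ r t)

theorem x_mem_fixG (r : ℕ) {t : F} (ht : σ t = t) : Q.sys.x r t ∈ fixG Q σ := by
  rw [mem_fixG, frob_x, ht]

theorem nG_mem_fixG (i : ℕ) : nG Q.K F i ∈ fixG Q σ := by
  rw [mem_fixG]
  refine Subtype.ext ?_
  show Matrix.GeneralLinearGroup.map σ (Q.K.nS F i) = Q.K.nS F i
  rw [show Q.K.nS F i = Q.K.nU F (D.simple i) 1 from rfl, Q.K.nU_eq, map_mul, map_mul,
    Q.K.map_xU, Q.K.map_xU, inv_one, map_neg, map_one]

theorem frob_XS {S : Set ℕ} {g : ↥(D.group F)} (hg : g ∈ XS Q.sys.x S) :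
    frob Q σ g ∈ XS Q.sys.x S := by
  have hle : XS Q.sys.x S ≤ (XS Q.sys.x S).comap (frob Q σ) := XS_le fun r hr t => by
    rw [Subgroup.mem_comap, frob_x]
    exact x_mem_XS hr _
  exact hle hg

theorem frob_H {g : ↥(D.group F)} (hg : g ∈ Q.sys.H) : frob Q σ g ∈ Q.sys.H :=
  Q.K.map_mem_diag σ hg

/-- Representatives of the Weyl group among the fixed points. -/
theorem exists_fix_rep (w : Q.X.M.Group) : ∃ k ∈ Q.sys.H, k * Q.sys.rep w ∈ fixG Q σ := by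
  obtain ⟨h, hh, hm⟩ := Chevalley.Subfield.exists_rep Q w
  exact ⟨⟨h, diagonal_le_group Q.ord hh⟩, hh,
    Subtype.ext (Chevalley.Subfield.map_fixedRoots Q (hm σ))⟩

/-- The subgroup `H` contains the root elements with fixed parameter. -/
def HasRat (H : Subgroup ↥(D.group F)) : Prop := ∀ r t, σ t = t → Q.sys.x r t ∈ H

theorem HasRat.of_le {H : Subgroup ↥(D.group F)} (h : fixG Q σ ≤ H) : HasRat Q σ H :=
  fun r _ ht => h (x_mem_fixG Q σ r ht)

variable {Q σ} in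
theorem HasRat.one {H : Subgroup ↥(D.group F)} (h : HasRat Q σ H) (r : ℕ) :
    Q.sys.x r 1 ∈ H := h r 1 (map_one σ)

variable {Q σ} in
theorem HasRat.nU {H : Subgroup ↥(D.group F)} (h : HasRat Q σ H) (r : ℕ) {t : F} (ht : σ t = t) :
    (⟨Q.K.nU F r t, Q.K.wU_mem F fun p _ => Q.K.xU_mem_group F p.1 p.2⟩ : ↥(D.group F)) ∈ H := by
  rw [show (⟨Q.K.nU F r t, Q.K.wU_mem F fun p _ => Q.K.xU_mem_group F p.1 p.2⟩ : ↥(D.group F)) =
    Q.sys.x r t * Q.sys.x (D.neg r) (-t⁻¹) * Q.sys.x r t from Subtype.ext (Q.K.nU_eq F _ _)]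
  exact mul_mem (mul_mem (h r t ht) (h _ _ (by rw [map_neg, map_inv₀, ht]))) (h r t ht)

variable {Q σ} in
theorem HasRat.ns {H : Subgroup ↥(D.group F)} (h : HasRat Q σ H) (i : ℕ) :
    nG Q.K F i ∈ H := h.nU (D.simple i) (map_one σ)

variable {Q σ} in
theorem HasRat.hU {H : Subgroup ↥(D.group F)} (h : HasRat Q σ H) (r : ℕ) {t : F} (ht : σ t = t) :
    (⟨Q.K.hU F r t, Q.K.wU_mem F fun p _ => Q.K.xU_mem_group F p.1 p.2⟩ : ↥(D.group F)) ∈ H := by
  rw [show (⟨Q.K.hU F r t, Q.K.wU_mem F fun p _ => Q.K.xU_mem_group F p.1 p.2⟩ : ↥(D.group F)) =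
    ⟨Q.K.nU F r t, Q.K.wU_mem F fun p _ => Q.K.xU_mem_group F p.1 p.2⟩ *
      ⟨Q.K.nU F r (-1), Q.K.wU_mem F fun p _ => Q.K.xU_mem_group F p.1 p.2⟩ from
    Subtype.ext (Q.K.hU_eq F r t)]
  exact mul_mem (h.nU r ht) (h.nU r (by rw [map_neg, map_one]))

/-- Representatives of the Weyl group among the fixed points, in every `H` with the rational root
elements. -/
theorem exists_rat_rep {H : Subgroup ↥(D.group F)} (hrat : HasRat Q σ H) (w : Q.X.M.Group) :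
    ∃ k ∈ Q.sys.H, k * Q.sys.rep w ∈ fixG Q σ ∧ k * Q.sys.rep w ∈ H := by
  obtain ⟨h, hh, hm⟩ := Chevalley.Subfield.exists_rep Q w
  refine ⟨⟨h, diagonal_le_group Q.ord hh⟩, hh,
    Subtype.ext (Chevalley.Subfield.map_fixedRoots Q (hm σ)), ?_⟩
  have hle : Chevalley.Subfield.fixedRoots Q σ ≤ H.map (D.group F).subtype := by
    refine (Subgroup.closure_le _).2 ?_
    rintro _ ⟨r, t, -, ht, rfl⟩
    exact ⟨Q.sys.x r t, hrat r t ht, rfl⟩
  obtain ⟨g, hg, e⟩ := hle (hm σ)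
  rwa [Subtype.ext (a1 := _ * Q.sys.rep w) (a2 := g) e.symm]

/-- Fixed elements of the positive unipotent group are products of rational root elements. -/
theorem HasRat.mem_of_fixed {H : Subgroup ↥(D.group F)} (hrat : HasRat Q σ H) {u : ↥(D.group F)}
    (hu : u ∈ Q.sys.U) (hf : u ∈ fixG Q σ) : u ∈ H := by
  suffices ∀ N k, D.nroots ≤ k + N → ∀ u ∈ XS Q.sys.x {r | r ∈ Q.sys.P ∧ k ≤ r},
      u ∈ fixG Q σ → u ∈ H from
    this D.nroots 0 (by omega) u (XS_mono (S' := {r | r ∈ Q.sys.P ∧ 0 ≤ r})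
      (fun r hr => ⟨Q.sys.P_eq ▸ Finset.mem_coe.1 hr, Nat.zero_le r⟩) hu) hf
  intro N
  induction N with
  | zero =>
    intro k hk u hu _
    have h0 : {r | r ∈ Q.sys.P ∧ k ≤ r} = ∅ := Set.eq_empty_iff_forall_notMem.2 fun r hr => by
      have := (mem_posSet.1 (Q.sys.P_eq ▸ hr.1)).1
      have := hr.2
      omega
    rw [h0, XS_empty, Subgroup.mem_bot] at hu
    rw [hu]
    exact one_mem H
  | succ N ih =>
    intro k hk u hu hf
    by_cases hkP : k ∈ Q.sys.P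
    swap
    · rw [Unip.tail_of_not_mem hkP] at hu
      exact ih (k + 1) (by omega) u hu hf
    obtain ⟨a, n, hn, rfl⟩ := Q.sys.toUnip.exists_head Q.sys.toUnip.closed_P hkP hu
    rw [mem_fixG, map_mul, frob_x] at hf
    obtain ⟨ha, hn'⟩ := Q.sys.toUnip.head_unique Q.sys.toUnip.closed_P hkP (frob_XS Q σ hn) hn hf
    exact mul_mem (hrat k a ha) (ih (k + 1) (by omega) n hn hn')

/-- The positive roots outside a fundamental subsystem. -/
noncomputable def outJ (J : Set ℕ) : Finset ℕ :=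
  open Classical in (posSet D).filter fun r => ¬ ∀ m < D.rank, m ∉ J → Q.K.cf r m = 0

theorem mem_outJ {J : Set ℕ} {r : ℕ} : r ∈ outJ Q J ↔
    r < D.nroots ∧ D.nroots / 2 ≤ r ∧ ¬ ∀ m < D.rank, m ∉ J → Q.K.cf r m = 0 := by
  classical
  simp only [outJ, Finset.mem_filter, mem_posSet, and_assoc]

theorem outJ_ideal {J : Set ℕ} {r s k : ℕ} (hr : r ∈ Q.sys.P) (hs : s ∈ outJ Q J)
    (hk : Q.sys.T r s k) : k ∈ outJ Q J := by
  obtain ⟨hs1, hs2, hs3⟩ := (mem_outJ Q).1 hs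
  have hr' := mem_posSet.1 (Q.sys.P_eq ▸ hr)
  have hkP := (Q.sys.T_pos hr (Q.sys.P_eq ▸ mem_posSet.2 ⟨hs1, hs2⟩) hk).1
  rw [Q.sys.P_eq, mem_posSet] at hkP
  refine (mem_outJ Q).2 ⟨hkP.1, hkP.2, fun h => hs3 fun m hm hmJ => ?_⟩
  obtain ⟨-, x, y, hx, hy, e⟩ := (hk : Combo Q.K r s k)
  have e' := e m hm
  rw [h m hm hmJ] at e'
  have h1 := Q.K.cf_nonneg r hr'.1 hr'.2 m hm
  have h2 := Q.K.cf_nonneg s hs1 hs2 m hm
  have hy' : (1 : ℤ) ≤ y := by exact_mod_cast hy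
  have hx' : (0 : ℤ) ≤ x := Int.natCast_nonneg x
  nlinarith

theorem closed_outJ (J : Set ℕ) : Q.sys.toUnip.Closed (outJ Q J) :=
  ⟨fun r hr => Q.sys.P_eq ▸ mem_posSet.2 ⟨((mem_outJ Q).1 hr).1, ((mem_outJ Q).1 hr).2.1⟩,
    fun r hr _ hs _ _ hk => outJ_ideal Q
      (Q.sys.P_eq ▸ mem_posSet.2 ⟨((mem_outJ Q).1 hr).1, ((mem_outJ Q).1 hr).2.1⟩) hs hk⟩

theorem conj_outJ {J : Set ℕ} {u : ↥(D.group F)} (hu : u ∈ Q.sys.U) {g : ↥(D.group F)}
    (hg : g ∈ XS Q.sys.x (↑(outJ Q J) : Set ℕ)) :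
    u * g * u⁻¹ ∈ XS Q.sys.x (↑(outJ Q J) : Set ℕ) := by
  set T := XS Q.sys.x (↑(outJ Q J) : Set ℕ) with hT
  have hle : Q.sys.U ≤ Subgroup.normalizer (T : Set ↥(D.group F)) := XS_le fun s hs t => by
    have hs' : s ∈ Q.sys.P := Q.sys.P_eq ▸ Finset.mem_coe.1 hs
    have key : ∀ t, ∀ g ∈ T, Q.sys.x s t * g * (Q.sys.x s t)⁻¹ ∈ T := by
      intro t g hg
      refine conj_mem_XS (fun k hk b => ?_) hg
      have hk' := (closed_outJ Q J).1 (Finset.mem_coe.1 hk)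
      by_cases hsk : s = k
      · subst hsk
        have hlt := (mem_posSet.1 (Q.sys.P_eq ▸ hs')).1
        rw [← Q.sys.x_add' _ hlt, add_comm, Q.sys.x_add' _ hlt, mul_inv_cancel_right]
        exact x_mem_XS hk b
      rw [show Q.sys.x s t * Q.sys.x k b * (Q.sys.x s t)⁻¹ =
        Q.sys.x s t * Q.sys.x k b * (Q.sys.x s t)⁻¹ * (Q.sys.x k b)⁻¹ * Q.sys.x k b by group]
      exact mul_mem (XS_mono (fun q hq => Finset.mem_coe.2 (outJ_ideal Q hs' hk hq))
        (Q.sys.toUnip.comm hs' hk' hsk t b)) (x_mem_XS hk b)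
    rw [Subgroup.mem_normalizer_iff]
    intro g
    refine ⟨fun hg => key t g hg, fun hg => ?_⟩
    have := key (-t) _ hg
    rw [show Q.sys.x s (-t) = (Q.sys.x s t)⁻¹ from Q.sys.toUnip.x_neg hs' t] at this
    simpa [mul_assoc] using this
  exact (Subgroup.mem_normalizer_iff.1 (hle hu) g).1 hg

/-- An element commuting with the elements `x_r(1)` of the radical of a proper parabolic subgroup
lies in the Borel subgroup. -/
theorem commute_mem_B [Finite F] (hS : Chev.Sup Q.X.C D Q.X.n) (hlink : PC.linkB D = true) {J : Set ℕ}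
    (hJ : ∃ i, i < D.rank ∧ i ∉ J) {c : ↥(D.group F)}
    (hc : ∀ r ∈ outJ Q J, c * Q.sys.x r 1 = Q.sys.x r 1 * c) :
    ∃ u ∈ Q.sys.U, ∃ h ∈ Q.sys.H, c = u * h := by
  classical
  obtain ⟨u, hu, h, hh, w, v, hv, e⟩ := Q.sys.normalForm.exists_eq c
  change u ∈ Q.sys.U at hu
  change h ∈ Q.sys.H at hh
  change v ∈ Q.sys.Uw w at hv
  change c = u * h * Q.sys.rep w * v at e
  have hvU := Q.sys.Uw_le w hv
  have key : ∀ r ∈ outJ Q J, ∃ r' ∈ outJ Q J, r ≤ r' ∧ img Q w r' = r := by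
    intro r hr
    obtain ⟨hr1, hr2, -⟩ := (mem_outJ Q).1 hr
    obtain ⟨m, hm, em, -⟩ := PC.conj_U Q hr1 hr2 (1 : F) hvU
    obtain ⟨m', hm', em', -⟩ := PC.conj_U Q hr1 hr2 (1 : F) (inv_mem hu)
    have hx : v * Q.sys.x r 1 * v⁻¹ ∈ XS Q.sys.x
        (↑(outJ Q J ∩ Q.sys.P.filter (r ≤ ·)) : Set ℕ) := by
      refine XS_inter Q.sys.toUnip (closed_outJ Q J) (CW.closed_from Q r)
        (conj_outJ Q hvU (x_mem_XS (Finset.mem_coe.2 hr) 1)) ?_
      rw [em]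
      exact mul_mem (x_mem_XS (Finset.mem_coe.2 (Finset.mem_filter.2 ⟨PC.mem_P Q hr1 hr2, le_rfl⟩)) 1)
        (XS_mono (fun q hq => Finset.mem_coe.2 (Finset.mem_filter.2 ⟨hq.1, hq.2.le⟩)) hm)
    obtain ⟨r', hr', -, e'⟩ := exists_preimage Q (closed_inter Q (closed_outJ Q J)
      (CW.closed_from Q r)) w hh hx hr1 hr2 one_ne_zero
      (XS_mono (fun q hq => (⟨Q.sys.P_eq ▸ hq.1, hq.2⟩ : q ∈ posSet D ∧ r < q)) hm')
      (show h * Q.sys.rep w * (v * Q.sys.x r 1 * v⁻¹) * (h * Q.sys.rep w)⁻¹ = Q.sys.x r 1 * m' by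
        rw [← em', inv_inv]
        calc _ = u⁻¹ * (c * Q.sys.x r 1 * c⁻¹) * u := by rw [e]; group
          _ = _ := by rw [hc r hr, mul_inv_cancel_right])
    obtain ⟨h1, h2⟩ := Finset.mem_inter.1 hr'
    exact ⟨r', h1, (Finset.mem_filter.1 h2).2, e'⟩
  choose f hf1 hf2 hf3 using key
  have hbij : ∑ r ∈ (outJ Q J).attach, f r.1 r.2 = ∑ r ∈ (outJ Q J).attach, r.1 := by
    have himg : (outJ Q J).attach.image (fun r => f r.1 r.2) = outJ Q J := by
      refine Finset.eq_of_subset_of_card_le (fun q hq => ?_) (le_of_eq ?_)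
      · obtain ⟨r, -, rfl⟩ := Finset.mem_image.1 hq
        exact hf1 _ _
      · rw [Finset.card_image_of_injective _ fun a b hab => Subtype.ext (by
          have := congrArg (img Q w) hab
          rwa [hf3, hf3] at this), Finset.card_attach]
    conv_rhs => rw [Finset.sum_attach (outJ Q J) (fun r => r), ← himg]
    rw [Finset.sum_image fun a _ b _ hab => Subtype.ext (by
      have := congrArg (img Q w) hab
      rwa [hf3, hf3] at this)]
  have hfix : ∀ r ∈ outJ Q J, img Q w r = r := fun r hr => by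
    have h1 := (Finset.sum_eq_sum_iff_of_le fun r (_ : r ∈ (outJ Q J).attach) =>
      hf2 r.1 r.2).1 hbij.symm ⟨r, hr⟩ (Finset.mem_attach _ _)
    have h2 := hf3 r hr
    rwa [← h1] at h2
  by_cases hw : w = 1
  · subst hw
    rw [Q.sys.Uw_one, Subgroup.mem_bot] at hv
    exact ⟨u, hu, h, hh, by rw [e, hv, Q.sys.rep_one, mul_one, mul_one]⟩
  exfalso
  obtain ⟨i, hi, hneg⟩ := Q.X.good.exists_descent hw
  have hi' : i < D.rank := Q.rank_eq.symm ▸ hi
  have hs := Q.K.simple_lt i hi'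
  by_cases hiJ : i ∈ J
  · obtain ⟨r, hr1, hr2, hout, hlow⟩ := PC.exists_lowered Q hS hlink hJ hi'
    rw [Q.K.w_reflect i hi' r hr1] at hlow
    have hne : r ≠ D.simple i := fun e => hout ((Chev.inRootSub_iff Q.X.good Q.K hS).2 ⟨hr1,
      fun m hm hmJ => by
        rw [e, Q.K.cf_simple i hi' m hm, if_neg (fun e => hmJ (by rw [e]; exact hiJ))]⟩)
    set r' := Q.K.w i r with hr'
    have hr'1 := (Q.K.w_lt i hi' r hr1).1
    have hmemr : r ∈ outJ Q J := (mem_outJ Q).2 ⟨hr1, hr2,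
      fun h => hout ((Chev.inRootSub_iff Q.X.good Q.K hS).2 ⟨hr1, h⟩)⟩
    have hmemr' : r' ∈ outJ Q J := (mem_outJ Q).2 ⟨hr'1, Q.K.w_pos i hi' r hr1 hr2 hne,
      fun h => hout ((Chev.inRootSub_iff Q.X.good Q.K hS).2 ⟨hr1, fun m hm hmJ => by
        have := h m hm hmJ
        rwa [hr', Q.K.cf_w i hi' r hr1 m hm, if_neg (fun e => hmJ (by rw [e]; exact hiJ)),
          sub_zero] at this⟩)⟩
    set a : Fin D.rank → ℝ := fun m => if (m : ℕ) = i then 1 else 0 with ha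
    have hphi : ∀ q : Fin D.nroots, CoW.phi Q a q = (Q.K.cf q i : ℝ) := fun q => by
      rw [CoW.phi, Finset.sum_eq_single (⟨i, hi'⟩ : Fin D.rank)]
      · simp [ha]
      · intro k _ hk
        simp [ha, show (k : ℕ) ≠ i from fun h => hk (Fin.ext h)]
      · simp
    set ψ := fun q => CoW.phi Q a (Q.X.good.hom w q) with hψ
    have hψL : CoW.Lin Q ψ := CoW.lin_hom Q (CoW.lin_phi Q a) w
    have hfixF : ∀ q (hq : q < D.nroots), q ∈ outJ Q J → ψ ⟨q, hq⟩ = (Q.K.cf q i : ℝ) := by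
      intro q hq hmem
      have := hfix q hmem
      rw [img_of_lt Q w hq] at this
      rw [hψ]
      simp only [hphi, this]
    have h3 := congrFun hψL ⟨r, hr1⟩
    have h4 := congrFun hψL ⟨r', hr'1⟩
    rw [hfixF r hr1 hmemr] at h3
    rw [hfixF r' hr'1 hmemr'] at h4
    simp only [CoW.phi] at h3 h4
    have h5 : ψ (CoW.sroot Q ⟨i, hi'⟩) = (Q.K.cf (Q.X.good.hom w ⟨D.simple i, hs.1⟩).val i : ℝ) :=
      hphi _
    have hcf : ∀ m : Fin D.rank, (Q.K.cf r' m : ℝ) =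
        (Q.K.cf r m : ℝ) - if (m : ℕ) = i then (D.cartan i r : ℝ) else 0 := fun m => by
      rw [hr', Q.K.cf_w i hi' r hr1 m m.isLt]
      split_ifs <;> push_cast <;> ring
    simp only [hcf, mul_sub, Finset.sum_sub_distrib, if_true] at h4
    rw [Finset.sum_eq_single (a := (⟨i, hi'⟩ : Fin D.rank))
      (f := fun m : Fin D.rank => ψ (CoW.sroot Q m) * if (m : ℕ) = i then (D.cartan i r : ℝ) else 0)
      (fun k _ hk => by simp [show (k : ℕ) ≠ i from fun h => hk (Fin.ext h)]) (by simp),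
      if_pos rfl, ← h3, h5] at h4
    have hA : D.cartan i r ≠ 0 := fun h0 => hlow.ne (Q.K.eq_of_cf hr'1 hr1 fun m hm => by
      rw [hr', Q.K.cf_w i hi' r hr1 m hm, h0]; simp)
    have hneg' : Q.K.cf (Q.X.good.hom w ⟨D.simple i, hs.1⟩).val i ≤ 0 := by
      set q := (Q.X.good.hom w ⟨D.simple i, hs.1⟩) with hq
      have hqn : q.val < D.nroots / 2 := hneg
      have h6 := Q.K.cf_nonneg (D.neg q.val) (Q.K.neg_lt q.isLt)
        (by rw [Q.K.neg_eq _ q.isLt]; omega) i hi'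
      rw [Q.K.cf_neg _ q.isLt i hi'] at h6
      omega
    have h7 : ((D.cartan i r : ℝ)) * ((Q.K.cf (Q.X.good.hom w ⟨D.simple i, hs.1⟩).val i : ℝ) - 1) = 0 := by
      have h4' := hcf ⟨i, hi'⟩
      rw [if_pos rfl] at h4'
      change (Q.K.cf r' i : ℝ) = (Q.K.cf r i : ℝ) - (D.cartan i r : ℝ) at h4'
      linarith
    rcases mul_eq_zero.1 h7 with h8 | h8
    · exact hA (by exact_mod_cast h8)
    · have : Q.K.cf (Q.X.good.hom w ⟨D.simple i, hs.1⟩).val i = 1 := by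
        exact_mod_cast (sub_eq_zero.1 h8)
      omega
  · have hmem : D.simple i ∈ outJ Q J := (mem_outJ Q).2 ⟨hs.1, hs.2, fun h => by
      have := h i hi' hiJ
      rw [Q.K.cf_simple i hi' i hi', if_pos rfl] at this
      exact one_ne_zero this⟩
    have := hfix _ hmem
    rw [img_of_lt Q w hs.1] at this
    have := hs.2
    omega

variable {σ}

/-- Without further unipotent elements, `H` meets the Borel subgroup in fixed points. -/
theorem fixed_of_mem_B {H : Subgroup ↥(D.group F)} (hfix : fixG Q σ ≤ H)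
    (hHU : ∀ u ∈ Q.sys.U, u ∈ H → u ∈ fixG Q σ) {u h : ↥(D.group F)} (hu : u ∈ Q.sys.U)
    (hh : h ∈ Q.sys.H) (hH : u * h ∈ H) : u * h ∈ fixG Q σ := by
  suffices hhfix : h ∈ fixG Q σ by
    have huH : u ∈ H := by
      have := mul_mem hH (inv_mem (hfix hhfix))
      rwa [mul_inv_cancel_right] at this
    exact mul_mem (hHU u hu huH) hhfix
  have hcomm : ∀ r, r < D.nroots → D.nroots / 2 ≤ r →
      h⁻¹ * frob Q σ h * Q.sys.x r 1 = Q.sys.x r 1 * (h⁻¹ * frob Q σ h) := by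
    intro r hr hp
    obtain ⟨t, et⟩ := Q.sys.h_conj h hh r hr 1
    obtain ⟨m, hm, em, -⟩ := PC.conj_U Q hr hp t hu
    have hconj : u * h * Q.sys.x r 1 * (u * h)⁻¹ = Q.sys.x r t * m := by
      rw [← em, ← et]; group
    have hm' : m ∈ Q.sys.U := XS_mono (fun q hq => Finset.mem_coe.2 (Q.sys.P_eq ▸ hq.1)) hm
    have hmem := hHU _ (mul_mem (Q.sys.x_mem_U hr hp t) hm')
      (hconj ▸ mul_mem (mul_mem hH (hfix (x_mem_fixG Q σ r (map_one σ)))) (inv_mem hH))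
    rw [mem_fixG, map_mul, frob_x] at hmem
    obtain ⟨et', -⟩ := Q.sys.toUnip.head_unique Q.sys.toUnip.closed_P (PC.mem_P Q hr hp)
      (frob_XS Q σ hm) hm hmem
    have e2 := congrArg (frob Q σ) et
    rw [map_mul, map_mul, map_inv, frob_x, frob_x, map_one, et', ← et] at e2
    calc h⁻¹ * frob Q σ h * Q.sys.x r 1
        = h⁻¹ * (frob Q σ h * Q.sys.x r 1 * (frob Q σ h)⁻¹) * frob Q σ h := by group
      _ = _ := by rw [e2]; group
  have h1 : (⟨_, (h⁻¹ * frob Q σ h).2⟩ : ↥(D.group F)) = 1 := by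
    refine Subtype.ext (Q.faithful (mul_mem (inv_mem hh) (frob_H Q σ hh)) fun r hr hp => ?_)
    exact congrArg Subtype.val (hcomm r hr hp)
  rw [mem_fixG]
  exact (inv_mul_eq_one.1 h1).symm

/-- Without further unipotent elements, `H` meets every proper parabolic subgroup in fixed
points. -/
theorem fixed_of_mem_parabolic [Finite F] (hS : Chev.Sup Q.X.C D Q.X.n)
    (hlink : PC.linkB D = true) {J : Set ℕ} (hJ : ∃ i, i < D.rank ∧ i ∉ J)
    {H : Subgroup ↥(D.group F)} (hrat : HasRat Q σ H)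
    (hHU : ∀ u ∈ Q.sys.U, u ∈ H → u ∈ fixG Q σ)
    (hborel : ∀ u ∈ Q.sys.U, ∀ h ∈ Q.sys.H, u * h ∈ H → u * h ∈ fixG Q σ)
    {g : ↥(D.group F)} (hg : g ∈ H)
    (hgP : (g : GL D.Idx F) ∈ D.parabolicSubgroup F J) : g ∈ fixG Q σ := by
  have hc : ∀ r ∈ outJ Q J, frob Q σ g * g⁻¹ * Q.sys.x r 1 =
      Q.sys.x r 1 * (frob Q σ g * g⁻¹) := by
    intro r hr
    obtain ⟨hr1, hr2, hout⟩ := (mem_outJ Q).1 hr
    have hxR : ((Q.sys.x r 1 : ↥(D.group F)) : GL D.Idx F) ∈ D.unipotentRadical F J :=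
      Subgroup.subset_closure ⟨r, 1, (Q.ord.isPosRoot_iff r).2 ⟨hr1, hr2⟩,
        fun h => hout ((Chev.inRootSub_iff Q.X.good Q.K hS).1 h).2, Q.K.coe_xU F r 1⟩
    have hy : g⁻¹ * Q.sys.x r 1 * g ∈ Q.sys.U := by
      have h2 := Q.radical_le_pos hS ((Subgroup.mem_normalizer_iff.1
        (Q.parabolic_le_normalizer hS (inv_mem hgP)) _).1 hxR)
      show _ ∈ Q.amb.U
      rw [Q.amb_U, Subgroup.mem_subgroupOf]
      simpa using h2
    have h3 := hHU _ hy (mul_mem (mul_mem (inv_mem hg)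
      (hrat.one r)) hg)
    rw [mem_fixG, map_mul, map_mul, map_inv, frob_x, map_one] at h3
    calc frob Q σ g * g⁻¹ * Q.sys.x r 1 = frob Q σ g * (g⁻¹ * Q.sys.x r 1 * g) * g⁻¹ := by group
      _ = _ := by rw [← h3]; group
  obtain ⟨uc, huc, hc', hhc, ec⟩ := commute_mem_B Q hS hlink hJ hc
  obtain ⟨u, hu, h, hh, w, v, hv, e⟩ := Q.sys.normalForm.exists_eq g
  change u ∈ Q.sys.U at hu
  change h ∈ Q.sys.H at hh
  change v ∈ Q.sys.Uw w at hv
  change g = u * h * Q.sys.rep w * v at e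
  obtain ⟨k, hk, hkfix, hkH⟩ := exists_rat_rep Q σ hrat w
  have eg : g = u * (h * k⁻¹) * (k * Q.sys.rep w) * v := by rw [e]; group
  have e1 : frob Q σ g = frob Q σ u * (frob Q σ (h * k⁻¹) * k) * Q.sys.rep w * frob Q σ v := by
    conv_lhs => rw [eg]
    rw [map_mul, map_mul, map_mul, (mem_fixG Q σ).1 hkfix]
    group
  have e2 : frob Q σ g = (uc * (hc' * u * hc'⁻¹)) * (hc' * h) * Q.sys.rep w * v := by
    calc frob Q σ g = frob Q σ g * g⁻¹ * g := by group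
      _ = _ := by rw [ec, e]; group
  obtain ⟨-, -, -, hvv⟩ := Q.sys.normalForm.unique (frob_XS Q σ hu)
    (mul_mem huc (Q.sys.H_conj_U hhc hu)) (mul_mem (frob_H Q σ (mul_mem hh (inv_mem hk))) hk)
    (mul_mem hhc hh) (frob_XS Q σ hv) hv (e1.symm.trans e2)
  have hB : u * (h * k⁻¹) ∈ H := by
    rw [show u * (h * k⁻¹) = g * v⁻¹ * (k * Q.sys.rep w)⁻¹ by rw [eg]; group]
    exact mul_mem (mul_mem hg (inv_mem (hrat.mem_of_fixed Q σ (Q.sys.Uw_le w hv) hvv)))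
      (inv_mem hkH)
  rw [eg]
  exact mul_mem (mul_mem (hborel u hu _ (mul_mem hh (inv_mem hk)) hB) hkfix) hvv

end Cfsg.Agent.H51.Sub
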