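import Cfsg.Agent.H51.SubMax.Leading

/-!
The part in the Borel subgroup of a subgroup with the rational root elements.
-/

set_option autoImplicit false
set_option maxRecDepth 100000

namespace Cfsg.Agent.H51.Sub

open Cfsg.Lie Cfsg.Agent.H37 Cfsg.Agent.H37.RootSys

/-- The negative fundamental root `r` takes the root `k` into positive roots, the lowest one
linearly, and commutes with the other central roots. -/
def negWitB (D : ChevalleyDatum) (U Z : List ℤ) (Zs : List ℕ) (k r : ℕ) : Bool :=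
  decide (r < D.nroots) && k != r && k != D.neg r &&
  (Zs.all fun l => l == k || (l != r && l != D.neg r &&
    (D.commTerms r l).all fun q => Z.contains q.2.1)) &&
  (let L := (D.commTerms r k).filter fun q => !Z.contains q.2.1
   (L.all fun q => decide (D.nroots / 2 ≤ q.1) && decide (q.1 < D.nroots)) &&
   (List.range L.length).any fun n =>
    match L.drop n with
    | [] => false
    | q :: post => U.contains q.2.1 && q.2.2.2 == 1 &&
        (L.take n ++ post).all fun q' => decide (q.1 < q'.1))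

/-- Every central root has such a negative root. -/
def negB (D : ChevalleyDatum) (U Z : List ℤ) (Zs : List ℕ) : Bool :=
  Zs.all fun k => (List.range D.rank).any fun i => negWitB D U Z Zs k (D.neg (D.simple i))

variable {D : ChevalleyDatum} {F : Type*} [Field F] (Q : Chev.Data D F) {σ : F →+* F}
  {H : Subgroup ↥(D.group F)}

/-- The coordinate at `k` of a central element of `H` times a fixed diagonal element is fixed. -/
theorem coord_fixed {U Z : List ℤ} {Zs : List ℕ} (hU : ∀ c ∈ U, (c : F) ≠ 0)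
    (hZ : ∀ c ∈ Z, (c : F) = 0) (hc : centB D U Z Zs = true) (hrat : HasRat Q σ H)
    (hHU : ∀ u ∈ Q.sys.U, u ∈ H → u ∈ fixG Q σ) {k r : ℕ} (hk : k ∈ Zs)
    (hw : negWitB D U Z Zs k r = true) {z rest h : ↥(D.group F)} {a : F}
    (hz : z = Q.sys.x k a * rest) (hrest : rest ∈ XS Q.sys.x {l | l ∈ Zs ∧ l ≠ k})
    (hh : h ∈ Q.sys.H) (hhf : h ∈ fixG Q σ) (hzh : z * h ∈ H) : σ a = a := by
  simp only [negWitB, Bool.and_eq_true, decide_eq_true_eq, bne_iff_ne, ne_eq, List.all_eq_true,
    List.any_eq_true, List.mem_range, Bool.or_eq_true, beq_iff_eq, List.contains_iff_mem] at hw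
  obtain ⟨⟨⟨⟨hr, hkr⟩, hkr'⟩, hothers⟩, hrange, n, hnlen, hmatch⟩ := hw
  have hk' : k < D.nroots ∧ D.nroots / 2 ≤ k := by
    simp only [centB, Bool.and_eq_true, decide_eq_true_eq, List.all_eq_true] at hc
    exact ⟨(hc.2 k hk).1.2, (hc.2 k hk).1.1⟩
  -- the image of the root element
  obtain ⟨c, hcx⟩ := Q.sys.h_conj h hh r hr 1
  have hcf : σ c = c := by
    have h1 := congrArg (frob Q σ) hcx
    rw [map_mul, map_mul, map_inv, frob_x, frob_x, map_one, (mem_fixG Q σ).1 hhf, hcx] at h1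
    have h2 : Q.sys.x r (σ c + -c) = 1 := by
      rw [Q.sys.x_add' r hr, ← h1,
        show Q.sys.x r (-c) = (Q.sys.x r c)⁻¹ from (eq_inv_of_mul_eq_one_left (by
          rw [← Q.sys.x_add' r hr, neg_add_cancel, Q.sys.x_zero' hr])), mul_inv_cancel]
    have h3 := (Q.K.xU_eq_one_iff F hr _).1 (congrArg Subtype.val h2)
    linear_combination h3
  have hc0 : c ≠ 0 := by
    intro h0
    rw [h0, Q.sys.x_zero' hr, conj_eq_one_iff] at hcx
    exact one_ne_zero ((Q.K.xU_eq_one_iff F hr (1 : F)).1 (congrArg Subtype.val hcx))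
  set y := Q.sys.x r c with hy
  have hmem : y⁻¹ * z * y * z⁻¹ ∈ H := by
    have e : z * y * z⁻¹ = z * h * Q.sys.x r 1 * (z * h)⁻¹ := by rw [← hcx]; group
    have := mul_mem (inv_mem (hrat r c hcf))
      (e ▸ mul_mem (mul_mem hzh (hrat.one r)) (inv_mem hzh))
    rwa [← mul_assoc, ← mul_assoc, ← hy] at this
  have hcomm : rest * y = y * rest := by
    have hle : XS Q.sys.x {l | l ∈ Zs ∧ l ≠ k} ≤ Subgroup.centralizer {y} :=
      XS_le fun l hl b => by
        rw [Subgroup.mem_centralizer_singleton_iff]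
        rcases hothers l hl.1 with h1 | ⟨⟨h1, h2⟩, h3⟩
        · exact absurd h1 hl.2
        · have hl' : l < D.nroots := by
            simp only [centB, Bool.and_eq_true, decide_eq_true_eq, List.all_eq_true] at hc
            exact (hc.2 l hl.1).1.2
          have e := x_conj_eq Q hr hl' h1 h2 c b
          rw [List.prod_eq_one (fun g hg => by
            obtain ⟨q, hq, rfl⟩ := List.mem_map.1 hg
            rw [hZ _ (h3 q hq), zero_mul, zero_mul]
            exact Subtype.ext (Q.K.xU_zero F _)), mul_one, mul_assoc,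
            inv_mul_eq_iff_eq_mul] at e
          exact e
    exact Subgroup.mem_centralizer_singleton_iff.1 (hle hrest)
  set L := (D.commTerms r k).filter (fun q => !Z.contains q.2.1) with hL
  set f : ℕ × ℤ × ℕ × ℕ → ↥(D.group F) := fun q =>
    Q.sys.x q.1 ((q.2.1 : F) * (-c) ^ q.2.2.1 * a ^ q.2.2.2) with hf
  have hLprod : ((D.commTerms r k).map fun q =>
      Q.sys.x q.1 ((q.2.1 : F) * (-c) ^ q.2.2.1 * a ^ q.2.2.2)).prod = (L.map f).prod := by
    rw [hL]
    generalize D.commTerms r k = M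
    induction M with
    | nil => rfl
    | cons q M ih =>
      rw [List.filter_cons, List.map_cons, List.prod_cons, ih]
      split_ifs with hq
      · rw [List.map_cons, List.prod_cons]
      · simp only [Bool.not_eq_true', Bool.not_eq_false, List.contains_iff_mem] at hq
        have h0 : Q.sys.x q.1 ((q.2.1 : F) * (-c) ^ q.2.2.1 * a ^ q.2.2.2) = 1 := by
          rw [hZ _ hq, zero_mul, zero_mul]
          exact Subtype.ext (Q.K.xU_zero F _)
        rw [h0, one_mul]
  have hP : (L.map f).prod ∈ Q.sys.U := Subgroup.list_prod_mem _ fun g hg => by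
    obtain ⟨q, hq, rfl⟩ := List.mem_map.1 hg
    exact Q.sys.x_mem_U (hrange q hq).2 (hrange q hq).1 _
  have hP' : y⁻¹ * z * y * z⁻¹ = (L.map f).prod := by
    calc y⁻¹ * z * y * z⁻¹
        = y⁻¹ * Q.sys.x k a * (rest * y) * rest⁻¹ * (Q.sys.x k a)⁻¹ := by rw [hz]; group
      _ = (y⁻¹ * Q.sys.x k a * y) * (Q.sys.x k a)⁻¹ := by rw [hcomm]; group
      _ = Q.sys.x k a * (L.map f).prod * (Q.sys.x k a)⁻¹ := by
          rw [hy, x_conj_eq Q hr hk'.1 hkr hkr' c a, hLprod]
      _ = _ := by rw [← central_of_centB Q hZ hc hk a hP, mul_inv_cancel_right]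
  rw [hP'] at hmem
  have hfixP := hHU _ hP hmem
  -- the lowest coordinate
  cases hdrop : L.drop n with
  | nil => rw [hdrop] at hmatch; exact absurd hmatch Bool.false_ne_true
  | cons q post =>
  rw [hdrop] at hmatch
  simp only [Bool.and_eq_true, List.contains_iff_mem, beq_iff_eq, List.all_eq_true,
    decide_eq_true_eq] at hmatch
  obtain ⟨⟨hqU, hq1⟩, hlow⟩ := hmatch
  have hsplit : L = L.take n ++ q :: post := by rw [← hdrop, List.take_append_drop]
  have hqL : q ∈ L := by
    rw [hsplit]; exact List.mem_append_right _ (List.mem_cons_self ..)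
  obtain ⟨hqp, hqn⟩ := hrange q hqL
  have htail : ∀ q' ∈ L.take n ++ post, f q' ∈ tailU Q q.1 := fun q' hq' => by
    have hq'L : q' ∈ L := by
      rw [hsplit]
      rcases List.mem_append.1 hq' with h1 | h1
      · exact List.mem_append_left _ h1
      · exact List.mem_append_right _ (List.mem_cons_of_mem _ h1)
    exact x_term_mem Q hqp ⟨hlow q' hq', (hrange q' hq'L).2⟩ _
  have hpre : ((L.take n).map f).prod ∈ tailU Q q.1 := Subgroup.list_prod_mem _ fun g hg => by
    obtain ⟨q', hq', rfl⟩ := List.mem_map.1 hg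
    exact htail q' (List.mem_append_left _ hq')
  have hpost : (post.map f).prod ∈ tailU Q q.1 := Subgroup.list_prod_mem _ fun g hg => by
    obtain ⟨q', hq', rfl⟩ := List.mem_map.1 hg
    exact htail q' (List.mem_append_right _ hq')
  set w := (f q)⁻¹ * ((L.take n).map f).prod * f q * (post.map f).prod with hwdef
  have hwT : w ∈ tailU Q q.1 := by
    have h1 := tailU_conj Q hqn hqp (inv_mem (Q.sys.x_mem_U hqn hqp
      ((q.2.1 : F) * (-c) ^ q.2.2.1 * a ^ q.2.2.2))) hpre
    rw [inv_inv] at h1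
    exact mul_mem h1 hpost
  have heq : (L.map f).prod = f q * w := by
    conv_lhs => rw [hsplit]
    rw [hwdef, List.map_append, List.prod_append, List.map_cons, List.prod_cons]
    group
  rw [mem_fixG, heq, map_mul, hf, frob_x] at hfixP
  obtain ⟨h0, -⟩ := Q.sys.toUnip.head_unique Q.sys.toUnip.closed_P (PC.mem_P Q hqn hqp)
    (frob_XS Q σ hwT) hwT hfixP
  rw [hq1, pow_one, map_mul, map_mul, map_intCast, map_pow, map_neg, hcf] at h0
  exact mul_left_cancel₀ (mul_ne_zero (hU _ hqU) (pow_ne_zero _ (neg_ne_zero.2 hc0))) h0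

variable [Finite F]

/-- `H` meets the Borel subgroup in fixed points. -/
theorem borel_fixed {U Z : List ℤ} {Zs : List ℕ} (hU : ∀ c ∈ U, (c : F) ≠ 0)
    (hZ : ∀ c ∈ Z, (c : F) = 0) (hc : centB D U Z Zs = true) (hn : negB D U Z Zs = true)
    (hZs : Zs.length ≤ 2) (hrat : HasRat Q σ H)
    (hHU : ∀ u ∈ Q.sys.U, u ∈ H → u ∈ fixG Q σ) {u h : ↥(D.group F)} (hu : u ∈ Q.sys.U)
    (hh : h ∈ Q.sys.H) (hH : u * h ∈ H) : u * h ∈ fixG Q σ := by
  classical
  -- the diagonal part is fixed
  have step : ∀ r, r < D.nroots → D.nroots / 2 ≤ r → ∀ a, σ a = a →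
      ∃ t, σ t = t ∧ h * Q.sys.x r a * h⁻¹ = Q.sys.x r t ∧
        u * Q.sys.x r t * u⁻¹ ∈ fixG Q σ := by
    intro r hr hp a ha
    obtain ⟨t, et⟩ := Q.sys.h_conj h hh r hr a
    obtain ⟨m, hm, em, -⟩ := PC.conj_U Q hr hp t hu
    have hconj : u * h * Q.sys.x r a * (u * h)⁻¹ = Q.sys.x r t * m := by
      rw [← em, ← et]; group
    have hm' : m ∈ Q.sys.U := XS_mono (fun q hq => Finset.mem_coe.2 (Q.sys.P_eq ▸ hq.1)) hm
    have hmem := hHU _ (mul_mem (Q.sys.x_mem_U hr hp t) hm')
      (hconj ▸ mul_mem (mul_mem hH (hrat r a ha)) (inv_mem hH))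
    have hmem' : u * Q.sys.x r t * u⁻¹ ∈ fixG Q σ := em ▸ hmem
    rw [mem_fixG, map_mul, frob_x] at hmem
    obtain ⟨et', -⟩ := Q.sys.toUnip.head_unique Q.sys.toUnip.closed_P (PC.mem_P Q hr hp)
      (frob_XS Q σ hm) hm hmem
    exact ⟨t, et', et, hmem'⟩
  have hhfix : h ∈ fixG Q σ := by
    have hcomm : ∀ r, r < D.nroots → D.nroots / 2 ≤ r →
        h⁻¹ * frob Q σ h * Q.sys.x r 1 = Q.sys.x r 1 * (h⁻¹ * frob Q σ h) := by
      intro r hr hp
      obtain ⟨t, et', et, -⟩ := step r hr hp 1 (map_one σ)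
      have e2 := congrArg (frob Q σ) et
      rw [map_mul, map_mul, map_inv, frob_x, frob_x, map_one, et', ← et] at e2
      calc h⁻¹ * frob Q σ h * Q.sys.x r 1
          = h⁻¹ * (frob Q σ h * Q.sys.x r 1 * (frob Q σ h)⁻¹) * frob Q σ h := by group
        _ = _ := by rw [e2]; group
    have h1 : (⟨_, (h⁻¹ * frob Q σ h).2⟩ : ↥(D.group F)) = 1 := by
      refine Subtype.ext (Q.faithful (mul_mem (inv_mem hh) (frob_H Q σ hh)) fun r hr hp => ?_)
      exact congrArg Subtype.val (hcomm r hr hp)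
    rw [mem_fixG]
    exact (inv_mul_eq_one.1 h1).symm
  -- the unipotent part commutes up to the fixed points
  have hcu : ∀ r, r < D.nroots → D.nroots / 2 ≤ r →
      u⁻¹ * frob Q σ u * Q.sys.x r 1 = Q.sys.x r 1 * (u⁻¹ * frob Q σ u) := by
    intro r hr hp
    choose g hg1 hg2 hg3 using fun a : {a : F // σ a = a} => step r hr hp a.1 a.2
    have hinj : Function.Injective fun a => (⟨g a, hg1 a⟩ : {a : F // σ a = a}) := by
      intro a b hab
      have e : g a = g b := congrArg Subtype.val hab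
      have h1 : Q.sys.x r (a : F) = Q.sys.x r (b : F) := by
        have := hg2 a
        rw [e, ← hg2 b] at this
        exact mul_left_cancel (mul_right_cancel this)
      obtain ⟨h2, -⟩ := Q.sys.toUnip.head_unique Q.sys.toUnip.closed_P (PC.mem_P Q hr hp)
        (t := (a : F)) (u := (b : F)) (one_mem _) (one_mem _) (by rw [h1])
      exact Subtype.ext h2
    obtain ⟨a, ha⟩ := Finite.injective_iff_surjective.1 hinj ⟨1, map_one σ⟩
    have h3 := hg3 a
    rw [show g a = 1 from congrArg Subtype.val ha, mem_fixG, map_mul, map_mul, map_inv, frob_x,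
      map_one] at h3
    calc u⁻¹ * frob Q σ u * Q.sys.x r 1
        = u⁻¹ * (frob Q σ u * Q.sys.x r 1 * (frob Q σ u)⁻¹) * frob Q σ u := by group
      _ = _ := by rw [h3]; group
  obtain ⟨f, hf, z, hz, e⟩ := split_rational Q hU hZ hc hu hcu
  have hc' := hc
  simp only [centB, Bool.and_eq_true, decide_eq_true_eq, List.all_eq_true] at hc'
  have hzU : z ∈ Q.sys.U := XS_mono (fun r hr =>
    Finset.mem_coe.2 (mem_posSet.2 ⟨(hc'.2 r hr).1.2, (hc'.2 r hr).1.1⟩)) hz
  have hfH : f ∈ H := hrat.mem_of_fixed Q σ (by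
    rw [show f = u * z⁻¹ by rw [e, mul_inv_cancel_right]]
    exact mul_mem hu (inv_mem hzU)) hf
  have hzh : z * h ∈ H := by
    rw [show z * h = f⁻¹ * (u * h) by rw [e]; group]
    exact mul_mem (inv_mem hfH) hH
  suffices hzf : z ∈ fixG Q σ by
    rw [e]; exact mul_mem (mul_mem hf hzf) hhfix
  simp only [negB, List.all_eq_true, List.any_eq_true, List.mem_range] at hn
  have hxlt : ∀ {k}, k ∈ Zs → k < D.nroots := fun {k} hk => (hc'.2 k hk).1.2
  have hcomm : ∀ {k l}, k ∈ Zs → l ∈ Zs → ∀ a b : F,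
      Q.sys.x k a * Q.sys.x l b = Q.sys.x l b * Q.sys.x k a := fun {k l} hk hl a b =>
    central_of_centB Q hZ hc hl b (Q.sys.x_mem_U (hxlt hk) (hc'.2 k hk).1.1 a)
  have single : ∀ k ∈ Zs, ∀ a, ∀ rest ∈ XS Q.sys.x {l | l ∈ Zs ∧ l ≠ k},
      z = Q.sys.x k a * rest → σ a = a := fun k hk a rest hr e1 => by
    obtain ⟨i, -, hi⟩ := hn k hk
    exact coord_fixed Q hU hZ hc hrat hHU hk hi e1 hr hh hhfix hzh
  rcases Zs with _ | ⟨k, _ | ⟨l, _ | ⟨m, tl⟩⟩⟩
  rotate_left 3
  · simp at hZs
  · rw [show {r | r ∈ ([] : List ℕ)} = (∅ : Set ℕ) by simp, XS_empty, Subgroup.mem_bot] at hz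
    rw [hz]; exact one_mem _
  · have hle : XS Q.sys.x {r | r ∈ [k]} ≤ XS Q.sys.x {k} :=
      XS_mono fun r hr => by simpa using hr
    have hmem : ∀ y ∈ XS Q.sys.x ({k} : Set ℕ), ∃ a, y = Q.sys.x k a := by
      intro y hy
      induction hy using Subgroup.closure_induction with
      | mem g hg => obtain ⟨r, rfl, t, rfl⟩ := hg; exact ⟨t, rfl⟩
      | one => exact ⟨0, Subtype.ext (Q.K.xU_zero F k).symm⟩
      | mul g g' _ _ ih ih' =>
        obtain ⟨a, rfl⟩ := ih
        obtain ⟨b, rfl⟩ := ih'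
        exact ⟨a + b, Subtype.ext (Q.K.xU_add F k a b)⟩
      | inv g _ ih =>
        obtain ⟨a, rfl⟩ := ih
        refine ⟨-a, inv_eq_of_mul_eq_one_right (Subtype.ext ?_)⟩
        show Q.K.xU F k a * Q.K.xU F k (-a) = 1
        rw [Q.K.xU_add, add_neg_cancel, Q.K.xU_zero]
    obtain ⟨a, ea⟩ := hmem z (hle hz)
    rw [ea]
    exact x_mem_fixG Q σ k (single k (by simp) a 1 (one_mem _) (by rw [ea, mul_one]))
  · by_cases hkl : l = k
    · subst hkl
      have hmem : ∀ y ∈ XS Q.sys.x {r | r ∈ [l, l]}, ∃ a, y = Q.sys.x l a := by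
        intro y hy
        induction hy using Subgroup.closure_induction with
        | mem g hg =>
          obtain ⟨r, hr, t, rfl⟩ := hg
          simp only [Set.mem_setOf_eq, List.mem_cons, List.not_mem_nil, or_false, or_self] at hr
          exact ⟨t, by rw [hr]⟩
        | one => exact ⟨0, Subtype.ext (Q.K.xU_zero F l).symm⟩
        | mul g g' _ _ ih ih' =>
          obtain ⟨a, rfl⟩ := ih
          obtain ⟨b, rfl⟩ := ih'
          exact ⟨a + b, Subtype.ext (Q.K.xU_add F l a b)⟩
        | inv g _ ih =>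
          obtain ⟨a, rfl⟩ := ih
          refine ⟨-a, inv_eq_of_mul_eq_one_right (Subtype.ext ?_)⟩
          show Q.K.xU F l a * Q.K.xU F l (-a) = 1
          rw [Q.K.xU_add, add_neg_cancel, Q.K.xU_zero]
      obtain ⟨a, ea⟩ := hmem z hz
      rw [ea]
      exact x_mem_fixG Q σ l (single l (by simp) a 1 (one_mem _) (by rw [ea, mul_one]))
    have hkn := hxlt (show k ∈ [k, l] by simp)
    have hln := hxlt (show l ∈ [k, l] by simp)
    have hmem : ∀ y ∈ XS Q.sys.x {r | r ∈ [k, l]}, ∃ a b, y = Q.sys.x k a * Q.sys.x l b := by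
      intro y hy
      induction hy using Subgroup.closure_induction with
      | mem g hg =>
        obtain ⟨r, hr, t, rfl⟩ := hg
        simp only [Set.mem_setOf_eq, List.mem_cons, List.not_mem_nil, or_false] at hr
        rcases hr with rfl | rfl
        · exact ⟨t, 0, by rw [Q.sys.x_zero' hln, mul_one]⟩
        · exact ⟨0, t, by rw [Q.sys.x_zero' hkn, one_mul]⟩
      | one => exact ⟨0, 0, by rw [Q.sys.x_zero' hkn, Q.sys.x_zero' hln, one_mul]⟩
      | mul g g' _ _ ih ih' =>
        obtain ⟨a, b, rfl⟩ := ih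
        obtain ⟨a', b', rfl⟩ := ih'
        refine ⟨a + a', b + b', ?_⟩
        rw [Q.sys.x_add' k hkn, Q.sys.x_add' l hln, mul_assoc, ← mul_assoc (Q.sys.x l b),
          ← hcomm (show k ∈ [k, l] by simp) (show l ∈ [k, l] by simp) a' b]
        simp only [mul_assoc]
      | inv g _ ih =>
        obtain ⟨a, b, rfl⟩ := ih
        refine ⟨-a, -b, inv_eq_of_mul_eq_one_right ?_⟩
        rw [mul_assoc, ← mul_assoc (Q.sys.x l b),
          ← hcomm (show k ∈ [k, l] by simp) (show l ∈ [k, l] by simp) (-a) b,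
          mul_assoc (Q.sys.x k (-a)), ← mul_assoc (Q.sys.x k a), ← Q.sys.x_add' k hkn,
          ← Q.sys.x_add' l hln, add_neg_cancel, add_neg_cancel, Q.sys.x_zero' hkn,
          Q.sys.x_zero' hln, one_mul]
    obtain ⟨a, b, eab⟩ := hmem z hz
    rw [eab]
    refine mul_mem (x_mem_fixG Q σ k (single k (by simp) a _
      (x_mem_XS (S := {r | r ∈ [k, l] ∧ r ≠ k}) ⟨by simp, hkl⟩ b) eab))
      (x_mem_fixG Q σ l (single l (by simp) b _
        (x_mem_XS (S := {r | r ∈ [k, l] ∧ r ≠ l}) ⟨by simp, Ne.symm hkl⟩ a)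
        (by rw [eab, hcomm (show k ∈ [k, l] by simp) (show l ∈ [k, l] by simp)])))

end Cfsg.Agent.H51.Sub
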