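import Cfsg.Agent.H51.SubMax.PureTop
import Cfsg.Agent.Chevalley.RankOne
import Mathlib.FieldTheory.Fixed
import Mathlib.FieldTheory.Finite.Basic

/-!
An irrational element of the highest root subgroup generates the whole group together with the
fixed points.
-/

set_option autoImplicit false
set_option maxRecDepth 100000

namespace Cfsg.Agent.H51.Sub

open Cfsg.Lie Cfsg.Agent.H37 Cfsg.Agent.H37.RootSys

/-- An additive subgroup of a finite field containing the fixed field of an automorphism of prime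
order and closed under multiplication is the fixed field or everything. -/
theorem field_gen {F : Type*} [Field F] [Finite F] {σ : F →+* F} {r : ℕ} (hr : r.Prime)
    (hσ : ∀ x, σ^[r] x = x) (A : AddSubgroup F) (hfix : ∀ x, σ x = x → x ∈ A)
    (hmul : ∀ x ∈ A, ∀ y ∈ A, x * y ∈ A) {d : F} (hd : σ d ≠ d) (hdA : d ∈ A) (t : F) :
    t ∈ A := by
  have hb : Function.Bijective σ := ⟨σ.injective, Finite.injective_iff_surjective.1 σ.injective⟩
  let g : F ≃+* F := RingEquiv.ofBijective σ hb
  have hg : ∀ n : ℕ, ∀ x, (g ^ n : F ≃+* F) x = σ^[n] x := by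
    intro n
    induction n with
    | zero => simp
    | succ n ih => intro x; rw [pow_succ', Function.iterate_succ_apply']; exact congrArg g (ih x)
  have hord : orderOf g = r := by
    haveI : Fact r.Prime := ⟨hr⟩
    refine orderOf_eq_prime (RingEquiv.ext fun x => by rw [hg, hσ]; rfl) fun e => hd ?_
    exact congrArg (fun f : F ≃+* F => f d) e
  let G := Subgroup.zpowers g
  have hcard : Nat.card G = r := by rw [Nat.card_zpowers, hord]
  have : Finite G := Nat.finite_of_card_ne_zero (by rw [hcard]; exact hr.ne_zero)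
  have := Fintype.ofFinite G
  have hk : ∀ x : F, x ∈ FixedPoints.subfield G F ↔ σ x = x := by
    intro x
    refine ⟨fun h => h ⟨g, Subgroup.mem_zpowers g⟩, fun h => ?_⟩
    rintro ⟨y, hy⟩
    have : Subgroup.zpowers g ≤ MulAction.stabilizer (F ≃+* F) x :=
      Subgroup.zpowers_le.2 h
    exact this hy
  have hprime : (Module.finrank (FixedPoints.subfield G F) F).Prime := by
    rw [FixedPoints.finrank_eq_card G F, ← Nat.card_eq_fintype_card, hcard]
    exact hr
  let S : Subalgebra (FixedPoints.subfield G F) F :=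
    { carrier := A
      mul_mem' := fun hx hy => hmul _ hx _ hy
      one_mem' := hfix 1 (map_one σ)
      add_mem' := A.add_mem
      zero_mem' := A.zero_mem
      algebraMap_mem' := fun c => hfix _ ((hk _).1 c.2) }
  rcases (Subalgebra.isSimpleOrder_of_finrank_prime _ _ hprime).eq_bot_or_eq_top S with h | h
  · have : d ∈ S := hdA
    rw [h, Algebra.mem_bot] at this
    obtain ⟨c, rfl⟩ := this
    exact absurd ((hk _).1 c.2) hd
  · exact show t ∈ S from h ▸ Algebra.mem_top

variable {D : ChevalleyDatum} {F : Type*} [Field F] (Q : Chev.Data D F) {σ : F →+* F}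

/-- The parameters of the elements of `H` in one root subgroup. -/
def param (H : Subgroup ↥(D.group F)) (r : ℕ) : AddSubgroup F where
  carrier := {t | Q.sys.x r t ∈ H}
  zero_mem' := by
    show Q.sys.x r (0 : F) ∈ H
    rw [show Q.sys.x r (0 : F) = 1 from Subtype.ext (Q.K.xU_zero F r)]
    exact one_mem H
  add_mem' := fun {a b} ha hb => by
    show Q.sys.x r (a + b) ∈ H
    rw [show Q.sys.x r (a + b) = Q.sys.x r a * Q.sys.x r b from
      Subtype.ext (Q.K.xU_add F r a b).symm]
    exact mul_mem ha hb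
  neg_mem' := fun ha => neg_mem Q ha

variable {H : Subgroup ↥(D.group F)}

/-- Words of fundamental representatives move the root elements of `H`. -/
theorem mem_applyW (hrat : HasRat Q σ H) :
    ∀ (w : List ℕ), (∀ i ∈ w, i < D.rank) → ∀ r, r < D.nroots →
      applyW D w r < D.nroots ∧
        ∀ t, Q.sys.x r t ∈ H → Q.sys.x (applyW D w r) t ∈ H := by
  intro w
  induction w with
  | nil => exact fun _ r hr => ⟨hr, fun t h => h⟩
  | cons i w ih =>
    intro h r hr
    obtain ⟨h1, h2⟩ := ih (fun j hj => h j (List.mem_cons_of_mem _ hj)) r hr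
    have hi := h i (List.mem_cons_self ..)
    refine ⟨?_, fun t ht => ?_⟩
    · show D.reflectRoot i (applyW D w r) < D.nroots
      rw [Q.K.w_reflect i hi _ h1]
      exact (Q.K.w_lt i hi _ h1).1
    · obtain ⟨e, he, hn⟩ := ns_conj_sign Q hi h1
      refine of_pm_mem Q he ?_
      show Q.sys.x (D.reflectRoot i (applyW D w r)) (e * t) ∈ H
      rw [← hn t]
      exact mul_mem (mul_mem (hrat.ns i) (h2 t ht))
        (inv_mem (hrat.ns i))

/-- The roots `r` and `s` in the orbit of the last one add up to it. -/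
def ringB (D : ChevalleyDatum) (w1 w2 : List ℕ) : Bool :=
  ((w1 ++ w2).all fun i => decide (i < D.rank)) &&
  (let r := applyW D w1 (D.nroots - 1)
   let s := applyW D w2 (D.nroots - 1)
   s != r && s != D.neg r &&
    match D.commTerms r s with
    | [(k, c, 1, 1)] => k == D.nroots - 1 && (c == 1 || c == -1)
    | _ => false)

/-- Closure under multiplication from such a pair. -/
theorem mul_mem_param (hrat : HasRat Q σ H) {w1 w2 : List ℕ} (h : ringB D w1 w2 = true)
    (hn : 0 < D.nroots) {t u : F} (ht : Q.sys.x (D.nroots - 1) t ∈ H)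
    (hu : Q.sys.x (D.nroots - 1) u ∈ H) : Q.sys.x (D.nroots - 1) (t * u) ∈ H := by
  simp only [ringB, Bool.and_eq_true, List.all_eq_true, decide_eq_true_eq, bne_iff_ne, ne_eq] at h
  obtain ⟨hw, ⟨hne, hne'⟩, hterm⟩ := h
  obtain ⟨hr, hr'⟩ := mem_applyW Q hrat w1 (fun i hi => hw i (List.mem_append_left _ hi))
    (D.nroots - 1) (by omega)
  obtain ⟨hs, hs'⟩ := mem_applyW Q hrat w2 (fun i hi => hw i (List.mem_append_right _ hi))
    (D.nroots - 1) (by omega)
  have hxr := hr' t ht
  have hxs := hs' u hu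
  have := mul_mem (inv_mem hxs) (mul_mem (mul_mem (inv_mem hxr) hxs) hxr)
  rw [x_conj_eq Q hr hs hne hne' t u, inv_mul_cancel_left] at this
  split at hterm
  · rename_i k c heq
    simp only [Bool.and_eq_true, Bool.or_eq_true, beq_iff_eq] at hterm
    obtain ⟨rfl, hc⟩ := hterm
    rw [heq, List.map_cons, List.map_nil, List.prod_cons, List.prod_nil, mul_one] at this
    refine of_pm_mem Q (e := -(c : F)) ?_ ?_
    · rcases hc with rfl | rfl <;> simp
    · simpa [mul_assoc] using this
  · exact absurd hterm Bool.false_ne_true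

/-- Every fundamental root is in the orbit of the last one or is moved by a root of it. -/
def genB (D : ChevalleyDatum) (ws : List (List ℕ)) : Bool :=
  (List.range D.rank).all fun i =>
    let w := ws.getD i []
    let g := applyW D w (D.nroots - 1)
    w.all (fun j => decide (j < D.rank)) && (g == D.simple i ||
      Chevalley.pairingSum D g (D.simple i) == 1 || Chevalley.pairingSum D g (D.simple i) == -1)

/-- All root subgroups over a subfield from the highest one. -/
theorem roots_of_top (hrat : HasRat Q σ H) {ws : List (List ℕ)} (h : genB D ws = true)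
    (hn : 0 < D.nroots) {A : AddSubgroup F} (hinv : ∀ a ∈ A, a⁻¹ ∈ A) (hone : (1 : F) ∈ A)
    (htop : ∀ t ∈ A, Q.sys.x (D.nroots - 1) t ∈ H) :
    ∀ r, r < D.nroots → ∀ t ∈ A, Q.sys.x r t ∈ H := by
  simp only [genB, Bool.and_eq_true, List.all_eq_true, List.mem_range, decide_eq_true_eq,
    Bool.or_eq_true, beq_iff_eq] at h
  have hsimp : ∀ i, i < D.rank → ∀ t ∈ A, Q.sys.x (D.simple i) t ∈ H := by
    intro i hi t htA
    obtain ⟨hw, hcase⟩ := h i hi
    obtain ⟨hg, hg'⟩ := mem_applyW Q hrat (ws.getD i []) hw (D.nroots - 1) (by omega)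
    set γ := applyW D (ws.getD i []) (D.nroots - 1) with hγ
    rcases eq_or_ne γ (D.simple i) with e | e
    · rw [← e]; exact hg' t (htop t htA)
    by_cases ht : t = 0
    · rw [ht, show Q.sys.x (D.simple i) (0 : F) = 1 from Subtype.ext (Q.K.xU_zero F _)]
      exact one_mem H
    have hx : ∀ a ∈ A, Q.sys.x γ a ∈ H := fun a ha => hg' a (htop a ha)
    have hxn : ∀ a ∈ A, Q.sys.x (D.neg γ) a ∈ H := fun a ha => by
      have e1 := Q.K.nU_conj_self F γ hg 1 (-a)
      rw [Units.val_one, inv_one, one_pow, one_mul, neg_neg] at e1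
      have e2 : Q.sys.x (D.neg γ) a = ⟨Q.K.nU F γ 1, Q.K.wU_mem F fun p _ =>
          Q.K.xU_mem_group F p.1 p.2⟩ * Q.sys.x γ (-a) *
          (⟨Q.K.nU F γ 1, Q.K.wU_mem F fun p _ => Q.K.xU_mem_group F p.1 p.2⟩ :
            ↥(D.group F))⁻¹ := Subtype.ext e1.symm
      rw [e2]
      exact mul_mem (mul_mem (hrat.nU γ (map_one σ)) (hx _ (A.neg_mem ha))) (inv_mem (hrat.nU γ (map_one σ)))
    have hnu : ∀ a ∈ A, (⟨Q.K.nU F γ a, Q.K.wU_mem F fun p _ => Q.K.xU_mem_group F p.1 p.2⟩ :
        ↥(D.group F)) ∈ H := fun a ha => by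
      rw [show (⟨Q.K.nU F γ a, Q.K.wU_mem F fun p _ => Q.K.xU_mem_group F p.1 p.2⟩ :
        ↥(D.group F)) = Q.sys.x γ a * Q.sys.x (D.neg γ) (-a⁻¹) * Q.sys.x γ a from
        Subtype.ext (Q.K.nU_eq F _ _)]
      exact mul_mem (mul_mem (hx _ ha) (hxn _ (A.neg_mem (hinv a ha)))) (hx _ ha)
    have scale : ∀ c : Fˣ, (c : F) ∈ A →
        Q.sys.x (D.simple i) (((c ^ Chevalley.pairingSum D γ (D.simple i) : Fˣ) : F) * 1) ∈ H :=
      fun c hcA => by
        have hh := mul_mem (hnu c hcA) (hnu (-1) (A.neg_mem hone))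
        have e1 : Q.sys.x (D.simple i) (((c ^ Chevalley.pairingSum D γ (D.simple i) : Fˣ) : F) * 1) =
            (⟨Q.K.nU F γ c, Q.K.wU_mem F fun p _ => Q.K.xU_mem_group F p.1 p.2⟩ *
              ⟨Q.K.nU F γ (-1), Q.K.wU_mem F fun p _ => Q.K.xU_mem_group F p.1 p.2⟩ :
              ↥(D.group F)) * Q.sys.x (D.simple i) 1 *
            (⟨Q.K.nU F γ c, Q.K.wU_mem F fun p _ => Q.K.xU_mem_group F p.1 p.2⟩ *
              ⟨Q.K.nU F γ (-1), Q.K.wU_mem F fun p _ => Q.K.xU_mem_group F p.1 p.2⟩ :
              ↥(D.group F))⁻¹ := by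
          refine Subtype.ext ?_
          show Q.K.xU F (D.simple i) _ = (Q.K.nU F γ c * Q.K.nU F γ (-1)) * Q.K.xU F (D.simple i) 1 *
            (Q.K.nU F γ c * Q.K.nU F γ (-1))⁻¹
          rw [← Q.K.hU_eq]
          exact (Q.K.hU_conj_xU F hg (Q.K.simple_lt i hi).1 c 1).symm
        rw [e1]
        exact mul_mem (mul_mem hh (hrat.one _)) (inv_mem hh)
    rcases hcase with (h1 | h1) | h1
    · exact absurd h1 e
    · have := scale (Units.mk0 t ht) htA
      rwa [h1, zpow_one, Units.val_mk0, mul_one] at this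
    · have := scale (Units.mk0 t ht)⁻¹ (by rw [Units.val_inv_eq_inv_val, Units.val_mk0]; exact hinv t htA)
      rwa [h1, zpow_neg, zpow_one, inv_inv, Units.val_mk0, mul_one] at this
  have hpos : ∀ r, r < D.nroots → D.nroots / 2 ≤ r → ∀ t ∈ A, Q.sys.x r t ∈ H := by
    intro r
    induction r using Nat.strong_induction_on with
    | _ r ih =>
      intro hr hp t htA
      rcases Q.X.climb r hr hp with ⟨i, hi, rfl⟩ | ⟨i, hi, h1, h2⟩
      · exact hsimp i (Q.rank_eq.symm ▸ hi) t htA
      · have hi' : i < D.rank := Q.rank_eq.symm ▸ hi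
        have hs : Q.X.C.sigma i r < D.nroots := (Q.X.good.sigma_spec hi hr).1
        obtain ⟨e, he, hn'⟩ := ns_conj_sign Q hi' hs
        have hinv : D.reflectRoot i (Q.X.C.sigma i r) = r := by
          rw [Q.K.w_reflect i hi' _ hs, RootSys.sigma_eq_w Q.X.good Q.K hi hr,
            (Q.K.w_lt i hi' r hr).2]
        refine of_pm_mem Q he ?_
        rw [← hinv, ← hn' t]
        exact mul_mem (mul_mem (hrat.ns i) (ih _ h1 hs h2 t htA))
          (inv_mem (hrat.ns i))
  intro r hr t ht
  by_cases hp : D.nroots / 2 ≤ r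
  · exact hpos r hr hp t ht
  have hr' := Q.K.neg_lt (r := r) hr
  have hp' : D.nroots / 2 ≤ D.neg r := by
    rw [Q.K.neg_eq r hr]; have := Q.X.good.even; omega
  have e1 := Q.K.nU_conj_self F _ hr' 1 (-t)
  rw [Units.val_one, inv_one, one_pow, one_mul, neg_neg, Q.K.neg_neg hr] at e1
  rw [show Q.sys.x r t = ⟨Q.K.nU F (D.neg r) 1, Q.K.wU_mem F fun p _ =>
      Q.K.xU_mem_group F p.1 p.2⟩ * Q.sys.x (D.neg r) (-t) *
      (⟨Q.K.nU F (D.neg r) 1, Q.K.wU_mem F fun p _ => Q.K.xU_mem_group F p.1 p.2⟩ :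
        ↥(D.group F))⁻¹ from Subtype.ext e1.symm]
  exact mul_mem (mul_mem (hrat.nU _ (map_one σ)) (hpos _ hr' hp' _ (A.neg_mem ht)))
    (inv_mem (hrat.nU _ (map_one σ)))

/-- The whole group from the highest root subgroup. -/
theorem eq_top_of_top (hrat : HasRat Q σ H) {ws : List (List ℕ)} (h : genB D ws = true)
    (hn : 0 < D.nroots) (htop : ∀ t, Q.sys.x (D.nroots - 1) t ∈ H) : H = ⊤ :=
  RootSys.top_eq Q.X.good Q.K Q.X.climb Q.ord H
    (fun r hr _ t => roots_of_top Q hrat h hn (A := ⊤) (fun _ _ => trivial) trivial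
      (fun t _ => htop t) r hr t trivial)
    fun i _ => hrat.ns i

end Cfsg.Agent.H51.Sub
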