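import Cfsg.Agent.H51.SubMax.Leading
import Cfsg.Agent.H51.SubMax.Closure
import Cfsg.Agent.H51.SubMax.Borel

/-!
The table facts used for the maximality of subfield subgroups.
-/

set_option autoImplicit false
set_option maxRecDepth 100000

namespace Cfsg.Agent.H51.Sub.Cert

open Cfsg.Lie

theorem centG2_two : centB chevG2 [1, -1, 3, -3] [0, 2, -2] [11] = true := by decide +kernel

theorem centG2_three : centB chevG2 [1, -1, 2, -2] [0, 3, -3] [9, 11] = true := by decide +kernel

theorem centG2_big : centB chevG2 [1, -1, 2, -2, 3, -3] [0] [11] = true := by decide +kernel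

theorem centB2_two : centB chevB2 [1, -1] [0, 2, -2] [6, 7] = true := by decide +kernel

theorem centB2_odd : centB chevB2 [1, -1, 2, -2] [0] [7] = true := by decide +kernel

theorem centF4_two : centB chevF4 [1, -1] [0, 2, -2] [44, 47] = true := by decide +kernel

theorem centF4_odd : centB chevF4 [1, -1, 2, -2] [0] [47] = true := by decide +kernel

theorem centD4 : centB chevD4 [1, -1] [0] [23] = true := by decide +kernel

theorem centE6 : centB chevE6 [1, -1] [0] [71] = true := by decide +kernel

theorem centE7 : centB chevE7 [1, -1] [0] [125] = true := by decide +kernel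

theorem centE8 : centB chevE8 [1, -1] [0] [239] = true := by decide +kernel

theorem negG2_two : negB chevG2 [1, -1, 3, -3] [0, 2, -2] [11] = true := by decide +kernel

theorem negG2_three : negB chevG2 [1, -1, 2, -2] [0, 3, -3] [9, 11] = true := by decide +kernel

theorem negG2_big : negB chevG2 [1, -1, 2, -2, 3, -3] [0] [11] = true := by decide +kernel

theorem negB2_two : negB chevB2 [1, -1] [0, 2, -2] [6, 7] = true := by decide +kernel

theorem negB2_odd : negB chevB2 [1, -1, 2, -2] [0] [7] = true := by decide +kernel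

theorem negF4_two : negB chevF4 [1, -1] [0, 2, -2] [44, 47] = true := by decide +kernel

theorem negF4_odd : negB chevF4 [1, -1, 2, -2] [0] [47] = true := by decide +kernel

theorem negD4 : negB chevD4 [1, -1] [0] [23] = true := by decide +kernel

theorem negE6 : negB chevE6 [1, -1] [0] [71] = true := by decide +kernel

theorem negE7 : negB chevE7 [1, -1] [0] [125] = true := by decide +kernel

theorem negE8 : negB chevE8 [1, -1] [0] [239] = true := by decide +kernel

theorem pair_B2 : pairB chevB2 5 4 6 7 [0] [1] = true := by decide +kernel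

theorem pair_F4 : pairB chevF4 29 41 44 47 [3, 2, 1, 2, 3] [0, 1, 2, 1, 0] = true := by
  decide +kernel

theorem ringG2 : ringB chevG2 [1] [0, 1] = true := by decide +kernel

theorem ringD4 : ringB chevD4 [1] [3, 2, 0, 1] = true := by decide +kernel

theorem ringF4 : ringB chevF4 [3] [2, 1, 2, 0, 1, 2, 3] = true := by decide +kernel

theorem ringE6 : ringB chevE6 [1] [3, 4, 5, 2, 3, 4, 0, 2, 3, 1] = true := by decide +kernel

theorem ringE7 :
    ringB chevE7 [0] [2, 3, 4, 5, 6, 1, 3, 4, 5, 2, 3, 4, 1, 3, 2, 0] = true := by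
  decide +kernel

theorem ringE8 : ringB chevE8 [7] [6, 5, 4, 3, 2, 1, 3, 4, 5, 6, 0, 2, 3, 4, 5, 1, 3, 4, 2, 3,
    0, 2, 1, 3, 4, 5, 6, 7] = true := by
  decide +kernel

theorem genG2 : genB chevG2 [[1], []] = true := by decide +kernel

theorem genB2 : genB chevB2 [[], [0]] = true := by decide +kernel

theorem genD4 : genB chevD4 [[1], [], [1], [1]] = true := by decide +kernel

theorem genF4 : genB chevF4 [[1, 2, 3], [2, 3], [3], []] = true := by decide +kernel

theorem genE6 : genB chevE6 [[2, 3, 1], [], [3, 1], [1], [3, 1], [4, 3, 1]] = true := by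
  decide +kernel

theorem genE7 : genB chevE7 [[], [3, 2, 0], [0], [2, 0], [3, 2, 0], [4, 3, 2, 0],
    [5, 4, 3, 2, 0]] = true := by
  decide +kernel

theorem genE8 : genB chevE8 [[2, 3, 4, 5, 6, 7], [3, 4, 5, 6, 7], [3, 4, 5, 6, 7], [4, 5, 6, 7],
    [5, 6, 7], [6, 7], [7], []] = true := by
  decide +kernel

end Cfsg.Agent.H51.Sub.Cert
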