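import Cfsg.Agent.H51.SubMax.Closure

/-!
An irrational element of the highest root subgroup of `B₂` gives all of it.
-/

set_option autoImplicit false
set_option maxRecDepth 100000

namespace Cfsg.Agent.H51.Sub

open Cfsg.Lie Cfsg.Agent.H37 Cfsg.Agent.H37.RootSys

variable {F : Type*} [Field F] [Finite F] (Q : Chev.Data chevB2 F) {σ : F →+* F}
  {H : Subgroup ↥(chevB2.group F)}

omit [Finite F] in
theorem b2_form (t u : F) :
    (Q.sys.x 5 t)⁻¹ * Q.sys.x 4 u * Q.sys.x 5 t =
      Q.sys.x 4 u * (Q.sys.x 6 (t * u) * Q.sys.x 7 (-(t ^ 2 * u))) := by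
  have n8 : chevB2.nroots = 8 := rfl
  rw [x_conj_eq Q (by omega) (by omega) (by omega) (by decide +kernel),
    show chevB2.commTerms 5 4 = [(6, -1, 1, 1), (7, -1, 2, 1)] by decide +kernel]
  simp only [List.map_cons, List.map_nil, List.prod_cons, List.prod_nil, mul_one]
  push_cast
  ring_nf

omit [Finite F] in
theorem b2_short (t u : F) :
    (Q.sys.x 5 t)⁻¹ * Q.sys.x 6 u * Q.sys.x 5 t = Q.sys.x 6 u * Q.sys.x 7 (-(2 * (t * u))) := by
  have n8 : chevB2.nroots = 8 := rfl
  rw [x_conj_eq Q (by omega) (by omega) (by omega) (by decide +kernel),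
    show chevB2.commTerms 5 6 = [(7, 2, 1, 1)] by decide +kernel]
  simp only [List.map_cons, List.map_nil, List.prod_cons, List.prod_nil, mul_one]
  push_cast
  ring_nf

/-- The parameters at the highest root of `B₂` are closed under multiplication. -/
theorem mul_mem_B2 {p : ℕ} [Fact p.Prime] [CharP F p] (hrat : HasRat Q σ H) {t u : F}
    (ht : Q.sys.x 7 t ∈ H) (hu : Q.sys.x 7 u ∈ H) : Q.sys.x 7 (t * u) ∈ H := by
  have n8 : chevB2.nroots = 8 := rfl
  have hfx : ∀ k, ∀ {c : F}, σ c = c → Q.sys.x k c ∈ H := fun k {c} hc =>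
    hrat k c hc
  have hw : ∀ i ∈ [0], i < chevB2.rank := by decide +kernel
  have hw' : ∀ i ∈ [1], i < chevB2.rank := by decide +kernel
  have m74 : ∀ {a}, Q.sys.x 7 a ∈ H → Q.sys.x 4 a ∈ H := fun {a} ha => by
    have := (mem_applyW Q hrat [0] hw 7 (by omega)).2 a ha
    rwa [show applyW chevB2 [0] 7 = 4 by decide +kernel] at this
  have m65 : ∀ {a}, Q.sys.x 6 a ∈ H → Q.sys.x 5 a ∈ H := fun {a} ha => by
    have := (mem_applyW Q hrat [1] hw' 6 (by omega)).2 a ha
    rwa [show applyW chevB2 [1] 6 = 5 by decide +kernel] at this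
  have prod : ∀ {a b}, Q.sys.x 5 a ∈ H → Q.sys.x 4 b ∈ H →
      Q.sys.x 6 (a * b) * Q.sys.x 7 (-(a ^ 2 * b)) ∈ H := fun {a b} ha hb => by
    have := mul_mem (inv_mem hb) (mul_mem (mul_mem (inv_mem ha) hb) ha)
    rwa [b2_form, inv_mul_cancel_left] at this
  -- short roots get the parameters of long ones
  have LS : ∀ {a}, Q.sys.x 7 a ∈ H → Q.sys.x 6 a ∈ H := fun {a} ha => by
    have := mul_mem (prod (hfx 5 (map_one σ)) (m74 ha)) ha
    rwa [one_mul, one_pow, one_mul, x_neg_arg, inv_mul_cancel_right] at this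
  have hone : Q.sys.x 7 (1 : F) ∈ H := hfx 7 (map_one σ)
  set A := param Q H 7 with hA
  change t * u ∈ A
  have hfA : ∀ x, σ x = x → x ∈ A := fun x hx => hfx 7 hx
  by_cases hp : p = 2
  swap
  · -- odd characteristic: a ring
    suffices ∀ a ∈ A, ∀ b ∈ A, a * b ∈ A from this t ht u hu
    intro a ha b hb
    have h5 : Q.sys.x 5 a ∈ H := m65 (LS ha)
    have h6 : Q.sys.x 6 b ∈ H := LS hb
    have := mul_mem (inv_mem h6) (mul_mem (mul_mem (inv_mem h5) h6) h5)
    rw [b2_short, inv_mul_cancel_left] at this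
    have h2 : (2 : F) * (a * b) ∈ A := by
      have h' := neg_mem Q this
      rwa [neg_neg] at h'
    obtain ⟨k, hk⟩ : ∃ k : ℕ, p + 1 = 2 * k := by
      obtain ⟨k, hk⟩ := (Fact.out : p.Prime).odd_of_ne_two hp
      exact ⟨k + 1, by omega⟩
    have h3 := AddSubgroup.nsmul_mem A h2 k
    have hcast : (k : F) * 2 = 1 := by
      have h := congrArg (Nat.cast (R := F)) hk
      push_cast at h
      rw [CharP.cast_eq_zero, zero_add] at h
      rw [mul_comm, ← h]
    rwa [nsmul_eq_mul, ← mul_assoc, hcast, one_mul] at h3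
  subst hp
  have sqA : ∀ {a}, Q.sys.x 6 a ∈ H → a ^ 2 ∈ A := fun {a} ha => by
    have := mul_mem (inv_mem ha) (prod (m65 ha) (m74 hone))
    rw [mul_one, mul_one, CharTwo.neg_eq, inv_mul_cancel_left] at this
    exact this
  have hsurj : ∀ {a}, a ∈ A → ∃ b ∈ A, b ^ 2 = a := by
    intro a ha
    let f : A → A := fun b => ⟨(b : F) ^ 2, sqA (LS b.2)⟩
    have hf : Function.Injective f := fun x y h => by
      have h' : (x : F) ^ 2 = (y : F) ^ 2 := congrArg Subtype.val h
      refine Subtype.ext (CharTwo.add_eq_zero.1 (eq_zero_of_pow_eq_zero (n := 2) ?_))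
      rw [CharTwo.add_sq, h', CharTwo.add_self_eq_zero]
    obtain ⟨b, hb⟩ := Finite.injective_iff_surjective.1 hf ⟨a, ha⟩
    exact ⟨b, b.2, congrArg Subtype.val hb⟩
  have key : ∀ {s u}, s ∈ A → u ∈ A → s * (u ^ 2 + u) ∈ A := by
    intro s u hs hu
    obtain ⟨a, ha, rfl⟩ := hsurj hs
    have h1 := prod (m65 (LS ha)) (m74 hu)
    rw [CharTwo.neg_eq] at h1
    -- move the short factor and commute with `x₄(1)`
    have hm6 := mem_applyW Q hrat [1] hw' 6 (by omega)
    obtain ⟨e6, he6, hn6⟩ := ns_conj_sign Q (i := 1) (r := 6) (by decide +kernel) (by omega)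
    obtain ⟨e7, he7, hn7⟩ := ns_conj_sign Q (i := 1) (r := 7) (by decide +kernel) (by omega)
    have one_of : ∀ {e : F}, (e = 1 ∨ e = -1) → e = 1 := fun h =>
      h.elim id fun h => h.trans (CharTwo.neg_eq 1)
    rw [show chevB2.reflectRoot 1 6 = 5 by decide +kernel] at hn6
    rw [show chevB2.reflectRoot 1 7 = 7 by decide +kernel] at hn7
    have hg := hrat.ns 1
    have h2 : Q.sys.x 5 (a * u) * Q.sys.x 7 (a ^ 2 * u) ∈ H := by
      have hc := mul_mem (mul_mem hg h1) (inv_mem hg)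
      rw [show nG Q.K F 1 * (Q.sys.x 6 (a * u) * Q.sys.x 7 (a ^ 2 * u)) * (nG Q.K F 1)⁻¹ =
        (nG Q.K F 1 * Q.sys.x 6 (a * u) * (nG Q.K F 1)⁻¹) *
          (nG Q.K F 1 * Q.sys.x 7 (a ^ 2 * u) * (nG Q.K F 1)⁻¹) by group,
        hn6, hn7, one_of he6, one_of he7, one_mul, one_mul] at hc
      exact hc
    set y := Q.sys.x 5 (a * u) * Q.sys.x 7 (a ^ 2 * u) with hy
    have h4 := hfx 4 (map_one σ)
    have h3 := mul_mem (inv_mem h4) (mul_mem (mul_mem (inv_mem h2) h4) h2)
    have hc7 : Commute (Q.sys.x 7 (a ^ 2 * u)) (Q.sys.x 4 (1 : F)) := by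
      have := commute_of_terms Q (r := 4) (s := 7) (by omega) (by omega) (by omega)
        (by decide +kernel) (fun q hq => by
          rw [show chevB2.commTerms 4 7 = [] by decide +kernel] at hq; simp at hq) 1 (a ^ 2 * u)
      exact this.symm
    have hc75 : Commute (Q.sys.x 7 (a ^ 2 * u)) (Q.sys.x 5 (a * u)) := by
      have := commute_of_terms Q (r := 5) (s := 7) (by omega) (by omega) (by omega)
        (by decide +kernel) (fun q hq => by
          rw [show chevB2.commTerms 5 7 = [] by decide +kernel] at hq; simp at hq) (a * u)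
        (a ^ 2 * u)
      exact this.symm
    have e : y⁻¹ * Q.sys.x 4 1 * y = Q.sys.x 4 1 * (Q.sys.x 6 (a * u) * Q.sys.x 7 ((a * u) ^ 2)) := by
      rw [hy, ← hc75.eq, mul_inv_rev, show (Q.sys.x 5 (a * u))⁻¹ * (Q.sys.x 7 (a ^ 2 * u))⁻¹ *
          Q.sys.x 4 1 * (Q.sys.x 7 (a ^ 2 * u) * Q.sys.x 5 (a * u)) = (Q.sys.x 5 (a * u))⁻¹ *
          ((Q.sys.x 7 (a ^ 2 * u))⁻¹ * (Q.sys.x 4 1 * Q.sys.x 7 (a ^ 2 * u))) *
            Q.sys.x 5 (a * u) by group, ← hc7.eq, inv_mul_cancel_left, b2_form, mul_one, mul_one,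
        CharTwo.neg_eq]
    rw [e, inv_mul_cancel_left] at h3
    have h6 := mul_mem (inv_mem h1) h3
    rw [mul_inv_rev, mul_assoc, inv_mul_cancel_left, ← x_neg_arg, ← Q.sys.x_add' 7 (by omega),
      CharTwo.neg_eq] at h6
    show Q.sys.x 7 _ ∈ H
    convert h6 using 2
    ring
  have scal : ∀ {c s}, σ c = c → s ∈ A → c * s ∈ A := by
    intro c s hc hs
    by_cases hc0 : c = 0
    · rw [hc0, zero_mul]; exact A.zero_mem
    obtain ⟨x, rfl⟩ : ∃ x, x ^ 2 = c := by
      have : Function.Injective fun x : F => x ^ 2 := fun x y h => by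
        refine CharTwo.add_eq_zero.1 (eq_zero_of_pow_eq_zero (n := 2) ?_)
        rw [CharTwo.add_sq, show x ^ 2 = y ^ 2 from h, CharTwo.add_self_eq_zero]
      exact Finite.injective_iff_surjective.1 this c
    have hx : σ x = x := by
      rw [map_pow] at hc
      refine CharTwo.add_eq_zero.1 (eq_zero_of_pow_eq_zero (n := 2) ?_)
      rw [CharTwo.add_sq, hc, CharTwo.add_self_eq_zero]
    have hx0 : x ≠ 0 := fun h => hc0 (by rw [h]; ring)
    have hh : (⟨Q.K.hU F 5 x, Q.K.wU_mem F fun p _ => Q.K.xU_mem_group F p.1 p.2⟩ :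
        ↥(chevB2.group F)) ∈ H := hrat.hU 5 hx
    have e := Q.K.hU_conj_xU F (r := 5) (s := 7) (by omega) (by omega) (Units.mk0 x hx0) s
    rw [show Chevalley.pairingSum chevB2 5 7 = 2 by decide +kernel, zpow_two, Units.val_mul,
      Units.val_mk0, ← pow_two] at e
    show Q.sys.x 7 (x ^ 2 * s) ∈ H
    rw [show Q.sys.x 7 (x ^ 2 * s) = ⟨Q.K.hU F 5 x, Q.K.wU_mem F fun p _ =>
      Q.K.xU_mem_group F p.1 p.2⟩ * Q.sys.x 7 s * (⟨Q.K.hU F 5 x, Q.K.wU_mem F fun p _ =>
        Q.K.xU_mem_group F p.1 p.2⟩ : ↥(chevB2.group F))⁻¹ from Subtype.ext e.symm]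
    exact mul_mem (mul_mem hh hs) (inv_mem hh)
  have := Fintype.ofFinite F
  classical
  let R : AddSubgroup F :=
    { carrier := {x | ∀ s ∈ A, x * s ∈ A}
      zero_mem' := fun s _ => by rw [zero_mul]; exact A.zero_mem
      add_mem' := fun {x y} hx hy s hs => by rw [add_mul]; exact A.add_mem (hx s hs) (hy s hs)
      neg_mem' := fun {x} hx s hs => by rw [neg_mul]; exact A.neg_mem (hx s hs) }
  have hRA : ∀ x ∈ R, x ∈ A := fun x hx => by
    have := hx 1 hone
    rwa [mul_one] at this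
  by_cases huR : u ∈ R
  · rw [mul_comm]; exact huR t ht
  -- `A` is the plane spanned by `1` and `u` over its multiplier field
  let f : ↥A →+ ↥R :=
    { toFun := fun a => ⟨(a : F) ^ 2 + a, fun s hs => by rw [mul_comm]; exact key hs a.2⟩
      map_zero' := Subtype.ext (by simp)
      map_add' := fun a b => Subtype.ext (by
        show (((a + b : ↥A) : F)) ^ 2 + ((a + b : ↥A) : F) = ((a : F) ^ 2 + a) + ((b : F) ^ 2 + b)
        rw [AddSubgroup.coe_add, CharTwo.add_sq]; abel) }
  have hker : Nat.card f.ker ≤ 2 := by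
    have hinj : Function.Injective fun a : f.ker => decide (((a : ↥A) : F) = 0) := by
      intro a b hab
      have h01 : ∀ a : f.ker, ((a : ↥A) : F) = 0 ∨ ((a : ↥A) : F) = 1 := fun a => by
        have h0 : ((a : ↥A) : F) ^ 2 + ((a : ↥A) : F) = 0 := congrArg Subtype.val a.2
        rw [show ((a : ↥A) : F) ^ 2 + ((a : ↥A) : F) =
          ((a : ↥A) : F) * (((a : ↥A) : F) + 1) by ring] at h0
        exact (mul_eq_zero.1 h0).imp id CharTwo.add_eq_zero.1
      refine Subtype.ext (Subtype.ext ?_)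
      rcases h01 a with ea | ea <;> rcases h01 b with eb | eb <;>
        simp [ea, eb] at hab ⊢
    exact (Nat.card_le_card_of_injective _ hinj).trans (by simp)
  have hA2 : Nat.card A ≤ 2 * Nat.card R := by
    rw [← AddSubgroup.index_mul_card f.ker, AddSubgroup.index_ker]
    calc Nat.card f.range * Nat.card f.ker ≤ Nat.card R * 2 :=
          Nat.mul_le_mul (Nat.card_le_card_of_injective _ f.range.subtype_injective) hker
      _ = _ := mul_comm _ _
  have hR2 : 2 ≤ Nat.card R := by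
    refine le_trans (le_of_eq (by simp : (2 : ℕ) = Nat.card Bool))
      (Nat.card_le_card_of_injective (fun b : Bool =>
        if b then (⟨1, fun s hs => by rwa [one_mul]⟩ : ↥R) else 0) fun a b hab => ?_)
    cases a <;> cases b <;> simp [Subtype.ext_iff] at hab ⊢
  let g : ↥R × ↥R → ↥A := fun z =>
    ⟨(z.1 : F) + (z.2 : F) * u, A.add_mem (hRA _ z.1.2) (z.2.2 u hu)⟩
  have hg : Function.Injective g := by
    rintro ⟨x, y⟩ ⟨x', y'⟩ hxy
    have e : (x : F) + y * u = x' + y' * u := congrArg Subtype.val hxy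
    by_cases hy : (y : F) = y'
    · rw [hy, add_left_inj] at e
      exact Prod.ext (Subtype.ext e) (Subtype.ext hy)
    · exfalso
      set d := (y : F) - y' with hd
      have hd0 : d ≠ 0 := sub_ne_zero.2 hy
      have hdR : d ∈ R := R.sub_mem y.2 y'.2
      let m : ↥R → ↥R := fun z => ⟨d * z, fun s hs => by rw [mul_assoc]; exact hdR _ (z.2 s hs)⟩
      have hm : Function.Injective m := fun a b h =>
        Subtype.ext (mul_left_cancel₀ hd0 (congrArg Subtype.val h))
      obtain ⟨z, hz⟩ := Finite.injective_iff_surjective.1 hm ⟨(x' : F) - x, R.sub_mem x'.2 x.2⟩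
      have hz' : d * z = (x' : F) - x := congrArg Subtype.val hz
      exact huR (by
        rw [show u = (z : F) from mul_left_cancel₀ hd0 (by rw [hz', hd]; linear_combination e)]
        exact z.2)
  have hsurj' : Function.Surjective g := by
    refine ((Fintype.bijective_iff_injective_and_card g).2 ⟨hg, ?_⟩).2
    simp only [← Nat.card_eq_fintype_card, Nat.card_prod]
    refine le_antisymm ?_ (hA2.trans (Nat.mul_le_mul_right _ hR2))
    simpa [Nat.card_prod] using Nat.card_le_card_of_injective g hg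
  obtain ⟨⟨x, y⟩, hxy⟩ := hsurj' ⟨t, ht⟩
  rw [show t = (x : F) + y * u from (congrArg Subtype.val hxy).symm,
    show ((x : F) + y * u) * u = x * u + y * u ^ 2 by ring]
  exact A.add_mem (x.2 u hu) (y.2 _ (sqA (LS hu)))

/-- The highest root subgroup of `B₂` from one irrational element. -/
theorem top_B2 {p : ℕ} [Fact p.Prime] [CharP F p] {r : ℕ} (hr : r.Prime)
    (hσ : ∀ x, σ^[r] x = x) (hrat : HasRat Q σ H) {d : F} (hd : σ d ≠ d)
    (hdH : Q.sys.x 7 d ∈ H) (t : F) : Q.sys.x 7 t ∈ H :=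
  field_gen hr hσ (param Q H 7) (fun _ hx => hrat 7 _ hx)
    (fun _ hx _ hy => mul_mem_B2 Q (p := p) hrat hx hy) hd hdH t

end Cfsg.Agent.H51.Sub
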