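import Cfsg.Agent.Linear.Dickson.Main
import Cfsg.Agent.Linear.Dickson.Orders

/-!
A subgroup of SL₂ in odd characteristic generated by opposite unipotent elements contains `-1`.
-/

set_option autoImplicit false

namespace Cfsg.Agent.H51.Sub

open Matrix Cfsg.Agent.Linear Cfsg.Agent.Linear.Dickson

variable {F : Type*} [Field F] [Fintype F]

local notation "S2" => Matrix.SpecialLinearGroup (Fin 2) F
local notation "M2" => Matrix (Fin 2) (Fin 2) F

theorem neg_one_mem_of_opposite (p : ℕ) [Fact p.Prime] [CharP F p] (hp : p ≠ 2)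
    (S : Subgroup S2) {a b : S2} {c : F} (hc : c ≠ 0)
    (ha : (a : M2) = !![1, 1; 0, 1]) (hb : (b : M2) = !![1, 0; c, 1])
    (haS : a ∈ S) (hbS : b ∈ S) : (-1 : S2) ∈ S := by
  classical
  have h2 : (2 : F) ≠ 0 := by
    intro h
    refine hp ((Nat.prime_dvd_prime_iff_eq Fact.out Nat.prime_two).1 ?_)
    rw [← CharP.cast_eq_zero_iff F p]
    exact_mod_cast h
  by_contra hneg
  set H := S.map proj with hH
  -- an element of order two would give `-1`
  have hodd : ∀ x ∈ H, x * x = 1 → x = 1 := by
    rintro _ ⟨y, hy, rfl⟩ hxx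
    rw [← map_mul, proj_eq_one_iff, isScalarTwo_SL_iff] at hxx
    rcases hxx with h | h
    · rw [proj_eq_one_iff]
      have e : (y : M2) * (y : M2) = 1 := by
        rw [← Matrix.SpecialLinearGroup.coe_mul, h]; rfl
      have h00 := congrFun (congrFun e 0) 0
      have h01 := congrFun (congrFun e 0) 1
      have h10 := congrFun (congrFun e 1) 0
      have h11 := congrFun (congrFun e 1) 1
      have hd := SL_det_two y
      simp only [mul_two_apply, Matrix.one_apply_eq, ne_eq, Fin.zero_eq_one_iff, Fin.one_eq_zero_iff,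
        OfNat.ofNat_ne_one, not_false_eq_true, Matrix.one_apply_ne] at h00 h01 h10 h11
      have hzero : (y : M2) 0 1 = 0 ∧ (y : M2) 1 0 = 0 := by
        by_cases ht : (y : M2) 0 0 + (y : M2) 1 1 = 0
        · exfalso
          exact h2 (by linear_combination ht * ((y : M2) 1 1) - hd - h11)
        · constructor
          · exact (mul_eq_zero.1 (by linear_combination h01 :
              (y : M2) 0 1 * ((y : M2) 0 0 + (y : M2) 1 1) = 0)).resolve_right ht
          · exact (mul_eq_zero.1 (by linear_combination h10 :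
              (y : M2) 1 0 * ((y : M2) 0 0 + (y : M2) 1 1) = 0)).resolve_right ht
      refine ⟨hzero.1, hzero.2, ?_⟩
      rw [hzero.1, hzero.2] at h00 hd
      linear_combination (y : M2) 1 1 * h00 - (y : M2) 0 0 * hd
    · exact absurd (h ▸ mul_mem hy hy) hneg
  have hcard : ¬ 2 ∣ Nat.card H := by
    intro h
    haveI : Fact (2 : ℕ).Prime := ⟨Nat.prime_two⟩
    obtain ⟨x, hx⟩ := exists_prime_orderOf_dvd_card' (G := H) 2 h
    have hxx : (x : Matrix.ProjectiveSpecialLinearGroup (Fin 2) F) * x = 1 := by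
      have h1 := pow_orderOf_eq_one x
      rw [hx, pow_two] at h1
      exact congrArg Subtype.val h1
    have h1 : x = 1 := Subtype.ext (hodd _ x.2 hxx)
    rw [h1, orderOf_one] at hx
    omega
  have haH : proj a ∈ H := ⟨a, haS, rfl⟩
  have hbH : proj b ∈ H := ⟨b, hbS, rfl⟩
  have ha1 : proj a ≠ 1 := fun h => by
    have h' := (proj_eq_one_iff.1 h).1
    simp [ha] at h'
  have hb1 : proj b ≠ 1 := fun h => by
    have h' := (proj_eq_one_iff.1 h).2.1
    simp [hb, hc] at h'
  have hau : IsUni (proj a) := isUni_proj.2 (by rw [Matrix.trace_fin_two, ha]; norm_num)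
  rcases shape p H with ⟨g, hg⟩ | ⟨t, ht, hle⟩ | ⟨⟨f⟩⟩ | ⟨⟨f⟩⟩ | ⟨⟨f⟩⟩ | h
  · -- a common fixed line
    obtain ⟨g', rfl⟩ := proj_surjective g
    have h1 := hg _ haH
    have h2' := hg _ hbH
    rw [← map_inv, ← map_mul, ← map_mul, mem_borel_proj] at h1 h2'
    have ea : ((g' * a * g'⁻¹ : S2) : M2) * (g' : M2) = (g' : M2) * (a : M2) :=
      congrArg (fun z : S2 => (z : M2)) (inv_mul_cancel_right (g' * a) g')
    have eb : ((g' * b * g'⁻¹ : S2) : M2) * (g' : M2) = (g' : M2) * (b : M2) :=
      congrArg (fun z : S2 => (z : M2)) (inv_mul_cancel_right (g' * b) g')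
    have a10 := congrFun (congrFun ea 1) 0
    have a11 := congrFun (congrFun ea 1) 1
    have b10 := congrFun (congrFun eb 1) 0
    simp only [mul_two_apply, h1, h2', ha, hb] at a10 a11 b10
    generalize ((g' * a * g'⁻¹ : S2) : M2) 1 1 = A at a10 a11
    generalize ((g' * b * g'⁻¹ : S2) : M2) 1 1 = B at b10
    simp at a10 a11 b10
    have h10 : (g' : M2) 1 0 = 0 := by
      by_contra h
      have hA : A = 1 := mul_right_cancel₀ h (by linear_combination a10)
      rw [hA] at a11
      exact h (by linear_combination -a11)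
    have hd := SL_det_two g'
    rw [h10, mul_zero, sub_zero] at hd
    have h11 : (g' : M2) 1 1 ≠ 0 := fun h => by rw [h, mul_zero] at hd; exact zero_ne_one hd
    rw [h10] at b10
    exact mul_ne_zero h11 hc (by linear_combination -b10)
  · -- the unipotent element would lie in the torus
    have hN : ∀ y, y ∈ cen t ↔ proj a * y * (proj a)⁻¹ ∈ cen t := fun y =>
      (Subgroup.mem_normalizer_iff.1 (hle haH) y)
    rcases normalizer_cases ht hN with h | ⟨h, -⟩
    · exact ht ((isUni_iff_of_mem_cen (ne_one_of_not_isUni ht) ha1 h).1 hau)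
    · exact ha1 (hodd _ haH h)
  · exact hcard (by rw [Nat.card_congr f.toEquiv, Nat.card_eq_fintype_card]; decide)
  · exact hcard (by rw [Nat.card_congr f.toEquiv, Nat.card_perm, Nat.card_fin]; decide)
  · exact hcard (by rw [Nat.card_congr f.toEquiv, Nat.card_eq_fintype_card]; decide)
  · obtain ⟨v, m, -, -, -, h⟩ := h.exists_card
    refine hcard ?_
    rcases h with h | ⟨h, -⟩
    · rcases Nat.even_or_odd v with hv | ⟨k, rfl⟩
      · have hv2 : Nat.gcd 2 (v - 1) = 1 := by
          rcases Nat.eq_zero_or_pos v with rfl | hv0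
          · simp at h
          have : Odd (v - 1) := by
            obtain ⟨k, rfl⟩ := hv
            exact ⟨k - 1, by omega⟩
          exact Nat.coprime_two_left.2 this
        rw [hv2, one_mul] at h
        rw [h]
        exact dvd_mul_of_dvd_left (even_iff_two_dvd.1 hv) _
      · have hg : Nat.gcd 2 (2 * k + 1 - 1) = 2 :=
          Nat.gcd_eq_left ⟨k, by omega⟩
        rw [hg] at h
        have e : (2 * k + 1) * ((2 * k + 1) ^ 2 - 1) = 2 * (2 * ((2 * k + 1) * (k * (k + 1)))) := by
          have : (2 * k + 1) ^ 2 - 1 = 4 * (k * (k + 1)) := by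
            rw [show (2 * k + 1) ^ 2 = 4 * (k * (k + 1)) + 1 by ring]
            omega
          rw [this]; ring
        rw [e] at h
        exact ⟨_, Nat.eq_of_mul_eq_mul_left two_pos h⟩
    · rw [h]
      rcases Nat.even_or_odd v with hv | hv
      · exact dvd_mul_of_dvd_left (even_iff_two_dvd.1 hv) _
      · refine dvd_mul_of_dvd_right ?_ _
        obtain ⟨k, rfl⟩ := hv
        exact ⟨2 * k * k + 2 * k, by rw [show (2 * k + 1) ^ 2 = 2 * (2 * k * k + 2 * k) + 1 by ring]; omega⟩

end Cfsg.Agent.H51.Sub
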