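import Cfsg.Agent.H51.SubMax.Rational
import Cfsg.Agent.H51.SubMax.Even
import Cfsg.Agent.H51.RootCentral
import Cfsg.Agent.H37.Chev.All
import Cfsg.Agent.S1030

/-!
Without further unipotent elements, a subgroup containing the fixed points is equal to them.
-/

set_option autoImplicit false
set_option maxRecDepth 100000

namespace Cfsg.Agent.H51.Sub

open Cfsg.Lie Cfsg.Agent.H37 Cfsg.Agent.H37.RootSys

/-- Table facts on the last root: its pairings with positive roots are `0`, `1`, or at itself,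
and some root pairing to `0` exists. -/
def topB (D : ChevalleyDatum) : Bool :=
  ((List.range D.nroots).all fun s => decide (s < D.nroots / 2) || s == D.nroots - 1 ||
    (Chevalley.pairingSum D (D.nroots - 1) s == 1) ||
    ((Chevalley.pairingSum D (D.nroots - 1) s == 0) && (D.commTerms s 0).isEmpty)) &&
  ((List.range D.nroots).any fun s => decide (D.nroots / 2 ≤ s) && !(s == D.nroots - 1) &&
    (Chevalley.pairingSum D (D.nroots - 1) s == 0)) &&
  (Chevalley.pairingSum D (D.nroots - 1) (D.nroots - 1) == 2) &&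
  (Chevalley.pairingSum D (D.nroots - 1) 0 == -2)

theorem topB_of_mem {D : ChevalleyDatum}
    (hD : D ∈ [chevG2, chevB2, chevD4, chevF4, chevE6, chevE7, chevE8]) : topB D = true := by
  simp only [List.mem_cons, List.not_mem_nil, or_false] at hD
  rcases hD with rfl | rfl | rfl | rfl | rfl | rfl | rfl <;> decide +kernel

variable {D : ChevalleyDatum} {F : Type*} [Field F] [Fintype F] (Q : Chev.Data D F) {σ : F →+* F}
  {p : ℕ} [Fact p.Prime] [CharP F p] {H : Subgroup ↥(D.group F)}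

/-- The hypotheses of the embedded case. -/
structure Embedded (σ : F →+* F) (H : Subgroup ↥(D.group F)) : Prop where
  sup : Chev.Sup Q.X.C D Q.X.n
  link : PC.linkB D = true
  rat : HasRat Q σ H
  borel : ∀ u ∈ Q.sys.U, ∀ h ∈ Q.sys.H, u * h ∈ H → u * h ∈ fixG Q σ
  unip : ∀ u ∈ Q.sys.U, u ∈ H → u ∈ fixG Q σ

variable {Q}

include p in
theorem Embedded.of_commute (hE : Embedded Q σ H) {z h : ↥(D.group F)} (hz : z ∈ fixG Q σ)
    (hz1 : z ≠ 1) {k : ℕ} (hzp : z ^ p ^ k = 1) (hh : h ∈ H) (hcomm : h * z = z * h) :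
    h ∈ fixG Q σ := by
  refine fixed_of_normalizes Q hE.sup hE.link (p := p) hE.rat hE.unip hE.borel
    (R := Subgroup.zpowers z) ?_ (by rwa [Ne, Subgroup.zpowers_eq_bot]) ?_ hh ?_
  · rintro ⟨y, hy⟩
    obtain ⟨j, rfl⟩ := Subgroup.mem_zpowers_iff.1 hy
    refine ⟨k, Subtype.ext ?_⟩
    show (z ^ j) ^ p ^ k = 1
    rw [← zpow_natCast, ← zpow_mul, mul_comm, zpow_mul, zpow_natCast, hzp, one_zpow]
  · rwa [Subgroup.zpowers_le]
  · intro y hy
    obtain ⟨j, rfl⟩ := Subgroup.mem_zpowers_iff.1 hy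
    have : Commute h (z ^ j) := (show Commute h z from hcomm).zpow_right j
    rw [mul_assoc, ← this.eq, inv_mul_cancel_left]
    exact hy

include p in
theorem Embedded.pgroup_le (hE : Embedded Q σ H) {P : Subgroup ↥(D.group F)}
    (hP : IsPGroup p ↥P) (hPH : P ≤ H) {x : ↥(D.group F)} (hx : x ∈ P) (hxfix : x ∈ fixG Q σ)
    (hx1 : x ≠ 1) : P ≤ fixG Q σ := by
  classical
  have : Group.IsNilpotent ↥P := hP.isNilpotent
  set S := (fixG Q σ).subgroupOf P with hS
  by_contra hle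
  have hlt : S < ⊤ := lt_top_iff_ne_top.2 fun h => hle (Subgroup.subgroupOf_eq_top.1 h)
  obtain ⟨a, haN, haS⟩ := SetLike.exists_of_lt (Group.normalizerCondition_of_isNilpotent S hlt)
  refine haS (Subgroup.mem_subgroupOf.2 (fixed_of_normalizes Q hE.sup hE.link (p := p)
    hE.rat hE.unip hE.borel (R := S.map P.subtype) ((hP.to_subgroup S).map _) ?_ ?_ (hPH a.2) ?_))
  · intro h
    have : (⟨x, hx⟩ : ↥P) ∈ S := Subgroup.mem_subgroupOf.2 hxfix
    have h1 := Subgroup.mem_map_of_mem P.subtype this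
    rw [h, Subgroup.mem_bot] at h1
    exact hx1 h1
  · rintro _ ⟨y, hy, rfl⟩
    exact Subgroup.mem_subgroupOf.1 hy
  · rintro _ ⟨y, hy, rfl⟩
    exact ⟨a⁻¹ * y * a, (Subgroup.mem_normalizer_iff''.1 haN y).1 hy, rfl⟩

include p in
theorem Embedded.of_conj (hE : Embedded Q σ H) {x h : ↥(D.group F)} (hh : h ∈ H)
    (hxf : x ∈ fixG Q σ) (hxH : x ∈ H) (hx1 : x ≠ 1) {k : ℕ} (hxp : x ^ p ^ k = 1)
    (hy : h * x * h⁻¹ ∈ fixG Q σ) : h ∈ fixG Q σ := by
  classical
  set M := fixG Q σ ⊓ H with hM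
  have hx : x ∈ M := ⟨hxf, hxH⟩
  have hzp : IsPGroup p ↥(Subgroup.zpowers (⟨x, hx⟩ : ↥M)) := by
    rintro ⟨y, hy⟩
    obtain ⟨j, rfl⟩ := Subgroup.mem_zpowers_iff.1 hy
    refine ⟨k, Subtype.ext (Subtype.ext ?_)⟩
    show (x ^ j) ^ p ^ k = 1
    rw [← zpow_natCast, ← zpow_mul, mul_comm, zpow_mul, zpow_natCast, hxp, one_zpow]
  obtain ⟨S, hS⟩ := hzp.exists_le_sylow
  set T := (S : Subgroup ↥M).map M.subtype with hT
  have hTp : IsPGroup p ↥T := S.isPGroup'.map _
  have hxT : x ∈ T := ⟨⟨x, hx⟩, hS (Subgroup.mem_zpowers _), rfl⟩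
  set T' := T.map (MulAut.conj h).toMonoidHom with hT'
  have hy1 : h * x * h⁻¹ ≠ 1 := fun e => hx1 (conj_eq_one_iff.1 e)
  have hT'H : T' ≤ H := by
    rintro _ ⟨t, ⟨s, -, rfl⟩, rfl⟩
    exact mul_mem (mul_mem hh (Subgroup.mem_inf.1 s.2).2) (inv_mem hh)
  have hT'M : T' ≤ M :=
    le_inf (hE.pgroup_le (p := p) (hTp.map _) hT'H ⟨x, hxT, rfl⟩ hy hy1) hT'H
  have hcard : Nat.card ↥(T'.subgroupOf M) = Nat.card ↥(S : Subgroup ↥M) := by
    rw [Nat.card_congr (Subgroup.subgroupOfEquivOfLe hT'M).toEquiv, hT',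
      Subgroup.card_map_of_injective (MulAut.conj h).injective, hT,
      Subgroup.card_map_of_injective M.subtype_injective]
  obtain ⟨S', hS'⟩ := ((hTp.map (MulAut.conj h).toMonoidHom).comap_subtype
    (K := M)).exists_le_sylow
  have hS'eq : T'.subgroupOf M = S' := by
    refine Subgroup.eq_of_le_of_card_ge hS' ?_
    rw [hcard, S.card_eq_multiplicity, S'.card_eq_multiplicity]
  obtain ⟨m, hm⟩ := MulAction.exists_smul_eq (↥M) S' S
  have hkey : ∀ t ∈ T, (m * h : ↥(D.group F)) * t * (m * h : ↥(D.group F))⁻¹ ∈ T := by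
    intro t ht
    have hts : h * t * h⁻¹ ∈ T' := ⟨t, ht, rfl⟩
    have h1 : (⟨_, hT'M hts⟩ : ↥M) ∈ (S' : Subgroup ↥M) := by
      rw [← hS'eq]; exact Subgroup.mem_subgroupOf.2 hts
    have h2 := Subgroup.smul_mem_pointwise_smul _ (MulAut.conj m) _ h1
    rw [← Sylow.coe_subgroup_smul, hm] at h2
    refine ⟨_, h2, ?_⟩
    show (m : ↥(D.group F)) * (h * t * h⁻¹) * (m : ↥(D.group F))⁻¹ = _
    group
  have := fixed_of_normalizes Q hE.sup hE.link (p := p) hE.rat hE.unip hE.borel (R := T) hTp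
    (fun e => hx1 (by rw [e, Subgroup.mem_bot] at hxT; exact hxT))
    (fun t ⟨s, _, e⟩ => e ▸ (Subgroup.mem_inf.1 s.2).1) (inv_mem (mul_mem (Subgroup.mem_inf.1 m.2).2 hh))
    (fun t ht => by rw [inv_inv]; exact hkey t ht)
  have h3 := mul_mem (inv_mem (Subgroup.mem_inf.1 m.2).1) (inv_mem this)
  rwa [inv_inv, inv_mul_cancel_left] at h3

/-- In characteristic two two classes of fixed involutions suffice. -/
theorem Embedded.eq_fixed_two [CharP F 2] (hE : Embedded Q σ H) {x x' : ↥(D.group F)}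
    (hxm : x ∈ fixG Q σ ⊓ H) (hxm' : x' ∈ fixG Q σ ⊓ H) (hx1 : orderOf x = 2) (hx'1 : orderOf x' = 2)
    (hnc : ∀ g, g * x * g⁻¹ ≠ x') : H ≤ fixG Q σ := by
  intro h hh
  obtain ⟨hx, hxH⟩ := Subgroup.mem_inf.1 hxm
  obtain ⟨hx', hx'H⟩ := Subgroup.mem_inf.1 hxm'
  haveI : Fact (2 : ℕ).Prime := ⟨Nat.prime_two⟩
  have hxx : x * x = 1 := by rw [← pow_two, ← hx1, pow_orderOf_eq_one]
  have hx'x' : x' * x' = 1 := by rw [← pow_two, ← hx'1, pow_orderOf_eq_one]
  have hxne : x ≠ 1 := fun e => by simp [e] at hx1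
  have hx'ne : x' ≠ 1 := fun e => by simp [e] at hx'1
  set y := h * x' * h⁻¹ with hy
  have hyy : y * y = 1 := by
    rw [hy, show h * x' * h⁻¹ * (h * x' * h⁻¹) = h * (x' * x') * h⁻¹ by group, hx'x']
    group
  set d := x * y with hd
  have hxdx : x * d * x = d⁻¹ := by
    rw [hd, mul_inv_rev, ← eq_inv_of_mul_eq_one_left hxx, ← eq_inv_of_mul_eq_one_left hyy,
      ← mul_assoc, hxx, one_mul]
  have hxdn : ∀ n : ℕ, x * d ^ n * x = (d ^ n)⁻¹ := by
    intro n
    induction n with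
    | zero => simp [hxx]
    | succ n ih =>
      rw [pow_succ, show x * (d ^ n * d) * x = (x * d ^ n * x) * (x * d * x) by
        calc x * (d ^ n * d) * x = x * d ^ n * (x * x) * d * x := by rw [hxx]; group
          _ = _ := by group, ih, hxdx, ← mul_inv_rev, ← pow_succ', pow_succ]
  have hfin := orderOf_pos d
  rcases Nat.even_or_odd (orderOf d) with ⟨m, hm⟩ | ⟨m, hm⟩
  · set z := d ^ m with hz
    have hzz : z ^ 2 ^ 1 = 1 := by
      rw [hz, pow_one, ← pow_mul, show m * 2 = orderOf d by omega, pow_orderOf_eq_one]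
    have hz1 : z ≠ 1 := pow_ne_one_of_lt_orderOf (by omega) (by omega)
    have hzinv : z⁻¹ = z := by
      rw [pow_one, pow_two] at hzz
      exact inv_eq_of_mul_eq_one_right hzz
    have hxz : z * x = x * z := by
      have h0 := hxdn m
      rw [← hz, hzinv] at h0
      calc z * x = x * z * x * x := by rw [h0]
        _ = _ := by rw [mul_assoc, hxx, mul_one]
    have hyd : y = x * d := by rw [hd, ← mul_assoc, hxx, one_mul]
    have hzy : y * z = z * y := by
      rw [hyd, mul_assoc, hz, ← pow_succ', pow_succ, ← mul_assoc, ← hz, ← hxz, mul_assoc]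
    have hzH : z ∈ H := pow_mem (mul_mem hxH
      (mul_mem (mul_mem hh hx'H) (inv_mem hh))) m
    have hzfix := hE.of_commute (p := 2) hx hxne (k := 1)
      (by rw [pow_one, pow_two]; exact hxx) hzH hxz
    have hyfix := hE.of_commute (p := 2) hzfix hz1 hzz
      (mul_mem (mul_mem hh hx'H) (inv_mem hh)) hzy
    exact hE.of_conj (p := 2) hh hx' hx'H hx'ne (k := 1) (by rw [pow_one, pow_two]; exact hx'x') hyfix
  · exfalso
    set c := d ^ (m + 1) with hc
    have hcx : x * c * x = c⁻¹ := hxdn _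
    have hcc : c * c = d := by
      rw [hc, ← pow_add, show m + 1 + (m + 1) = orderOf d + 1 by omega, pow_succ,
        pow_orderOf_eq_one, one_mul]
    refine hnc (h⁻¹ * c⁻¹) ?_
    have e : c⁻¹ * x * c = y := by
      calc c⁻¹ * x * c = x * c * x * x * c := by rw [hcx]
        _ = x * (c * c) := by rw [mul_assoc (x * c) x x, hxx]; group
        _ = y := by rw [hcc, hd, ← mul_assoc, hxx, one_mul]
    rw [show h⁻¹ * c⁻¹ * x * (h⁻¹ * c⁻¹)⁻¹ = h⁻¹ * (c⁻¹ * x * c) * h by group, e, hy]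
    group

end Cfsg.Agent.H51.Sub
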