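import Cfsg.Agent.H51.RootPairs
import Cfsg.Agent.H51.ParabolicCent
import Cfsg.Agent.H37.Chev.All

/-!
Two involutions that are not conjugate in characteristic two: the highest root element and its
product with a commuting root element of a suitable long root.
-/

set_option autoImplicit false
set_option maxRecDepth 100000

namespace Cfsg.Agent.H51.Sub

open Cfsg.Lie Cfsg.Agent.H37 Cfsg.Agent.H37.RootSys

/-- The root `b` meets every positive root not commuting with it in a single leading sum below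
the last root. -/
def ncB (D : ChevalleyDatum) (b : ℕ) : Bool :=
  decide (D.nroots / 2 ≤ b) && decide (b + 1 < D.nroots) &&
  (List.range D.nroots).all fun k => decide (k < D.nroots / 2) || k == b ||
    match D.commTerms k b with
    | [] => true
    | (j, c, a, e) :: rest => (c == 1 || c == -1) && a == 1 && e == 1 &&
        decide (j + 1 < D.nroots) && decide (D.nroots / 2 ≤ j) &&
        rest.all (fun q => decide (j < q.1) && decide (q.1 < D.nroots)) &&
        (List.range D.nroots).all fun r => decide (r ≤ k) || r == b ||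
          (D.commTerms r b).all fun q => decide (j < q.1) && decide (q.1 < D.nroots)

theorem ncB_of_mem {D : ChevalleyDatum}
    (hD : D ∈ [chevB2, chevD4, chevF4, chevE6, chevE7, chevE8]) :
    ∃ b, ncB D b = true := by
  simp only [List.mem_cons, List.not_mem_nil, or_false] at hD
  rcases hD with rfl | rfl | rfl | rfl | rfl | rfl
  · exact ⟨4, by decide +kernel⟩
  · exact ⟨12, by decide +kernel⟩
  · exact ⟨25, by decide +kernel⟩
  · exact ⟨36, by decide +kernel⟩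
  · exact ⟨63, by decide +kernel⟩
  · exact ⟨121, by decide +kernel⟩

variable {D : ChevalleyDatum} {F : Type*} [Field F] (Q : Chev.Data D F)

/-- The tail above `j`. -/
def tailU (j : ℕ) : Subgroup ↥(D.group F) := XS Q.sys.x {s | s ∈ Q.sys.P ∧ j < s}

theorem tailU_conj {j : ℕ} (hj : j < D.nroots) (hjp : D.nroots / 2 ≤ j) {u g : ↥(D.group F)}
    (hu : u ∈ Q.sys.U) (hg : g ∈ tailU Q j) : u * g * u⁻¹ ∈ tailU Q j :=
  (PC.conj_U Q hj hjp 0 hu).choose_spec.2.2 g hg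

theorem x_term_mem {j : ℕ} (hjp : D.nroots / 2 ≤ j) {q : ℕ} (h : j < q ∧ q < D.nroots) (a : F) :
    Q.sys.x q a ∈ tailU Q j :=
  x_mem_XS (S := {s | s ∈ Q.sys.P ∧ j < s}) ⟨PC.mem_P Q h.2 (by omega), h.1⟩ a

/-- The commutator formula as a conjugate. -/
theorem x_conj_eq {r s : ℕ} (hr : r < D.nroots) (hs : s < D.nroots) (h1 : s ≠ r)
    (h2 : s ≠ D.neg r) (t u : F) :
    (Q.sys.x r t)⁻¹ * Q.sys.x s u * Q.sys.x r t =
      Q.sys.x s u * ((D.commTerms r s).map fun q =>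
        Q.sys.x q.1 ((q.2.1 : F) * (-t) ^ q.2.2.1 * u ^ q.2.2.2)).prod := by
  refine Subtype.ext ?_
  simp only [Subgroup.coe_mul, Subgroup.coe_inv, Subgroup.val_list_prod, List.map_map]
  show (Q.K.xU F r t)⁻¹ * Q.K.xU F s u * Q.K.xU F r t = _
  rw [Q.K.xU_conj F hr hs h1 h2 t u]
  congr 1
  simp only [ChevalleyDatum.commWord, Chevalley.Cert.wU, List.map_map]
  rfl

/-- Modulo the tail above the leading sum, later roots centralise the root element. -/
theorem centralise_tail {b j k : ℕ} (hb : b < D.nroots) (hbp : D.nroots / 2 ≤ b)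
    (hj : j < D.nroots) (hjp : D.nroots / 2 ≤ j)
    (h : ∀ r, r < D.nroots → k < r → r ≠ b →
      ∀ q ∈ D.commTerms r b, j < q.1 ∧ q.1 < D.nroots)
    {n : ↥(D.group F)} (hn : n ∈ XS Q.sys.x {r | r ∈ Q.sys.P ∧ k < r}) :
    (Q.sys.x b 1)⁻¹ * (n⁻¹ * Q.sys.x b 1 * n) ∈ tailU Q j := by
  set y := Q.sys.x b (1 : F) with hy
  have hUP : ∀ {g}, g ∈ XS Q.sys.x {r | r ∈ Q.sys.P ∧ k < r} → g ∈ Q.sys.U := fun hg =>
    XS_mono (fun r hr => Finset.mem_coe.2 (Q.sys.P_eq ▸ hr.1)) hg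
  induction hn using Subgroup.closure_induction with
  | mem g hg =>
    obtain ⟨r, ⟨hrP, hrk⟩, t, rfl⟩ := hg
    obtain ⟨hr, hrp⟩ := mem_posSet.1 (Q.sys.P_eq ▸ hrP)
    by_cases hrb : r = b
    · subst hrb
      have e : (Q.sys.x r t)⁻¹ * y * Q.sys.x r t = y := by
        have hc : Q.sys.x r t * y = y * Q.sys.x r t := by
          rw [hy, ← Q.sys.x_add' _ hr, add_comm, Q.sys.x_add' _ hr]
        rw [mul_assoc, ← hc, inv_mul_cancel_left]
      rw [e, inv_mul_cancel]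
      exact one_mem _
    · rw [hy, x_conj_eq Q hr hb (Ne.symm hrb)
        (by rw [Q.K.neg_eq r hr]; have := Q.X.good.even; omega) t 1, inv_mul_cancel_left]
      refine Subgroup.list_prod_mem _ fun g hg => ?_
      obtain ⟨q, hq, rfl⟩ := List.mem_map.1 hg
      exact x_term_mem Q hjp (h r hr hrk hrb q hq) _
  | one => simp
  | mul g g' hg hg' ih ih' =>
    have h1 := tailU_conj Q hj hjp (inv_mem (hUP hg')) ih
    rw [show y⁻¹ * ((g * g')⁻¹ * y * (g * g')) =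
      y⁻¹ * (g'⁻¹ * y * g') * (g'⁻¹ * (y⁻¹ * (g⁻¹ * y * g)) * g'⁻¹⁻¹) by group]
    exact mul_mem ih' h1
  | inv g hg ih =>
    have h1 := tailU_conj Q hj hjp (hUP hg) (inv_mem ih)
    rw [show y⁻¹ * (g⁻¹⁻¹ * y * g⁻¹) = g * (y⁻¹ * (g⁻¹ * y * g))⁻¹ * g⁻¹ by group]
    exact h1

/-- No element of `U` multiplies the root element by the highest one. -/
theorem conj_ne_mul_top {b : ℕ} (h : ncB D b = true) {u : ↥(D.group F)} (hu : u ∈ Q.sys.U) :
    u⁻¹ * Q.sys.x b 1 * u ≠ Q.sys.x b 1 * Q.sys.x (D.nroots - 1) 1 := by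
  simp only [ncB, Bool.and_eq_true, decide_eq_true_eq, List.all_eq_true, List.mem_range,
    Bool.or_eq_true, beq_iff_eq] at h
  obtain ⟨⟨hbp, hb1⟩, hall⟩ := h
  have hb : b < D.nroots := by omega
  set y := Q.sys.x b (1 : F) with hy
  set m := D.nroots - 1 with hm
  have hm1 : m + 1 = D.nroots := by omega
  have hxm : Q.sys.x m (1 : F) ≠ 1 := fun e => one_ne_zero
    ((Q.K.xU_eq_one_iff F (by omega : m < D.nroots) (1 : F)).1 (congrArg Subtype.val e))
  suffices ∀ N k, D.nroots ≤ k + N → ∀ u ∈ XS Q.sys.x {r | r ∈ Q.sys.P ∧ k ≤ r},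
      u⁻¹ * y * u ≠ y * Q.sys.x m 1 from
    this D.nroots 0 (by omega) u
      (XS_mono (S' := {r | r ∈ Q.sys.P ∧ 0 ≤ r}) (fun r hr => ⟨Q.sys.P_eq ▸ Finset.mem_coe.1 hr, Nat.zero_le r⟩) hu)
  intro N
  induction N with
  | zero =>
    intro k hk u hu e
    have h0 : {r | r ∈ Q.sys.P ∧ k ≤ r} = ∅ := Set.eq_empty_iff_forall_notMem.2 fun r hr => by
      have := (mem_posSet.1 (Q.sys.P_eq ▸ hr.1)).1
      have := hr.2
      omega
    rw [h0, XS_empty, Subgroup.mem_bot] at hu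
    rw [hu, inv_one, one_mul, mul_one, left_eq_mul] at e
    exact hxm e
  | succ N ih =>
    intro k hk u hu e
    by_cases hkP : k ∈ Q.sys.P
    swap
    · rw [Unip.tail_of_not_mem hkP] at hu
      exact ih (k + 1) (by omega) u hu e
    obtain ⟨hkn, hkp⟩ := mem_posSet.1 (Q.sys.P_eq ▸ hkP)
    obtain ⟨a, n, hn, rfl⟩ := Q.sys.toUnip.exists_head Q.sys.toUnip.closed_P hkP hu
    have hn' : n ∈ XS Q.sys.x {r | r ∈ Q.sys.P ∧ k + 1 ≤ r} := hn
    have hnU : n ∈ Q.sys.U :=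
      XS_mono (fun r hr => Finset.mem_coe.2 (Q.sys.P_eq ▸ hr.1)) hn
    have hym : ∀ c, n⁻¹ * Q.sys.x m c * n = Q.sys.x m c := fun c => by
      rw [mul_assoc, ← xG_comm_U Q hm1 hnU, inv_mul_cancel_left]
    have e' : n⁻¹ * ((Q.sys.x k a)⁻¹ * y * Q.sys.x k a) * n = y * Q.sys.x m 1 := by
      rw [← e]; group
    by_cases hkb : k = b
    · have hc : (Q.sys.x k a)⁻¹ * y * Q.sys.x k a = y := by
        rw [hkb, hy, mul_assoc, ← Q.sys.x_add' _ hb, add_comm, Q.sys.x_add' _ hb,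
          inv_mul_cancel_left]
      rw [hc] at e'
      exact ih (k + 1) (by omega) n hn' e'
    rw [hy, x_conj_eq Q hkn hb (Ne.symm hkb)
      (by rw [Q.K.neg_eq k hkn]; have := Q.X.good.even; omega) a 1, ← hy] at e'
    rcases hall k hkn with (hh | hh) | hh
    · omega
    · exact hkb hh
    cases hct : D.commTerms k b with
    | nil =>
      rw [hct, List.map_nil, List.prod_nil, mul_one] at e'
      exact ih (k + 1) (by omega) n hn' e'
    | cons q rest =>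
      obtain ⟨j, c, a1, e1⟩ := q
      rw [hct] at hh
      simp only [Bool.and_eq_true, beq_iff_eq, Bool.or_eq_true, decide_eq_true_eq,
        List.all_eq_true, List.mem_range] at hh
      obtain ⟨⟨⟨⟨⟨⟨hc, rfl⟩, rfl⟩, hj1⟩, hjp⟩, hrest⟩, hlater⟩ := hh
      have hj : j < D.nroots := by omega
      rw [hct, List.map_cons, List.prod_cons] at e'
      set z := Q.sys.x j ((c : F) * (-a) ^ 1 * (1 : F) ^ 1) with hz
      set R := (rest.map fun q =>
        Q.sys.x q.1 ((q.2.1 : F) * (-a) ^ q.2.2.1 * (1 : F) ^ q.2.2.2)).prod with hR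
      have hRT : R ∈ tailU Q j := Subgroup.list_prod_mem _ fun g hg => by
        obtain ⟨q, hq, rfl⟩ := List.mem_map.1 hg
        exact x_term_mem Q hjp (hrest q hq) _
      have hmid : y⁻¹ * (n⁻¹ * y * n) ∈ tailU Q j :=
        centralise_tail Q hb hbp hj hjp (fun r hr hkr hrb q hq => by
          rcases hlater r hr with (hl | hl) | hl
          · omega
          · exact absurd hl hrb
          · exact hl q hq) hn
      obtain ⟨m2, hm2, hm2e, -⟩ := PC.conj_U Q hj hjp ((c : F) * (-a) ^ 1 * (1 : F) ^ 1)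
        (inv_mem hnU)
      rw [inv_inv] at hm2e
      have hR' : n⁻¹ * R * n ∈ tailU Q j := by
        have := tailU_conj Q hj hjp (inv_mem hnU) hRT
        rwa [inv_inv] at this
      obtain ⟨m3, hm3, hm3e, -⟩ := PC.conj_U Q hj hjp ((c : F) * (-a) ^ 1 * (1 : F) ^ 1)
        (show y⁻¹ * (n⁻¹ * y * n) ∈ Q.sys.U from
          XS_mono (fun r hr => Finset.mem_coe.2 (Q.sys.P_eq ▸ hr.1)) hmid)
      have key : Q.sys.x m 1 = z * (m3 * (y⁻¹ * (n⁻¹ * y * n)) * m2 * (n⁻¹ * R * n)) := by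
        calc Q.sys.x m 1 = y⁻¹ * (y * Q.sys.x m 1) := by group
          _ = y⁻¹ * (n⁻¹ * y * n) * (n⁻¹ * z * n) * (n⁻¹ * R * n) := by rw [← e']; group
          _ = (y⁻¹ * (n⁻¹ * y * n) * z * (y⁻¹ * (n⁻¹ * y * n))⁻¹) * (y⁻¹ * (n⁻¹ * y * n)) *
              m2 * (n⁻¹ * R * n) := by rw [hm2e, ← hz]; group
          _ = _ := by rw [hm3e, ← hz]; simp only [mul_assoc]
      have htail : Q.sys.x m (1 : F) ∈ tailU Q j := x_term_mem Q hjp ⟨by omega, by omega⟩ 1
      obtain ⟨h0, -⟩ := Q.sys.toUnip.head_unique Q.sys.toUnip.closed_P (PC.mem_P Q hj hjp)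
        (t := (c : F) * (-a) ^ 1 * (1 : F) ^ 1) (u := 0)
        (mul_mem (mul_mem (mul_mem hm3 hmid) hm2) hR') htail
        (by rw [Q.sys.x_zero' hj, one_mul]; exact key.symm)
      have ha : a = 0 := by
        rcases hc with rfl | rfl <;> simpa using h0
      refine ih (k + 1) (by omega) n hn' ?_
      rw [← e, ha, Q.sys.x_zero' hkn, one_mul]

/-- The two involutions are not conjugate. -/
theorem not_conj_top {b : ℕ} (h : ncB D b = true) (g : ↥(D.group F)) :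
    g * Q.sys.x (D.nroots - 1) 1 * g⁻¹ ≠ Q.sys.x b 1 * Q.sys.x (D.nroots - 1) 1 := by
  have h' := h
  simp only [ncB, Bool.and_eq_true, decide_eq_true_eq] at h'
  obtain ⟨⟨hbp, hb1⟩, -⟩ := h'
  have hb : b < D.nroots := by omega
  set m := D.nroots - 1 with hm
  have hm1 : m + 1 = D.nroots := by omega
  intro e0
  obtain ⟨u, hu, t, ht, w, v, hv, e⟩ := Q.sys.normalForm.exists_eq g
  change u ∈ Q.sys.U at hu
  change t ∈ Q.sys.H at ht
  change v ∈ Q.sys.Uw w at hv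
  change g = u * t * Q.sys.rep w * v at e
  obtain ⟨c1, e1⟩ := Q.sys.rep_conj w m (by omega) 1
  set γ := (Q.X.good.hom w ⟨m, by omega⟩).val with hγ
  have hγlt : γ < D.nroots := Fin.isLt _
  obtain ⟨c, e2⟩ := Q.sys.h_conj t ht γ hγlt c1
  have h1 : g * Q.sys.x m 1 * g⁻¹ = u * Q.sys.x γ c * u⁻¹ := by
    rw [e, ← e2, ← e1]
    calc u * t * Q.sys.rep w * v * Q.sys.x m 1 * (u * t * Q.sys.rep w * v)⁻¹
        = u * t * Q.sys.rep w * (v * Q.sys.x m 1) * (u * t * Q.sys.rep w * v)⁻¹ := by group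
      _ = _ := by rw [xG_comm_U Q hm1 (Q.sys.Uw_le w hv)]; group
  obtain ⟨n, hn, hne, -⟩ := PC.conj_U Q hb hbp (1 : F) (inv_mem hu)
  rw [inv_inv] at hne
  have h3 : Q.sys.x γ c = Q.sys.x b 1 * (n * Q.sys.x m 1) := by
    calc Q.sys.x γ c = u⁻¹ * (u * Q.sys.x γ c * u⁻¹) * u := by group
      _ = (u⁻¹ * Q.sys.x b 1 * u) * (u⁻¹ * (Q.sys.x m 1 * u)) := by rw [← h1, e0]; group
      _ = _ := by rw [← xG_comm_U Q hm1 hu, inv_mul_cancel_left, hne]; group
  have hT : n * Q.sys.x m 1 ∈ XS Q.sys.x {s | s ∈ Q.sys.P ∧ b < s} :=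
    mul_mem hn (x_mem_XS (S := {s | s ∈ Q.sys.P ∧ b < s})
      ⟨PC.mem_P Q (by omega) (by omega), by omega⟩ 1)
  have hU : Q.sys.x b 1 * (n * Q.sys.x m 1) ∈ Q.sys.U := mul_mem (Q.sys.x_mem_U hb hbp 1)
    (XS_mono (fun r hr => Finset.mem_coe.2 (Q.sys.P_eq ▸ hr.1)) hT)
  have hγp : D.nroots / 2 ≤ γ := by
    by_contra hneg
    have h5 := Q.sys.x_neg_eq_one hγlt (by omega) (t := c) (h3 ▸ hU)
    obtain ⟨h6, -⟩ := Q.sys.toUnip.head_unique Q.sys.toUnip.closed_P (PC.mem_P Q hb hbp)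
      (t := 1) (u := 0) hT (one_mem _) (by rw [Q.sys.x_zero' hb, one_mul, ← h3, h5])
    exact one_ne_zero h6
  rcases lt_trichotomy γ b with hlt | heq | hgt
  · obtain ⟨h6, h7⟩ := Q.sys.toUnip.head_unique Q.sys.toUnip.closed_P (PC.mem_P Q hγlt hγp)
      (t := c) (u := 0) (p := 1) (p' := Q.sys.x b 1 * (n * Q.sys.x m 1)) (one_mem _)
      (mul_mem (x_mem_XS (S := {s | s ∈ Q.sys.P ∧ γ < s}) ⟨PC.mem_P Q hb hbp, hlt⟩ 1)
        (XS_mono (S' := {r | r ∈ Q.sys.P ∧ γ < r}) (fun r hr => ⟨hr.1, by have := hr.2; omega⟩) hT))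
      (by rw [Q.sys.x_zero' hγlt, one_mul, mul_one]; exact h3)
    obtain ⟨h8, -⟩ := Q.sys.toUnip.head_unique Q.sys.toUnip.closed_P (PC.mem_P Q hb hbp)
      (t := 1) (u := 0) hT (one_mem _) (by rw [Q.sys.x_zero' hb, one_mul]; exact h7.symm)
    exact one_ne_zero h8
  · rw [heq] at h3
    obtain ⟨-, h7⟩ := Q.sys.toUnip.head_unique Q.sys.toUnip.closed_P (PC.mem_P Q hb hbp)
      (t := c) (u := 1) (p := 1) (one_mem _) hT (by rw [mul_one]; exact h3)
    have hneg : n = Q.sys.x m (-1) := by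
      rw [show Q.sys.x m (-1 : F) = (Q.sys.x m 1)⁻¹ from
        Q.sys.toUnip.x_neg (PC.mem_P Q (by omega) (by omega)) 1]
      exact eq_inv_of_mul_eq_one_left h7.symm
    rw [hneg] at hne
    refine conj_ne_mul_top Q h (inv_mem hu) ?_
    rw [inv_inv]
    have hx1 : Q.sys.x m (-1 : F) = (Q.sys.x m 1)⁻¹ :=
      Q.sys.toUnip.x_neg (PC.mem_P Q (by omega) (by omega)) 1
    rw [hx1] at hne
    calc u * Q.sys.x b 1 * u⁻¹
        = u * ((u⁻¹ * Q.sys.x b 1 * u) * Q.sys.x m 1) * u⁻¹ := by rw [hne]; group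
      _ = Q.sys.x b 1 * (u * Q.sys.x m 1 * u⁻¹) := by group
      _ = _ := by rw [xG_comm_U Q hm1 hu, mul_inv_cancel_right]
  · obtain ⟨h6, -⟩ := Q.sys.toUnip.head_unique Q.sys.toUnip.closed_P (PC.mem_P Q hb hbp)
      (t := 1) (u := 0) hT
      (x_mem_XS (S := {s | s ∈ Q.sys.P ∧ b < s}) ⟨PC.mem_P Q hγlt hγp, hgt⟩ c)
      (by rw [Q.sys.x_zero' hb, one_mul]; exact h3.symm)
    exact one_ne_zero h6

end Cfsg.Agent.H51.Sub
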