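import Cfsg.Agent.H51.SubMax.Basic
import Cfsg.Agent.H51.SubMax.Involutions

/-!
A unipotent element of `H` outside the fixed points reduces to one in a few central root
subgroups of the positive unipotent group.
-/

set_option autoImplicit false
set_option maxRecDepth 100000

namespace Cfsg.Agent.H51.Sub

open Cfsg.Lie Cfsg.Agent.H37 Cfsg.Agent.H37.RootSys

/-- The root `s` detects the coordinate at `k`, coefficients in `U` being invertible and those
in `Z` zero. -/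
def witB (D : ChevalleyDatum) (U Z : List ℤ) (k s : ℕ) : Bool :=
  decide (D.nroots / 2 ≤ s) && decide (s < D.nroots) && s != k &&
  match (D.commTerms k s).filter (fun q => !Z.contains q.2.1) with
    | [] => false
    | (j, c, a, _) :: rest => U.contains c && decide (1 ≤ a) && decide (D.nroots / 2 ≤ j) &&
        decide (j < D.nroots) &&
        rest.all (fun q => decide (j < q.1) && decide (q.1 < D.nroots)) &&
        (List.range D.nroots).all fun r => decide (r ≤ k) || r == s ||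
          (D.commTerms r s).all fun q => Z.contains q.2.1 ||
            (decide (j < q.1) && decide (q.1 < D.nroots))

/-- Every positive root is detected, except the central ones `Zs`. -/
def centB (D : ChevalleyDatum) (U Z : List ℤ) (Zs : List ℕ) : Bool :=
  ((List.range D.nroots).all fun k => decide (k < D.nroots / 2) || Zs.contains k ||
    (List.range D.nroots).any (witB D U Z k)) &&
  (Zs.all fun z => decide (D.nroots / 2 ≤ z) && decide (z < D.nroots) &&
    (List.range D.nroots).all fun r => decide (r < D.nroots / 2) || r == z ||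
      (D.commTerms r z).all fun q => Z.contains q.2.1)

variable {D : ChevalleyDatum} {F : Type*} [Field F] (Q : Chev.Data D F) {σ : F →+* F}

/-- An element commuting with `x_s(1)` has no coordinate detected by `s`. -/
theorem head_eq_zero {U Z : List ℤ} (hU : ∀ c ∈ U, (c : F) ≠ 0) (hZ : ∀ c ∈ Z, (c : F) = 0)
    {k s : ℕ} (hk : k < D.nroots) (hkp : D.nroots / 2 ≤ k) (h : witB D U Z k s = true) {a : F}
    {n : ↥(D.group F)} (hn : n ∈ XS Q.sys.x {r | r ∈ Q.sys.P ∧ k < r})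
    (hcomm : Q.sys.x k a * n * Q.sys.x s 1 = Q.sys.x s 1 * (Q.sys.x k a * n)) : a = 0 := by
  simp only [witB, Bool.and_eq_true, decide_eq_true_eq, bne_iff_ne, ne_eq] at h
  obtain ⟨⟨⟨hsp, hs⟩, hsk⟩, hh⟩ := h
  cases hfil : (D.commTerms k s).filter (fun q => !Z.contains q.2.1) with
  | nil => rw [hfil] at hh; exact absurd hh Bool.false_ne_true
  | cons q rest =>
  obtain ⟨j, c, ea, eb⟩ := q
  rw [hfil] at hh
  simp only [Bool.and_eq_true, List.contains_iff_mem, decide_eq_true_eq, List.all_eq_true,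
    List.mem_range, Bool.or_eq_true, beq_iff_eq] at hh
  obtain ⟨⟨⟨⟨⟨hcU, hea⟩, hjp⟩, hj⟩, hrest⟩, hlater⟩ := hh
  set y := Q.sys.x s (1 : F) with hy
  have hUP : ∀ {g}, g ∈ XS Q.sys.x {r | r ∈ Q.sys.P ∧ j < r} → g ∈ Q.sys.U := fun hg =>
    XS_mono (fun r hr => Finset.mem_coe.2 (Q.sys.P_eq ▸ hr.1)) hg
  have hnU : n ∈ Q.sys.U := XS_mono (fun r hr => Finset.mem_coe.2 (Q.sys.P_eq ▸ hr.1)) hn
  set f : ℕ × ℤ × ℕ × ℕ → ↥(D.group F) := fun q =>
    Q.sys.x q.1 ((q.2.1 : F) * (-a) ^ q.2.2.1 * (1 : F) ^ q.2.2.2) with hf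
  have e0 : n⁻¹ * ((Q.sys.x k a)⁻¹ * y * Q.sys.x k a) * n = y := by
    calc n⁻¹ * ((Q.sys.x k a)⁻¹ * y * Q.sys.x k a) * n
        = (Q.sys.x k a * n)⁻¹ * (y * (Q.sys.x k a * n)) := by group
      _ = _ := by rw [← hcomm, inv_mul_cancel_left]
  have e1 : (Q.sys.x k a)⁻¹ * y * Q.sys.x k a = y * (f (j, c, ea, eb) * (rest.map f).prod) := by
    rw [hy, x_conj_eq Q hk hs hsk
      (by rw [Q.K.neg_eq k hk]; have := Q.X.good.even; omega) a 1, ← hy]
    congr 1
    rw [← List.prod_cons, ← List.map_cons, ← hfil]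
    generalize D.commTerms k s = L
    induction L with
    | nil => rfl
    | cons q L ih =>
      rw [List.filter_cons, List.map_cons, List.prod_cons, ih]
      split_ifs with hq
      · rw [List.map_cons, List.prod_cons]
      · simp only [Bool.not_eq_true', Bool.not_eq_false, List.contains_iff_mem] at hq
        have h0 : Q.sys.x q.1 ((q.2.1 : F) * (-a) ^ q.2.2.1 * (1 : F) ^ q.2.2.2) = 1 := by
          rw [hZ _ hq, zero_mul, zero_mul]
          exact Subtype.ext (Q.K.xU_zero F _)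
        rw [h0, one_mul]
  have hmid : y⁻¹ * (n⁻¹ * y * n) ∈ tailU Q j := by
    clear e0 e1 hcomm
    induction hn using Subgroup.closure_induction with
    | mem g hg =>
      obtain ⟨r, ⟨hrP, hrk⟩, t, rfl⟩ := hg
      obtain ⟨hr, hrp⟩ := mem_posSet.1 (Q.sys.P_eq ▸ hrP)
      by_cases hrs : r = s
      · subst hrs
        have hc : Q.sys.x r t * y = y * Q.sys.x r t := by
          rw [hy, ← Q.sys.x_add' _ hr, add_comm, Q.sys.x_add' _ hr]
        rw [mul_assoc (Q.sys.x r t)⁻¹, ← hc, inv_mul_cancel_left, inv_mul_cancel]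
        exact one_mem _
      rw [hy, x_conj_eq Q hr hs (Ne.symm hrs)
        (by rw [Q.K.neg_eq r hr]; have := Q.X.good.even; omega) t 1, inv_mul_cancel_left]
      refine Subgroup.list_prod_mem _ fun g hg => ?_
      obtain ⟨q, hq, rfl⟩ := List.mem_map.1 hg
      rcases hlater r hr with (h | h) | h
      · omega
      · exact absurd h hrs
      · rcases h q hq with h' | h'
        · rw [hZ _ h', zero_mul, zero_mul,
            show Q.sys.x q.1 (0 : F) = 1 from Subtype.ext (Q.K.xU_zero F _)]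
          exact one_mem _
        · exact x_term_mem Q hjp h' _
    | one => simp
    | mul g g' hg hg' ih ih' =>
      have h1 := tailU_conj Q hj hjp (inv_mem (show g' ∈ Q.sys.U from
        XS_mono (fun r hr => Finset.mem_coe.2 (Q.sys.P_eq ▸ hr.1)) hg'))
        (ih (XS_mono (fun r hr => Finset.mem_coe.2 (Q.sys.P_eq ▸ hr.1)) hg))
      rw [show y⁻¹ * ((g * g')⁻¹ * y * (g * g')) =
        y⁻¹ * (g'⁻¹ * y * g') * (g'⁻¹ * (y⁻¹ * (g⁻¹ * y * g)) * g'⁻¹⁻¹) by group]
      exact mul_mem (ih' (XS_mono (fun r hr => Finset.mem_coe.2 (Q.sys.P_eq ▸ hr.1)) hg')) h1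
    | inv g hg ih =>
      have hgU : g ∈ Q.sys.U := XS_mono (fun r hr => Finset.mem_coe.2 (Q.sys.P_eq ▸ hr.1)) hg
      have h1 := tailU_conj Q hj hjp hgU (inv_mem (ih hgU))
      rw [show y⁻¹ * (g⁻¹⁻¹ * y * g⁻¹) = g * (y⁻¹ * (g⁻¹ * y * g))⁻¹ * g⁻¹ by group]
      exact h1
  set t := (c : F) * (-a) ^ ea * (1 : F) ^ eb with ht
  obtain ⟨m2, hm2, hm2e, -⟩ := PC.conj_U Q hj hjp t (inv_mem hnU)
  rw [inv_inv] at hm2e
  obtain ⟨m3, hm3, hm3e, -⟩ := PC.conj_U Q hj hjp t (hUP hmid)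
  have hR : (rest.map f).prod ∈ tailU Q j := Subgroup.list_prod_mem _ fun g hg => by
    obtain ⟨q, hq, rfl⟩ := List.mem_map.1 hg
    exact x_term_mem Q hjp (hrest q hq) _
  have hR' : n⁻¹ * (rest.map f).prod * n ∈ tailU Q j := by
    have := tailU_conj Q hj hjp (inv_mem hnU) hR
    rwa [inv_inv] at this
  have hfj : f (j, c, ea, eb) = Q.sys.x j t := rfl
  rw [e1, hfj] at e0
  have key : Q.sys.x j t * (m3 * (y⁻¹ * (n⁻¹ * y * n)) * m2 * (n⁻¹ * (rest.map f).prod * n)) = 1 := by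
    calc _ = (Q.sys.x j t * m3) * (y⁻¹ * (n⁻¹ * y * n)) * m2 * (n⁻¹ * (rest.map f).prod * n) := by
          simp only [mul_assoc]
      _ = (y⁻¹ * (n⁻¹ * y * n)) * (Q.sys.x j t * m2) * (n⁻¹ * (rest.map f).prod * n) := by
          rw [← hm3e]; group
      _ = y⁻¹ * (n⁻¹ * (y * (Q.sys.x j t * (rest.map f).prod)) * n) := by rw [← hm2e]; group
      _ = 1 := by rw [e0, inv_mul_cancel]
  obtain ⟨h0, -⟩ := Q.sys.toUnip.head_unique Q.sys.toUnip.closed_P (PC.mem_P Q hj hjp)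
    (t := t) (u := 0) (mul_mem (mul_mem (mul_mem hm3 hmid) hm2) hR') (one_mem _)
    (by rw [Q.sys.x_zero' hj, one_mul]; exact key)
  rw [ht, one_pow, mul_one] at h0
  exact neg_eq_zero.1 (eq_zero_of_pow_eq_zero ((mul_eq_zero.1 h0).resolve_left (hU c hcU)))

/-- The excepted root elements are central in `U`. -/
theorem central_of_centB {U Z : List ℤ} {Zs : List ℕ} (hZ : ∀ c ∈ Z, (c : F) = 0)
    (h : centB D U Z Zs = true) {z : ℕ} (hz : z ∈ Zs) (a : F) {g : ↥(D.group F)}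
    (hg : g ∈ Q.sys.U) : g * Q.sys.x z a = Q.sys.x z a * g := by
  simp only [centB, Bool.and_eq_true, decide_eq_true_eq, List.all_eq_true, List.mem_range,
    Bool.or_eq_true, beq_iff_eq, List.contains_iff_mem] at h
  obtain ⟨⟨hzp, hzn⟩, hall⟩ := h.2 z hz
  have hle : Q.sys.U ≤ Subgroup.centralizer {Q.sys.x z a} := XS_le fun r hr t => by
    obtain ⟨hrn, hrp⟩ := mem_posSet.1 (Finset.mem_coe.1 hr)
    rw [Subgroup.mem_centralizer_singleton_iff]
    by_cases hrz : r = z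
    · subst hrz
      rw [← Q.sys.x_add' _ hrn, add_comm, Q.sys.x_add' _ hrn]
    have e := x_conj_eq Q hrn hzn (Ne.symm hrz)
      (by rw [Q.K.neg_eq r hrn]; have := Q.X.good.even; omega) t a
    rw [List.prod_eq_one (fun g hg => by
      obtain ⟨q, hq, rfl⟩ := List.mem_map.1 hg
      rcases hall r hrn with (h1 | h1) | h1
      · omega
      · exact absurd h1 hrz
      · rw [hZ _ (h1 q hq), zero_mul, zero_mul]
        exact Subtype.ext (Q.K.xU_zero F _)), mul_one, mul_assoc, inv_mul_eq_iff_eq_mul] at e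
    exact e.symm
  exact Subgroup.mem_centralizer_singleton_iff.1 (hle hg)

/-- A rational part splits off, leaving the central roots. -/
theorem split_rational {U Z : List ℤ} {Zs : List ℕ} (hU : ∀ c ∈ U, (c : F) ≠ 0)
    (hZ : ∀ c ∈ Z, (c : F) = 0) (h : centB D U Z Zs = true) {u : ↥(D.group F)}
    (hu : u ∈ Q.sys.U)
    (hc : ∀ s, s < D.nroots → D.nroots / 2 ≤ s →
      u⁻¹ * frob Q σ u * Q.sys.x s 1 = Q.sys.x s 1 * (u⁻¹ * frob Q σ u)) :
    ∃ f ∈ fixG Q σ, ∃ z ∈ XS Q.sys.x {r | r ∈ Zs}, u = f * z := by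
  suffices ∀ N k, D.nroots ≤ k + N → ∀ u ∈ XS Q.sys.x {r | r ∈ Q.sys.P ∧ k ≤ r},
      (∀ s, s < D.nroots → D.nroots / 2 ≤ s →
        u⁻¹ * frob Q σ u * Q.sys.x s 1 = Q.sys.x s 1 * (u⁻¹ * frob Q σ u)) →
      ∃ f ∈ fixG Q σ, ∃ z ∈ XS Q.sys.x {r | r ∈ Zs}, u = f * z from
    this D.nroots 0 (by omega) u (XS_mono (S' := {r | r ∈ Q.sys.P ∧ 0 ≤ r})
      (fun r hr => ⟨Q.sys.P_eq ▸ Finset.mem_coe.1 hr, Nat.zero_le r⟩) hu) hc
  intro N
  induction N with
  | zero =>
    intro k hk u hu _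
    have h0 : {r | r ∈ Q.sys.P ∧ k ≤ r} = ∅ := Set.eq_empty_iff_forall_notMem.2 fun r hr => by
      have := (mem_posSet.1 (Q.sys.P_eq ▸ hr.1)).1
      have := hr.2
      omega
    rw [h0, XS_empty, Subgroup.mem_bot] at hu
    exact ⟨1, one_mem _, 1, one_mem _, by rw [hu, one_mul]⟩
  | succ N ih =>
    intro k hk u hu hc
    by_cases hkP : k ∈ Q.sys.P
    swap
    · rw [Unip.tail_of_not_mem hkP] at hu
      exact ih (k + 1) (by omega) u hu hc
    obtain ⟨hkn, hkp⟩ := mem_posSet.1 (Q.sys.P_eq ▸ hkP)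
    obtain ⟨a, n, hn, rfl⟩ := Q.sys.toUnip.exists_head Q.sys.toUnip.closed_P hkP hu
    have hnU : n ∈ Q.sys.U := XS_mono (fun r hr => Finset.mem_coe.2 (Q.sys.P_eq ▸ hr.1)) hn
    have hn' := frob_XS Q σ hn
    have hn'U : frob Q σ n ∈ Q.sys.U := frob_XS Q σ hnU
    have hn1 : n ∈ XS Q.sys.x {r | r ∈ Q.sys.P ∧ k + 1 ≤ r} := hn
    have hneg : Q.sys.x k (-a) = (Q.sys.x k a)⁻¹ := Q.sys.toUnip.x_neg hkP a
    have hd : (Q.sys.x k a * n)⁻¹ * frob Q σ (Q.sys.x k a * n) =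
        n⁻¹ * Q.sys.x k (-a + σ a) * frob Q σ n := by
      rw [map_mul, frob_x, Q.sys.x_add' _ hkn, hneg]
      group
    by_cases hkZ : k ∈ Zs
    · have hcen : ∀ b, ∀ g ∈ Q.sys.U, g * Q.sys.x k b = Q.sys.x k b * g := fun b g hg =>
        central_of_centB Q hZ h hkZ b hg
      obtain ⟨f, hf, z, hz, e⟩ := ih (k + 1) (by omega) n hn1 fun s hs hsp => by
        have h1 := hc s hs hsp
        rw [hd, hcen _ _ (inv_mem hnU)] at h1
        have h2 : Q.sys.x k (-a + σ a) * (n⁻¹ * frob Q σ n * Q.sys.x s 1) =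
            Q.sys.x k (-a + σ a) * (Q.sys.x s 1 * (n⁻¹ * frob Q σ n)) := by
          have h3 := hcen (-a + σ a) _ (Q.sys.x_mem_U hs hsp 1)
          calc _ = Q.sys.x k (-a + σ a) * n⁻¹ * frob Q σ n * Q.sys.x s 1 := by group
            _ = Q.sys.x s 1 * Q.sys.x k (-a + σ a) * (n⁻¹ * frob Q σ n) := by rw [h1]; group
            _ = _ := by rw [h3]; group
        exact mul_left_cancel h2
      exact ⟨f, hf, z * Q.sys.x k a,
        mul_mem hz (x_mem_XS (S := {r | r ∈ Zs}) hkZ a), by rw [← hcen a n hnU, e, mul_assoc]⟩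
    · simp only [centB, Bool.and_eq_true, decide_eq_true_eq, List.all_eq_true, List.mem_range,
        Bool.or_eq_true, List.contains_iff_mem, List.any_eq_true] at h
      obtain ⟨s, hs, hw⟩ : ∃ s, s < D.nroots ∧ witB D U Z k s = true := by
        rcases h.1 k hkn with (h1 | h1) | h1
        · omega
        · exact absurd h1 hkZ
        · exact h1
      have hsp : D.nroots / 2 ≤ s := by
        simp only [witB, Bool.and_eq_true, decide_eq_true_eq] at hw
        exact hw.1.1.1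
      have hd' : (Q.sys.x k a * n)⁻¹ * frob Q σ (Q.sys.x k a * n) =
          Q.sys.x k (-a + σ a) * ((Q.sys.x k (-a + σ a))⁻¹ * n⁻¹ * Q.sys.x k (-a + σ a) *
            frob Q σ n) := by
        rw [hd]; group
      have h3 := head_eq_zero Q hU hZ hkn hkp hw
        (mul_mem (Q.sys.toUnip.conj_tail' Q.sys.toUnip.closed_P hkP _ (inv_mem hn)) hn')
        (by rw [← hd']; exact hc s hs hsp)
      have ha : σ a = a := by linear_combination h3
      rw [h3, Q.sys.x_zero' hkn, mul_one] at hd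
      obtain ⟨f, hf, z, hz, e⟩ := ih (k + 1) (by omega) n hn1 fun s hs hsp => by
        rw [← hd]; exact hc s hs hsp
      exact ⟨Q.sys.x k a * f, mul_mem (x_mem_fixG Q σ k ha) hf, z, hz, by rw [e, mul_assoc]⟩

/-- A subgroup with a unipotent element outside the fixed points has one in the central roots. -/
theorem exists_central_irrational [Finite F] {p : ℕ} [Fact p.Prime] [CharP F p] {U Z : List ℤ}
    {Zs : List ℕ} (hU : ∀ c ∈ U, (c : F) ≠ 0) (hZ : ∀ c ∈ Z, (c : F) = 0)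
    (h : centB D U Z Zs = true) {H : Subgroup ↥(D.group F)} (hrat : HasRat Q σ H)
    {u₀ : ↥(D.group F)} (hu₀ : u₀ ∈ Q.sys.U) (hu₀H : u₀ ∈ H) (hnf : u₀ ∉ fixG Q σ) :
    ∃ z ∈ XS Q.sys.x {r | r ∈ Zs}, z ∈ H ∧ z ∉ fixG Q σ := by
  set P := Q.sys.U ⊓ H with hP
  have hPp : IsPGroup p ↥P := (isPGroup_U Q).to_le inf_le_left
  have : Group.IsNilpotent ↥P := hPp.isNilpotent
  set S := (fixG Q σ).subgroupOf P with hS
  have hlt : S < ⊤ := lt_top_iff_ne_top.2 fun e =>
    hnf (Subgroup.subgroupOf_eq_top.1 e ⟨hu₀, hu₀H⟩)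
  obtain ⟨a, haN, haS⟩ := SetLike.exists_of_lt (Group.normalizerCondition_of_isNilpotent S hlt)
  have hanf : (a : ↥(D.group F)) ∉ fixG Q σ := fun e => haS (Subgroup.mem_subgroupOf.2 e)
  have hc : ∀ s, s < D.nroots → D.nroots / 2 ≤ s →
      (a : ↥(D.group F))⁻¹ * frob Q σ a * Q.sys.x s 1 =
        Q.sys.x s 1 * ((a : ↥(D.group F))⁻¹ * frob Q σ a) := by
    intro s hs hsp
    have hx := x_mem_fixG Q σ s (map_one σ)
    have h1 := Subgroup.mem_subgroupOf.1 ((Subgroup.mem_normalizer_iff.1 haN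
      ⟨Q.sys.x s 1, Q.sys.x_mem_U hs hsp 1, hrat.one s⟩).1 (Subgroup.mem_subgroupOf.2 hx))
    change (a : ↥(D.group F)) * Q.sys.x s 1 * (a : ↥(D.group F))⁻¹ ∈ fixG Q σ at h1
    rw [mem_fixG, map_mul, map_mul, map_inv, frob_x, map_one] at h1
    calc (a : ↥(D.group F))⁻¹ * frob Q σ a * Q.sys.x s 1
        = (a : ↥(D.group F))⁻¹ * (frob Q σ a * Q.sys.x s 1 * (frob Q σ a)⁻¹) * frob Q σ a := by
          group
      _ = _ := by rw [h1]; group
  obtain ⟨f, hf, z, hz, e⟩ := split_rational Q hU hZ h a.2.1 hc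
  refine ⟨z, hz, ?_, fun hzf => hanf (e ▸ mul_mem hf hzf)⟩
  rw [show z = f⁻¹ * (a : ↥(D.group F)) by rw [e, inv_mul_cancel_left]]
  have hzU : z ∈ Q.sys.U := by
    refine XS_mono (fun r hr => ?_) hz
    simp only [centB, Bool.and_eq_true, decide_eq_true_eq, List.all_eq_true] at h
    exact Finset.mem_coe.2 (mem_posSet.2 ⟨(h.2 r hr).1.2, (h.2 r hr).1.1⟩)
  have hfU : f ∈ Q.sys.U := by
    rw [show f = (a : ↥(D.group F)) * z⁻¹ by rw [e, mul_inv_cancel_right]]
    exact mul_mem a.2.1 (inv_mem hzU)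
  exact mul_mem (inv_mem (hrat.mem_of_fixed Q σ hfU hf)) a.2.2

end Cfsg.Agent.H51.Sub
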