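import Cfsg.Agent.H51.SubMax.Odd
import Cfsg.Agent.H51.SubMax.ClosureB2
import Cfsg.Agent.H51.SubMax.Certs
import Cfsg.Agent.H51.G2Cent

/-!
The fixed points of a field automorphism of prime order form a maximal subgroup.
-/

set_option autoImplicit false
set_option maxRecDepth 100000

namespace Cfsg.Agent.H51.Sub

open Cfsg.Lie Cfsg.Agent.H37 Cfsg.Agent.H37.RootSys

variable {D : ChevalleyDatum} {F : Type*} [Field F] (Q : Chev.Data D F) {σ : F →+* F}
  {H : Subgroup ↥(D.group F)}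

theorem mem_XS_single {k : ℕ} {z : ↥(D.group F)} (hz : z ∈ XS Q.sys.x {r | r ∈ [k]}) :
    ∃ a, z = Q.sys.x k a := by
  have hle : XS Q.sys.x {r | r ∈ [k]} ≤
      { carrier := Set.range (Q.sys.x k)
        one_mem' := ⟨0, Subtype.ext (Q.K.xU_zero F k)⟩
        mul_mem' := by
          rintro _ _ ⟨a, rfl⟩ ⟨b, rfl⟩
          exact ⟨a + b, Subtype.ext (Q.K.xU_add F k a b).symm⟩
        inv_mem' := by
          rintro _ ⟨a, rfl⟩
          exact ⟨-a, x_neg_arg Q k a⟩ } := XS_le fun r hr t => by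
    simp only [Set.mem_setOf_eq, List.mem_singleton] at hr
    subst hr
    exact ⟨t, rfl⟩
  obtain ⟨a, ha⟩ := hle hz
  exact ⟨a, ha.symm⟩

/-- Only the highest root is left. -/
theorem exists_top_single [Finite F] {p : ℕ} [Fact p.Prime] [CharP F p] {U Z : List ℤ}
    (hU : ∀ c ∈ U, (c : F) ≠ 0) (hZ : ∀ c ∈ Z, (c : F) = 0) {k : ℕ}
    (h : centB D U Z [k] = true) (hrat : HasRat Q σ H) {u : ↥(D.group F)}
    (hu : u ∈ Q.sys.U) (huH : u ∈ H) (hn : u ∉ fixG Q σ) :
    ∃ d, σ d ≠ d ∧ Q.sys.x k d ∈ H := by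
  obtain ⟨z, hz, hzH, hzn⟩ := exists_central_irrational (p := p) Q hU hZ h hrat hu huH hn
  obtain ⟨a, rfl⟩ := mem_XS_single Q hz
  exact ⟨a, fun ha => hzn (x_mem_fixG Q σ k ha), hzH⟩

theorem orderOf_x_top [CharP F 2] {k : ℕ} (hk : k < D.nroots) :
    orderOf (Q.sys.x k (1 : F)) = 2 := by
  haveI : Fact (2 : ℕ).Prime := ⟨Nat.prime_two⟩
  refine orderOf_eq_prime ?_ fun e =>
    one_ne_zero ((Q.K.xU_eq_one_iff F hk (1 : F)).1 (congrArg Subtype.val e))
  rw [pow_two, ← Q.sys.x_add' k hk, CharTwo.add_self_eq_zero, Q.sys.x_zero' hk]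

/-- Characteristic two, types other than `G₂`: no further unipotent elements means no further
elements. -/
theorem eq_fix_two [Fintype F] [CharP F 2] (hE : Embedded Q σ H) {b : ℕ}
    (hb : ncB D b = true) : H ≤ fixG Q σ := by
  have hb' := hb
  simp only [ncB, Bool.and_eq_true, decide_eq_true_eq] at hb'
  obtain ⟨⟨hbp, hb1⟩, -⟩ := hb'
  have hbn : b < D.nroots := by omega
  have hm : D.nroots - 1 + 1 = D.nroots := by omega
  set x := Q.sys.x (D.nroots - 1) (1 : F) with hx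
  set y := Q.sys.x b (1 : F) with hy
  refine hE.eq_fixed_two (x := x) (x' := y * x) ⟨x_mem_fixG Q σ _ (map_one σ), hE.rat.one _⟩
    (mul_mem ⟨x_mem_fixG Q σ _ (map_one σ), hE.rat.one _⟩
      ⟨x_mem_fixG Q σ _ (map_one σ), hE.rat.one _⟩)
    (orderOf_x_top Q (by omega)) ?_ fun g => not_conj_top Q hb g
  haveI : Fact (2 : ℕ).Prime := ⟨Nat.prime_two⟩
  have hxx : x * x = 1 := by
    rw [hx, ← Q.sys.x_add' _ (by omega), CharTwo.add_self_eq_zero, Q.sys.x_zero' (by omega)]
  have hyy : y * y = 1 := by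
    rw [hy, ← Q.sys.x_add' _ hbn, CharTwo.add_self_eq_zero, Q.sys.x_zero' hbn]
  have hc : y * x = x * y := xG_comm_U Q hm (Q.sys.x_mem_U hbn hbp 1) 1
  refine orderOf_eq_prime ?_ fun e => ?_
  · rw [pow_two, mul_assoc, ← mul_assoc x, ← hc, mul_assoc y x, hxx, mul_one, hyy]
  · obtain ⟨h0, -⟩ := Q.sys.toUnip.head_unique Q.sys.toUnip.closed_P (PC.mem_P Q hbn hbp)
      (t := (1 : F)) (u := 0)
      (x_mem_XS (r := D.nroots - 1) (S := {s | s ∈ Q.sys.P ∧ b < s}) ⟨PC.mem_P Q (by omega) (by omega), by omega⟩ 1)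
      (one_mem _) (by rw [Q.sys.x_zero' hbn, one_mul]; exact e)
    exact one_ne_zero h0

omit Q in
theorem int_ne_zero {p : ℕ} [CharP F p] {c : ℤ} (h : ¬ (p : ℤ) ∣ c) : (c : F) ≠ 0 :=
  fun e => h ((CharP.intCast_eq_zero_iff F p c).1 e)

omit Q in
theorem int_eq_zero {p : ℕ} [CharP F p] {c : ℤ} (h : (p : ℤ) ∣ c) : (c : F) = 0 :=
  (CharP.intCast_eq_zero_iff F p c).2 h

/-- The coefficient classes and the central roots of one type and characteristic. -/
theorem exists_cert [Finite F] {p : ℕ} [Fact p.Prime] [CharP F p]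
    (hD : D ∈ [chevG2, chevB2, chevD4, chevF4, chevE6, chevE7, chevE8]) :
    ∃ (U Z : List ℤ) (Zs : List ℕ), (∀ c ∈ U, (c : F) ≠ 0) ∧ (∀ c ∈ Z, (c : F) = 0) ∧
      centB D U Z Zs = true ∧ negB D U Z Zs = true ∧ Zs.length ≤ 2 ∧
      ∀ (σ : F →+* F) (H : Subgroup ↥(D.group F)), HasRat Q σ H →
        ∀ z ∈ XS Q.sys.x {r | r ∈ Zs}, z ∈ H → z ∉ fixG Q σ →
          ∃ d, σ d ≠ d ∧ Q.sys.x (D.nroots - 1) d ∈ H := by
  have hpp : p.Prime := Fact.out
  have hnd : ∀ {q : ℕ}, q.Prime → p ≠ q → ¬ p ∣ q := fun hq hne h =>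
    hne ((Nat.prime_dvd_prime_iff_eq hpp hq).1 h)
  have hone : ∀ c ∈ ([1, -1] : List ℤ), (c : F) ≠ 0 := by
    intro c hc
    fin_cases hc <;> simp
  have hzero : ∀ c ∈ ([0] : List ℤ), (c : F) = 0 := by simp
  have hU12 : p ≠ 2 → ∀ c ∈ ([1, -1, 2, -2] : List ℤ), (c : F) ≠ 0 := by
    intro h2 c hc
    refine int_ne_zero (p := p) fun hd => ?_
    have := Int.natAbs_dvd_natAbs.2 hd
    fin_cases hc <;> simp at this <;>
      first
        | exact hpp.ne_one this
        | exact hnd Nat.prime_two h2 this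
  have hZ2 : p = 2 → ∀ c ∈ ([0, 2, -2] : List ℤ), (c : F) = 0 := by
    intro h2 c hc
    refine int_eq_zero (p := p) ?_
    subst h2
    fin_cases hc <;> decide
  have single : ∀ k, k = D.nroots - 1 → ∀ (σ : F →+* F) (H : Subgroup ↥(D.group F)),
      HasRat Q σ H → ∀ z ∈ XS Q.sys.x {r | r ∈ [k]}, z ∈ H → z ∉ fixG Q σ →
        ∃ d, σ d ≠ d ∧ Q.sys.x (D.nroots - 1) d ∈ H := by
    intro k hk σ H _ z hz hzH hzn
    obtain ⟨a, rfl⟩ := mem_XS_single Q hz
    exact ⟨a, fun ha => hzn (x_mem_fixG Q σ k ha), hk ▸ hzH⟩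
  simp only [List.mem_cons, List.not_mem_nil, or_false] at hD
  rcases hD with rfl | rfl | rfl | rfl | rfl | rfl | rfl
  · by_cases h2 : p = 2
    · refine ⟨_, _, _, ?_, hZ2 h2, Cert.centG2_two, Cert.negG2_two, by simp,
        single _ (by decide +kernel)⟩
      intro c hc
      refine int_ne_zero (p := p) ?_
      subst h2
      fin_cases hc <;> decide
    by_cases h3 : p = 3
    · subst h3
      refine ⟨_, _, _, hU12 h2, ?_, Cert.centG2_three, Cert.negG2_three, by simp,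
        fun σ H hrat z hz hzH hzn => ?_⟩
      · intro c hc
        refine int_eq_zero (p := 3) ?_
        fin_cases hc <;> decide
      · rw [show chevG2.nroots - 1 = 11 by decide +kernel]
        exact exists_top_G2 Q hrat hz hzH hzn
    refine ⟨_, _, _, ?_, hzero, Cert.centG2_big, Cert.negG2_big, by simp,
      single _ (by decide +kernel)⟩
    intro c hc
    refine int_ne_zero (p := p) fun hd => ?_
    have := Int.natAbs_dvd_natAbs.2 hd
    fin_cases hc <;> simp at this <;>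
      first
        | exact hpp.ne_one this
        | exact hnd Nat.prime_two h2 this
        | exact hnd Nat.prime_three h3 this
  · by_cases h2 : p = 2
    · subst h2
      refine ⟨_, _, _, hone, hZ2 rfl, Cert.centB2_two, Cert.negB2_two, by simp,
        fun σ H hrat z hz hzH hzn => ?_⟩
      rw [show chevB2.nroots - 1 = 7 by decide +kernel]
      exact exists_top_pair Q hrat Cert.pair_B2 hz hzH hzn
    exact ⟨_, _, _, hU12 h2, hzero, Cert.centB2_odd, Cert.negB2_odd, by simp,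
      single _ (by decide +kernel)⟩
  · exact ⟨_, _, _, hone, hzero, Cert.centD4, Cert.negD4, by simp, single _ (by decide +kernel)⟩
  · by_cases h2 : p = 2
    · subst h2
      refine ⟨_, _, _, hone, hZ2 rfl, Cert.centF4_two, Cert.negF4_two, by simp,
        fun σ H hrat z hz hzH hzn => ?_⟩
      rw [show chevF4.nroots - 1 = 47 by decide +kernel]
      exact exists_top_pair Q hrat Cert.pair_F4 hz hzH hzn
    exact ⟨_, _, _, hU12 h2, hzero, Cert.centF4_odd, Cert.negF4_odd, by simp,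
      single _ (by decide +kernel)⟩
  · exact ⟨_, _, _, hone, hzero, Cert.centE6, Cert.negE6, by simp, single _ (by decide +kernel)⟩
  · exact ⟨_, _, _, hone, hzero, Cert.centE7, Cert.negE7, by simp, single _ (by decide +kernel)⟩
  · exact ⟨_, _, _, hone, hzero, Cert.centE8, Cert.negE8, by simp, single _ (by decide +kernel)⟩

/-- A unipotent element outside the fixed points gives one in the highest root subgroup. -/
theorem exists_top [Finite F] {p : ℕ} [Fact p.Prime] [CharP F p]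
    (hD : D ∈ [chevG2, chevB2, chevD4, chevF4, chevE6, chevE7, chevE8]) (hrat : HasRat Q σ H)
    {u : ↥(D.group F)} (hu : u ∈ Q.sys.U) (huH : u ∈ H) (hn : u ∉ fixG Q σ) :
    ∃ d, σ d ≠ d ∧ Q.sys.x (D.nroots - 1) d ∈ H := by
  obtain ⟨U, Z, Zs, hU, hZ, hc, -, -, hext⟩ := exists_cert (p := p) Q hD
  obtain ⟨z, hz, hzH, hzn⟩ := exists_central_irrational (p := p) Q hU hZ hc hrat hu huH hn
  exact hext σ H hrat z hz hzH hzn

theorem exists_genB (hD : D ∈ [chevG2, chevB2, chevD4, chevF4, chevE6, chevE7, chevE8]) :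
    (∃ ws, genB D ws = true) ∧ 0 < D.nroots := by
  simp only [List.mem_cons, List.not_mem_nil, or_false] at hD
  rcases hD with rfl | rfl | rfl | rfl | rfl | rfl | rfl
  · exact ⟨⟨_, Cert.genG2⟩, by decide +kernel⟩
  · exact ⟨⟨_, Cert.genB2⟩, by decide +kernel⟩
  · exact ⟨⟨_, Cert.genD4⟩, by decide +kernel⟩
  · exact ⟨⟨_, Cert.genF4⟩, by decide +kernel⟩
  · exact ⟨⟨_, Cert.genE6⟩, by decide +kernel⟩
  · exact ⟨⟨_, Cert.genE7⟩, by decide +kernel⟩
  · exact ⟨⟨_, Cert.genE8⟩, by decide +kernel⟩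

/-- The parameters at the highest root are closed under multiplication. -/
theorem mul_mem_top [Finite F] {p : ℕ} [Fact p.Prime] [CharP F p]
    (hD : D ∈ [chevG2, chevB2, chevD4, chevF4, chevE6, chevE7, chevE8]) (hrat : HasRat Q σ H)
    {t u : F} (ht : Q.sys.x (D.nroots - 1) t ∈ H) (hu : Q.sys.x (D.nroots - 1) u ∈ H) :
    Q.sys.x (D.nroots - 1) (t * u) ∈ H := by
  have hn := (exists_genB hD).2
  simp only [List.mem_cons, List.not_mem_nil, or_false] at hD
  rcases hD with rfl | rfl | rfl | rfl | rfl | rfl | rfl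
  · exact mul_mem_param Q hrat Cert.ringG2 hn ht hu
  · rw [show chevB2.nroots - 1 = 7 by decide +kernel] at ht hu ⊢
    exact mul_mem_B2 Q (p := p) hrat ht hu
  · exact mul_mem_param Q hrat Cert.ringD4 hn ht hu
  · exact mul_mem_param Q hrat Cert.ringF4 hn ht hu
  · exact mul_mem_param Q hrat Cert.ringE6 hn ht hu
  · exact mul_mem_param Q hrat Cert.ringE7 hn ht hu
  · exact mul_mem_param Q hrat Cert.ringE8 hn ht hu

/-- Without further unipotent elements there are no further elements. -/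
theorem le_fix_of_embedded [Fintype F] {p : ℕ} [Fact p.Prime] [CharP F p]
    (hD : D ∈ [chevG2, chevB2, chevD4, chevF4, chevE6, chevE7, chevE8]) (hE : Embedded Q σ H) :
    H ≤ fixG Q σ := by
  by_cases hp : p = 2
  · subst hp
    by_cases hG : D = chevG2
    · subst hG
      exact hE.eq_fixed_two ⟨x_mem_fixG Q σ 11 (map_one σ), hE.rat.one 11⟩
        ⟨x_mem_fixG Q σ 9 (map_one σ), hE.rat.one 9⟩
        (orderOf_x_top Q (by decide +kernel)) (orderOf_x_top Q (by decide +kernel))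
        (G2.not_conj Q)
    · obtain ⟨b, hb⟩ := ncB_of_mem (D := D) (by
        simp only [List.mem_cons, List.not_mem_nil, or_false] at hD ⊢
        exact hD.resolve_left hG)
      exact eq_fix_two Q hE hb
  · exact hE.eq_fixed_odd hp (topB_of_mem hD)

/-- A subgroup containing the fixed points is equal to them or is the whole group. -/
theorem eq_fix_or_top [Fintype F] {p : ℕ} [Fact p.Prime] [CharP F p]
    (hS : Chev.Sup Q.X.C D Q.X.n)
    (hD : D ∈ [chevG2, chevB2, chevD4, chevF4, chevE6, chevE7, chevE8]) {r : ℕ} (hr : r.Prime)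
    (hσ : ∀ x, σ^[r] x = x) (hfix : fixG Q σ ≤ H) : H = fixG Q σ ∨ H = ⊤ := by
  have hrat : HasRat Q σ H := HasRat.of_le Q σ hfix
  by_cases hemb : ∀ u ∈ Q.sys.U, u ∈ H → u ∈ fixG Q σ
  · exact Or.inl (le_antisymm (le_fix_of_embedded Q (p := p) hD ⟨hS, PC.linkB_of_mem hD, hrat,
      fun u hu h hh huh => fixed_of_mem_B Q hfix hemb hu hh huh, hemb⟩) hfix)
  · right
    push Not at hemb
    obtain ⟨u, hu, huH, hn⟩ := hemb
    obtain ⟨d, hd, hdH⟩ := exists_top (p := p) Q hD hrat hu huH hn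
    obtain ⟨⟨ws, hws⟩, hn0⟩ := exists_genB hD
    exact eq_top_of_top Q hrat hws hn0 fun t => field_gen hr hσ (param Q H (D.nroots - 1))
      (fun _ hx => hrat _ _ hx) (fun _ hx _ hy => mul_mem_top Q (p := p) hD hrat hx hy) hd hdH t

end Cfsg.Agent.H51.Sub
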