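import Cfsg.Agent.H51.SubMax.Embedded

/-!
The embedded case in odd characteristic.
-/

set_option autoImplicit false
set_option maxRecDepth 100000
set_option maxHeartbeats 1000000

namespace Cfsg.Agent.H51.Sub

open Cfsg.Lie Cfsg.Agent.H37 Cfsg.Agent.H37.RootSys

variable {D : ChevalleyDatum} {F : Type*} [Field F] [Fintype F] {Q : Chev.Data D F} {σ : F →+* F}
  {p : ℕ} [Fact p.Prime] [CharP F p] {H : Subgroup ↥(D.group F)}

theorem mem_map_conj {G : Type*} [Group G] {S : Subgroup G} {u x y : G} (hx : x ∈ S)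
    (h : u * x * u⁻¹ = y) : y ∈ S.map (MulAut.conj u).toMonoidHom :=
  Subgroup.mem_map.2 ⟨x, hx, h⟩


/-- The square of the Weyl element of `SL₂` is `-1`. -/
theorem neg_one_eq_sq {F : Type*} [Field F] (A B : Matrix.SpecialLinearGroup (Fin 2) F)
    (hA : A.1 = !![1, 1; 0, 1]) (hB : B.1 = !![1, 0; -1, 1]) :
    -1 = (A * B * A) * (A * B * A) := by
  refine Subtype.ext ?_
  rw [Matrix.SpecialLinearGroup.coe_mul, Matrix.SpecialLinearGroup.coe_mul,
    Matrix.SpecialLinearGroup.coe_mul, hA, hB, Matrix.SpecialLinearGroup.coe_neg,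
    Matrix.SpecialLinearGroup.coe_one]
  ext a b
  fin_cases a <;> fin_cases b <;> simp [Matrix.mul_apply, Fin.sum_univ_two]

omit [Fintype F] [Fact p.Prime] [CharP F p] in
theorem top_facts (ht : topB D = true) :
    (∀ s, s < D.nroots → D.nroots / 2 ≤ s → s ≠ D.nroots - 1 →
      Chevalley.pairingSum D (D.nroots - 1) s = 1 ∨
        (Chevalley.pairingSum D (D.nroots - 1) s = 0 ∧ D.commTerms s 0 = [])) ∧
    (∃ s, s < D.nroots ∧ D.nroots / 2 ≤ s ∧ s ≠ D.nroots - 1 ∧
      Chevalley.pairingSum D (D.nroots - 1) s = 0) ∧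
    Chevalley.pairingSum D (D.nroots - 1) (D.nroots - 1) = 2 ∧
    Chevalley.pairingSum D (D.nroots - 1) 0 = -2 := by
  simp only [topB, Bool.and_eq_true, List.all_eq_true, List.mem_range, Bool.or_eq_true,
    decide_eq_true_eq, beq_iff_eq, List.isEmpty_iff, List.any_eq_true, Bool.not_eq_true',
    beq_eq_false_iff_ne] at ht
  obtain ⟨⟨⟨h1, ⟨s, hs, ⟨hs1, hs2⟩, hs3⟩⟩, h3⟩, h4⟩ := ht
  refine ⟨fun s hs hp hne => ?_, ⟨s, hs, hs1, hs2, hs3⟩, h3, h4⟩
  rcases h1 s hs with ((h | h) | h) | h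
  · omega
  · exact absurd h hne
  · exact Or.inl h
  · exact Or.inr h

include p in
/-- In odd characteristic. -/
theorem Embedded.eq_fixed_odd (hE : Embedded Q σ H) (hp : p ≠ 2) (ht : topB D = true) :
    H ≤ fixG Q σ := by
  classical
  obtain ⟨hpair, ⟨s, hs, hsp, hsne, hs0⟩, htop2, hlow⟩ := top_facts ht
  have hev := Q.X.good.even
  have hnr : 0 < D.nroots := by
    have := (Q.K.simple_lt 0 (by have := Q.K.rank_pos; omega)).1; omega
  set m := D.nroots - 1 with hm
  have hm1 : m + 1 = D.nroots := by omega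
  have hmlt : m < D.nroots := by omega
  have hmp : D.nroots / 2 ≤ m := by omega
  have hneg : D.neg m = 0 := by rw [Q.K.neg_eq m hmlt]; omega
  have hm_ne : Q.sys.x m (1 : F) ≠ 1 := fun h => by
    have := (Q.K.xU_eq_one_iff F hmlt (1 : F)).1 (congrArg Subtype.val h)
    exact one_ne_zero this
  have hxp : ∀ {r}, r < D.nroots → D.nroots / 2 ≤ r → ∀ t : F,
      ∃ k, (Q.sys.x r t) ^ p ^ k = 1 := fun hr hp' t => by
    obtain ⟨k, hk⟩ := isPGroup_U Q (p := p) ⟨_, Q.sys.x_mem_U hr hp' t⟩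
    exact ⟨k, congrArg Subtype.val hk⟩
  intro h hh
  set x := Q.sys.x m (1 : F) with hx
  have hxfix : x ∈ fixG Q σ := x_mem_fixG Q σ m (map_one σ)
  obtain ⟨kx, hkx⟩ := hxp hmlt hmp (1 : F)
  set y := h * x * h⁻¹ with hy
  have hyH : y ∈ H := mul_mem (mul_mem hh (hE.rat.one m)) (inv_mem hh)
  suffices hyfix : y ∈ fixG Q σ from hE.of_conj (p := p) hh hxfix (hE.rat.one m) hm_ne hkx hyfix
  obtain ⟨u, hu, t, ht', w, v, hv, e⟩ := Q.sys.normalForm.exists_eq h
  change u ∈ Q.sys.U at hu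
  change t ∈ Q.sys.H at ht'
  change v ∈ Q.sys.Uw w at hv
  change h = u * t * Q.sys.rep w * v at e
  obtain ⟨c1, e1⟩ := Q.sys.rep_conj w m hmlt 1
  set γ := (Q.X.good.hom w ⟨m, hmlt⟩).val with hγ
  have hγlt : γ < D.nroots := Fin.isLt _
  obtain ⟨c, e2⟩ := Q.sys.h_conj t ht' γ hγlt c1
  have hyeq : y = u * Q.sys.x γ c * u⁻¹ := by
    rw [hy, e, ← e2, ← e1]
    calc u * t * Q.sys.rep w * v * x * (u * t * Q.sys.rep w * v)⁻¹
        = u * t * Q.sys.rep w * (v * x) * (u * t * Q.sys.rep w * v)⁻¹ := by group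
      _ = _ := by rw [xG_comm_U Q hm1 (Q.sys.Uw_le w hv)]; group
  by_cases hγp : D.nroots / 2 ≤ γ
  · refine hE.unip y ?_ hyH
    rw [hyeq]
    exact mul_mem (mul_mem hu (Q.sys.x_mem_U hγlt hγp c)) (inv_mem hu)
  have hux : u * x * u⁻¹ = x := by rw [xG_comm_U Q hm1 hu, mul_inv_cancel_right]
  by_cases hγ0 : γ ≠ 0
  · have hP := isPGroup_pair Q (p := p) hmlt hmp hγlt (by omega)
    have h1 : x ∈ XS Q.sys.x {m, γ} :=
      x_mem_XS (x := Q.sys.x) (show m ∈ ({m, γ} : Set ℕ) from Or.inl rfl) (1 : F)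
    have h2 : Q.sys.x γ c ∈ XS Q.sys.x {m, γ} :=
      x_mem_XS (x := Q.sys.x) (show γ ∈ ({m, γ} : Set ℕ) from Or.inr rfl) c
    have h3 := mem_map_conj h1 hux
    have h4 := mem_map_conj h2 hyeq.symm
    exact hE.pgroup_le (p := p) (P := (XS Q.sys.x {m, γ}).map (MulAut.conj u).toMonoidHom ⊓ H)
      ((hP.map _).to_le inf_le_left) inf_le_right
      (x := x) ⟨h3, hE.rat.one m⟩ hxfix hm_ne ⟨h4, hyH⟩
  push Not at hγ0
  rw [hγ0] at hyeq
  have hc : c ≠ 0 := by
    intro h0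
    rw [h0, Q.sys.x_zero' hnr, mul_one, mul_inv_cancel, hy] at hyeq
    exact hm_ne (conj_eq_one_iff.1 hyeq)
  -- the central involution of the root pair
  obtain ⟨ψ, hψr, hψ⟩ := Q.K.exists_sl2Hom (F := F) hmlt
  have hψG : ∀ g, ψ g ∈ D.group F := fun g => by
    have h1 : ψ g ∈ ψ.range := ⟨g, rfl⟩
    rw [hψr] at h1
    refine (sup_le ?_ ?_ : D.rootSubgroup F m ⊔ D.rootSubgroup F (D.neg m) ≤ D.group F) h1 <;>
    · intro g hg
      obtain ⟨t, rfl⟩ := (Q.K.mem_rootSubgroup F).1 hg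
      exact Q.K.xU_mem_group F _ t
  let φ : Matrix.SpecialLinearGroup (Fin 2) F →* ↥(D.group F) := ψ.codRestrict (D.group F) hψG
  let A : Matrix.SpecialLinearGroup (Fin 2) F := ⟨!![1, 1; 0, 1], by simp [Matrix.det_fin_two_of]⟩
  let Bm : F → Matrix.SpecialLinearGroup (Fin 2) F := fun t =>
    ⟨!![1, 0; t, 1], by simp [Matrix.det_fin_two_of]⟩
  have hφA : φ A = x := Subtype.ext (Units.ext (((hψ A 1).1 rfl).trans (Q.K.coe_xU F m 1).symm))
  have hφB : ∀ t, φ (Bm t) = Q.sys.x 0 t := fun t => by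
    refine Subtype.ext (Units.ext ?_)
    have h1 := (hψ (Bm t) t).2 rfl
    rw [hneg] at h1
    exact h1.trans (Q.K.coe_xU F 0 t).symm
  set S := H.comap ((MulAut.conj u).toMonoidHom.comp φ) with hS
  have hS1 : (-1 : Matrix.SpecialLinearGroup (Fin 2) F) ∈ S := by
    refine neg_one_mem_of_opposite p hp S (a := A) (b := Bm c) hc rfl rfl ?_ ?_
    · show u * φ A * u⁻¹ ∈ H
      rw [hφA, hux]; exact hE.rat.one m
    · show u * φ (Bm c) * u⁻¹ ∈ H
      rw [hφB, ← hyeq]; exact hyH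
  set i := φ (-1) with hi
  have hiscale : ∀ r, r < D.nroots → ∀ a, i * Q.sys.x r a * i⁻¹ =
      Q.sys.x r ((((-1 : Fˣ) ^ Chevalley.pairingSum D m r : Fˣ) : F) * a) := by
    intro r hr a
    have h1 : (-1 : Matrix.SpecialLinearGroup (Fin 2) F) = (A * Bm (-1) * A) * (A * Bm (-1) * A) :=
      neg_one_eq_sq A (Bm (-1)) rfl rfl
    have h2 : (i : GL D.Idx F) = Q.K.nU F m 1 * Q.K.nU F m 1 := by
      rw [hi, h1, map_mul, map_mul, map_mul, hφA, hφB, Q.K.nU_eq, inv_one, hneg]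
      rfl
    have h3 : (i : GL D.Idx F) = Q.K.hU F m ((-1 : Fˣ) : F) := by
      have h4 : Q.K.hU F m (1 : F) = Q.K.hU F m ((-1 : Fˣ) : F) * Q.K.hU F m ((-1 : Fˣ) : F) := by
        rw [← Q.K.hU_mul F hmlt]; simp
      rw [Q.K.hU_one] at h4
      rw [h2, eq_inv_of_mul_eq_one_left h4.symm, Units.val_neg, Units.val_one, Q.K.hU_eq,
        mul_inv_rev, Q.K.nU_inv, neg_neg]
    refine Subtype.ext ?_
    show (i : GL D.Idx F) * Q.K.xU F r a * (i : GL D.Idx F)⁻¹ = _
    rw [h3]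
    exact Q.K.hU_conj_xU F hmlt hr (-1) a
  set j := u * i * u⁻¹ with hj
  have hjH : j ∈ H := hS1
  have hix : i * x * i⁻¹ = x := by
    rw [hx, hiscale m hmlt, htop2]; simp
  have hi1 : i * x = x * i := by
    calc i * x = i * x * i⁻¹ * i := by group
      _ = _ := by rw [hix]
  have hjfix : j ∈ fixG Q σ := hE.of_commute (p := p) hxfix hm_ne hkx hjH (by
    conv_lhs => rw [← hux]
    conv_rhs => rw [← hux]
    rw [hj]
    calc u * i * u⁻¹ * (u * x * u⁻¹) = u * (i * x) * u⁻¹ := by group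
      _ = _ := by rw [hi1]; group)
  -- split off the part commuting with the pair
  set A1 : Finset ℕ := (posSet D).filter fun r => Chevalley.pairingSum D m r ≠ 0 with hA1
  obtain ⟨q, hq, l, hl, hql⟩ := Q.sys.toUnip.exists_split (Q.sys.P_eq ▸ Q.sys.toUnip.closed_P)
    (↑A1 : Set ℕ) {r | r < D.nroots ∧ D.nroots / 2 ≤ r ∧ Chevalley.pairingSum D m r = 0}
    (fun r hr => by
      obtain ⟨hr1, hr2⟩ := mem_posSet.1 hr
      by_cases h0 : Chevalley.pairingSum D m r = 0
      · exact Or.inr ⟨hr1, hr2, h0⟩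
      · exact Or.inl (Finset.mem_coe.2 (Finset.mem_filter.2 ⟨hr, h0⟩))) hu
  have hli : l * i = i * l := by
    have hle : XS Q.sys.x {r | r < D.nroots ∧ D.nroots / 2 ≤ r ∧
        Chevalley.pairingSum D m r = 0} ≤ Subgroup.centralizer {i} := XS_le fun r hr a => by
      rw [Subgroup.mem_centralizer_singleton_iff]
      have h1 := hiscale r hr.1 a
      rw [hr.2.2, zpow_zero, Units.val_one, one_mul, mul_inv_eq_iff_eq_mul] at h1
      exact h1.symm
    exact Subgroup.mem_centralizer_singleton_iff.1 (hle hl)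
  have hl0 : l * Q.sys.x 0 c = Q.sys.x 0 c * l := by
    have hle : XS Q.sys.x {r | r < D.nroots ∧ D.nroots / 2 ≤ r ∧
        Chevalley.pairingSum D m r = 0} ≤ Subgroup.centralizer {Q.sys.x 0 c} := by
      refine XS_le fun r hr a => ?_
      rw [Subgroup.mem_centralizer_singleton_iff]
      have hrm : r ≠ m := fun e => by have := hr.2.2; rw [e, htop2] at this; norm_num at this
      rcases hpair r hr.1 hr.2.1 hrm with h1 | ⟨-, h1⟩
      · rw [hr.2.2] at h1; norm_num at h1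
      · have hne : (0 : ℕ) ≠ r := by have := hr.2.1; omega
        have hne' : (0 : ℕ) ≠ D.neg r := by
          rw [Q.K.neg_eq r hr.1]; have := hr.1; omega
        refine Subtype.ext ?_
        have h2 := Q.K.xU_comm F hr.1 hnr hne hne' a c
        rw [ChevalleyDatum.commWord, h1] at h2
        simp only [List.map_nil, Chevalley.Cert.wU, List.prod_nil, mul_one] at h2
        exact h2.symm
    exact Subgroup.mem_centralizer_singleton_iff.1 (hle hl)
  have hclA : Q.sys.toUnip.Closed A1 := by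
    refine ⟨fun r hr => Q.sys.P_eq ▸ (Finset.mem_filter.1 hr).1, fun r hr r' hr' _ k hk => ?_⟩
    obtain ⟨hr1, hr2⟩ := Finset.mem_filter.1 hr
    obtain ⟨hr1', hr2'⟩ := Finset.mem_filter.1 hr'
    have hkP := (Q.sys.T_pos (Q.sys.P_eq ▸ hr1) (Q.sys.P_eq ▸ hr1') hk).1
    rw [Q.sys.P_eq] at hkP
    refine Finset.mem_filter.2 ⟨hkP, fun h0 => ?_⟩
    obtain ⟨-, a, b, ha, hb, ecf⟩ := (hk : Combo Q.K r r' k)
    obtain ⟨hr3, hr4⟩ := mem_posSet.1 hr1
    obtain ⟨hr3', hr4'⟩ := mem_posSet.1 hr1'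
    have hlin : Chevalley.pairingSum D m k =
        a * Chevalley.pairingSum D m r + b * Chevalley.pairingSum D m r' := by
      simp only [Chevalley.pairingSum, Finset.mul_sum, ← Finset.sum_add_distrib]
      refine Finset.sum_congr rfl fun n hn => ?_
      have hn' := Finset.mem_range.1 hn
      rw [Q.K.cartan_lin n hn' k (mem_posSet.1 hkP).1, Q.K.cartan_lin n hn' r hr3,
        Q.K.cartan_lin n hn' r' hr3']
      have : ((List.range D.rank).map fun j => Q.K.cf k j * D.cartan n (D.simple j)).sum =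
          (a : ℤ) * ((List.range D.rank).map fun j => Q.K.cf r j * D.cartan n (D.simple j)).sum +
          (b : ℤ) * ((List.range D.rank).map fun j => Q.K.cf r' j * D.cartan n (D.simple j)).sum := by
        rw [← List.sum_map_mul_left, ← List.sum_map_mul_left, ← List.sum_map_add]
        refine congrArg List.sum (List.map_congr_left fun j hj => ?_)
        rw [ecf j (List.mem_range.1 hj)]
        ring
      rw [this]
      ring
    have hpos : ∀ {q}, q < D.nroots → D.nroots / 2 ≤ q → Chevalley.pairingSum D m q ≠ 0 →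
        1 ≤ Chevalley.pairingSum D m q := fun {q} hq hq' h => by
      by_cases hqm : q = m
      · rw [hqm, htop2]; norm_num
      · rcases hpair q hq hq' hqm with h1 | ⟨h1, -⟩
        · omega
        · exact absurd h1 h
    have ha' : (1 : ℤ) ≤ a := by exact_mod_cast ha
    have hb' : (1 : ℤ) ≤ b := by exact_mod_cast hb
    have := hpos hr3 hr4 hr2
    have := hpos hr3' hr4' hr2'
    nlinarith
  have hzero : ∀ k ∈ A1, k ≠ m → ∀ a, ∀ n ∈ XS Q.sys.x {r | r ∈ A1 ∧ k < r},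
      Q.sys.x k a * n * i = i * (Q.sys.x k a * n) → a = 0 := by
    intro k hk hkm a n hn hcomm
    obtain ⟨hk1, hk2⟩ := Finset.mem_filter.1 hk
    obtain ⟨hk3, hk4⟩ := mem_posSet.1 hk1
    have h1 := (hpair k hk3 hk4 hkm).resolve_right fun h => hk2 h.1
    have h2 : Q.sys.x k a * n = Q.sys.x k (-a) * (i * n * i⁻¹) := by
      have h3 := hiscale k hk3 a
      rw [h1, zpow_one, Units.val_neg, Units.val_one, neg_one_mul] at h3
      rw [← h3]
      calc Q.sys.x k a * n = Q.sys.x k a * n * i * i⁻¹ := by group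
        _ = _ := by rw [hcomm]; group
    have h4 : i * n * i⁻¹ ∈ XS Q.sys.x {r | r ∈ A1 ∧ k < r} := conj_mem_XS (fun r hr b => by
      have hr' := mem_posSet.1 (Finset.mem_filter.1 hr.1).1
      rw [hiscale r hr'.1 b]
      exact x_mem_XS hr _) hn
    obtain ⟨h5, -⟩ := Q.sys.toUnip.head_unique hclA hk hn h4 h2
    have h6 : (2 : F) * a = 0 := by linear_combination h5
    refine (mul_eq_zero.1 h6).resolve_left fun h => hp ?_
    refine (Nat.prime_dvd_prime_iff_eq Fact.out Nat.prime_two).1 ?_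
    rw [← CharP.cast_eq_zero_iff F p]
    exact_mod_cast h
  have hmA : m ∈ A1 := Finset.mem_filter.2 ⟨mem_posSet.2 ⟨hmlt, hmp⟩, by rw [htop2]; norm_num⟩
  have hqdec : ∀ N k, D.nroots ≤ k + N → ∀ z ∈ XS Q.sys.x {r | r ∈ A1 ∧ k ≤ r},
      z⁻¹ * frob Q σ z * i = i * (z⁻¹ * frob Q σ z) →
      ∃ z' ∈ fixG Q σ, ∃ a, z = z' * Q.sys.x m a := by
    intro N
    induction N with
    | zero =>
      intro k hk z hz _
      have h0 : {r | r ∈ A1 ∧ k ≤ r} = ∅ := Set.eq_empty_iff_forall_notMem.2 fun r hr => by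
        have := (mem_posSet.1 (Finset.mem_filter.1 hr.1).1).1
        have := hr.2
        omega
      rw [h0, XS_empty, Subgroup.mem_bot] at hz
      exact ⟨1, one_mem _, 0, by rw [hz, Q.sys.x_zero' hmlt, one_mul]⟩
    | succ N ih =>
      intro k hk z hz hcomm
      by_cases hkA : k ∈ A1
      · obtain ⟨a, n, hn, rfl⟩ := Q.sys.toUnip.exists_head hclA hkA hz
        by_cases hkm : k = m
        · have h0 : {r | r ∈ A1 ∧ k < r} = ∅ := Set.eq_empty_iff_forall_notMem.2 fun r hr => by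
            have := (mem_posSet.1 (Finset.mem_filter.1 hr.1).1).1
            have := hr.2
            omega
          rw [h0, XS_empty, Subgroup.mem_bot] at hn
          exact ⟨1, one_mem _, a, by rw [hn, hkm, one_mul, mul_one]⟩
        · have hn' := frob_XS Q σ hn
          have hd : (Q.sys.x k a * n)⁻¹ * frob Q σ (Q.sys.x k a * n) =
              Q.sys.x k (-a + σ a) * ((Q.sys.x k (-a + σ a))⁻¹ * n⁻¹ * Q.sys.x k (-a + σ a) *
                frob Q σ n) := by
            rw [map_mul, frob_x, Q.sys.x_add' _ (mem_posSet.1 (Finset.mem_filter.1 hkA).1).1,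
              show Q.sys.x k (-a) = (Q.sys.x k a)⁻¹ from
                Q.sys.toUnip.x_neg (hclA.1 hkA) a]
            group
          have h3 := hzero k hkA hkm _ _
            (mul_mem (Q.sys.toUnip.conj_tail' hclA hkA _ (inv_mem hn)) hn') (by rw [← hd]; exact hcomm)
          have ha : σ a = a := by linear_combination h3
          rw [ha, show -a + a = (0 : F) by ring, Q.sys.x_zero'
            (mem_posSet.1 (Finset.mem_filter.1 hkA).1).1, one_mul, inv_one, one_mul, mul_one] at hd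
          obtain ⟨z', hz', b, ez⟩ := ih (k + 1) (by omega) n hn (by rwa [← hd])
          exact ⟨Q.sys.x k a * z', mul_mem (x_mem_fixG Q σ k ha) hz', b, by rw [ez, mul_assoc]⟩
      · rw [Unip.tail_of_not_mem hkA] at hz
        exact ih (k + 1) (by omega) z hz hcomm
  have hqj : j = q * i * q⁻¹ := by
    rw [hj, hql]
    calc q * l * i * (q * l)⁻¹ = q * (l * i) * l⁻¹ * q⁻¹ := by group
      _ = _ := by rw [hli]; group
  have hifix : frob Q σ i = i := by
    refine Subtype.ext ?_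
    show Matrix.GeneralLinearGroup.map σ (i : GL D.Idx F) = i
    have : (i : GL D.Idx F) = Q.K.nU F m 1 * Q.K.nU F m 1 := by
      have h1 : (-1 : Matrix.SpecialLinearGroup (Fin 2) F) =
          (A * Bm (-1) * A) * (A * Bm (-1) * A) :=
      neg_one_eq_sq A (Bm (-1)) rfl rfl
      rw [hi, h1, map_mul, map_mul, map_mul, hφA, hφB, Q.K.nU_eq, inv_one, hneg]
      rfl
    rw [this, Q.K.nU_eq, inv_one]
    simp only [map_mul, Q.K.map_xU, map_neg, map_one]
  obtain ⟨z', hz', a, ez⟩ := hqdec D.nroots 0 (by omega) q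
    (XS_mono (fun r hr => (⟨Finset.mem_coe.1 hr, Nat.zero_le r⟩ : r ∈ A1 ∧ 0 ≤ r)) hq) (by
      have h1 := (mem_fixG Q σ).1 hjfix
      rw [hqj, map_mul, map_mul, map_inv, hifix] at h1
      calc q⁻¹ * frob Q σ q * i = q⁻¹ * (frob Q σ q * i * (frob Q σ q)⁻¹) * frob Q σ q := by group
        _ = _ := by rw [h1]; group)
  -- a fixed root element commuting with the pair
  set xs := Q.sys.x s (1 : F) with hxs
  have hxs1 : xs ≠ 1 := fun h => one_ne_zero
    ((Q.K.xU_eq_one_iff F hs (1 : F)).1 (congrArg Subtype.val h))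
  obtain ⟨ks, hks⟩ := hxp hs hsp (1 : F)
  have hsm : xs * Q.sys.x m a = Q.sys.x m a * xs := xG_comm_U Q hm1 (Q.sys.x_mem_U hs hsp 1) a
  have hs0c : Q.sys.x 0 c * xs = xs * Q.sys.x 0 c := by
    rcases hpair s hs hsp hsne with h1 | ⟨-, h1⟩
    · rw [hs0] at h1; norm_num at h1
    · refine Subtype.ext ?_
      have h2 := Q.K.xU_comm F hs hnr (by omega) (by rw [Q.K.neg_eq s hs]; omega) (1 : F) c
      rw [ChevalleyDatum.commWord, h1] at h2
      simp only [List.map_nil, Chevalley.Cert.wU, List.prod_nil, mul_one] at h2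
      exact h2
  refine hE.of_commute (p := p) (z := z' * xs * z'⁻¹)
    (mul_mem (mul_mem hz' (x_mem_fixG Q σ s (map_one σ))) (inv_mem hz'))
    (fun h => hxs1 (conj_eq_one_iff.1 h)) (k := ks)
    (by rw [conj_pow, hks, mul_one, mul_inv_cancel]) hyH ?_
  have hy2 : y = z' * (Q.sys.x m a * Q.sys.x 0 c * (Q.sys.x m a)⁻¹) * z'⁻¹ := by
    rw [hyeq, hql]
    calc q * l * Q.sys.x 0 c * (q * l)⁻¹ = q * (l * Q.sys.x 0 c) * l⁻¹ * q⁻¹ := by group
      _ = q * Q.sys.x 0 c * q⁻¹ := by rw [hl0]; group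
      _ = _ := by rw [ez]; group
  have hc1 : Commute (Q.sys.x m a * Q.sys.x 0 c * (Q.sys.x m a)⁻¹) xs := by
    have h1 : Commute xs (Q.sys.x m a) := hsm
    have h2 : Commute (Q.sys.x 0 c) xs := hs0c
    exact ((h1.symm.mul_left h2).mul_left h1.symm.inv_left)
  rw [hy2]
  calc z' * (Q.sys.x m a * Q.sys.x 0 c * (Q.sys.x m a)⁻¹) * z'⁻¹ * (z' * xs * z'⁻¹)
      = z' * ((Q.sys.x m a * Q.sys.x 0 c * (Q.sys.x m a)⁻¹) * xs) * z'⁻¹ := by group
    _ = _ := by rw [hc1.eq]; group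

end Cfsg.Agent.H51.Sub
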