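import Cfsg.Agent.H51.SubMax.Main
import Mathlib.RingTheory.IntegralDomain

/-!
A subgroup of a finite Chevalley group with the root elements over a subfield lies between the
root elements over, and the fixed points of, a larger subfield.
-/

set_option autoImplicit false
set_option maxRecDepth 100000

namespace Cfsg.Agent.H51.Sub

open Cfsg.Lie Cfsg.Agent.H37 Cfsg.Agent.H37.RootSys

variable {D : ChevalleyDatum} {F : Type*} [Field F] [Fintype F] (Q : Chev.Data D F) {σ : F →+* F}
  {p : ℕ} [Fact p.Prime] [CharP F p] {H : Subgroup ↥(D.group F)}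

/-- The subfield of parameters, the root elements over it, and the fixed points. -/
theorem overgroup (hS : Chev.Sup Q.X.C D Q.X.n)
    (hD : D ∈ [chevG2, chevB2, chevD4, chevF4, chevE6, chevE7, chevE8]) (hrat : HasRat Q σ H) :
    ∃ b : ℕ, 1 ≤ b ∧ p ^ b ≤ Nat.card H ∧ (∀ t, σ t = t → t ^ p ^ b = t) ∧
      Nat.card {t : F // t ^ p ^ b = t} = p ^ b ∧
      (∀ r t, t ^ p ^ b = t → Q.sys.x r t ∈ H) ∧ H ≤ fixG Q (iterateFrobenius F p b) := by
  classical
  obtain ⟨⟨ws, hws⟩, hn⟩ := exists_genB hD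
  set m := D.nroots - 1 with hm
  set A := param Q H m with hA
  have hone : (1 : F) ∈ A := hrat m 1 (map_one σ)
  have hmul : ∀ x ∈ A, ∀ y ∈ A, x * y ∈ A := fun x hx y hy =>
    mul_mem_top Q (p := p) hD hrat hx hy
  have hinv : ∀ x ∈ A, x⁻¹ ∈ A := by
    intro x hx
    by_cases hx0 : x = 0
    · rw [hx0, inv_zero]; exact A.zero_mem
    have hinj : Function.Injective fun y : ↥A => (⟨x * y, hmul x hx y y.2⟩ : ↥A) := fun a b h =>
      Subtype.ext (mul_left_cancel₀ hx0 (congrArg Subtype.val h))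
    obtain ⟨⟨y, hy⟩, e⟩ := Finite.injective_iff_surjective.1 hinj ⟨1, hone⟩
    have e' : x * y = 1 := congrArg Subtype.val e
    rwa [inv_eq_of_mul_eq_one_right e']
  let Sf : Subfield F :=
    { carrier := A
      mul_mem' := fun hx hy => hmul _ hx _ hy
      one_mem' := hone
      add_mem' := A.add_mem
      zero_mem' := A.zero_mem
      neg_mem' := A.neg_mem
      inv_mem' := hinv }
  obtain ⟨b, hbp, hb⟩ := FiniteField.card ↥Sf p
  set Qn := p ^ (b : ℕ) with hQn
  have hQ1 : 1 < Qn := Nat.one_lt_pow b.pos.ne' (Fact.out : p.Prime).one_lt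
  -- the fixed points of the `Qn`-th power map are the parameters
  have hfixA : ∀ t ∈ A, t ^ Qn = t := fun t ht => by
    have h := FiniteField.pow_card (⟨t, ht⟩ : ↥Sf)
    rw [hb] at h
    exact congrArg Subtype.val h
  have hcardA : Nat.card ↥A = Qn := by
    rw [← hb, ← Nat.card_eq_fintype_card]; rfl
  have hle : Nat.card {t : F // t ^ Qn = t} ≤ Qn := by
    set P : Polynomial F := Polynomial.X ^ Qn - Polynomial.X with hP
    have hP0 : P ≠ 0 := FiniteField.X_pow_card_sub_X_ne_zero F hQ1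
    calc Nat.card {t : F // t ^ Qn = t} ≤ Nat.card ↥P.roots.toFinset := by
          refine Nat.card_le_card_of_injective (fun t => ⟨t.1, Multiset.mem_toFinset.2
            ((Polynomial.mem_roots hP0).2 (by simp [hP, sub_eq_zero, t.2]))⟩) fun a b h => ?_
          exact Subtype.ext (congrArg (fun z : ↥P.roots.toFinset => (z : F)) h)
      _ = P.roots.toFinset.card := Nat.card_eq_finsetCard _
      _ ≤ Multiset.card P.roots := Multiset.toFinset_card_le _
      _ ≤ P.natDegree := P.card_roots'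
      _ = Qn := FiniteField.X_pow_card_sub_X_natDegree_eq F hQ1
  let ι : ↥A → {t : F // t ^ Qn = t} := fun t => ⟨t, hfixA t t.2⟩
  have hinjA : Function.Injective ι :=
    fun a b h => Subtype.ext (congrArg Subtype.val h :)
  have hcardEq : Nat.card {t : F // t ^ Qn = t} = Qn := by
    refine le_antisymm hle ?_
    have h := Nat.card_le_card_of_injective ι hinjA
    omega
  have hAeq : ∀ t, t ^ Qn = t → t ∈ A := by
    intro t ht
    obtain ⟨a, ha⟩ := ((Nat.bijective_iff_injective_and_card _).2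
      ⟨hinjA, by rw [hcardA, hcardEq]⟩).2 ⟨t, ht⟩
    rw [← show (a : F) = t from congrArg Subtype.val ha]
    exact a.2
  have hroots : ∀ r t, t ^ Qn = t → Q.sys.x r t ∈ H := by
    intro r t ht
    by_cases hr : r < D.nroots
    · exact roots_of_top Q hrat hws hn hinv hone (fun a ha => ha) r hr t (hAeq t ht)
    · rw [show Q.sys.x r t = 1 from Subtype.ext (Units.ext (by
        show ((Q.K.xU F r t : GL D.Idx F) : Matrix D.Idx D.Idx F) = _
        rw [Q.K.coe_xU, ChevalleyDatum.x, dif_neg hr]; rfl))]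
      exact one_mem H
  refine ⟨b, b.pos, ?_, fun t ht => hfixA t (hrat m t ht), hcardEq, hroots, ?_⟩
  · show Qn ≤ Nat.card ↥H
    rw [← hcardA]
    refine Nat.card_le_card_of_injective (fun t : ↥A => (⟨Q.sys.x m t, t.2⟩ : ↥H)) fun a c h => ?_
    have e : Q.sys.x m (a : F) = Q.sys.x m (c : F) := congrArg Subtype.val h
    have hmn : m < D.nroots := by omega
    refine Subtype.ext (sub_eq_zero.1 ((Q.K.xU_eq_one_iff F hmn _).1 (congrArg Subtype.val
      (show Q.sys.x m ((a : F) - c) = 1 by
        rw [sub_eq_add_neg, Q.sys.x_add' m hmn, e, x_neg_arg, mul_inv_cancel]))))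
  set τ : F →+* F := iterateFrobenius F p b with hτ
  have hτA : ∀ t, τ t = t → t ∈ A := fun t ht => hAeq t (by rwa [hτ, iterateFrobenius_def] at ht)
  have hratτ : HasRat Q τ H := fun r t ht => hroots r t (by rwa [hτ, iterateFrobenius_def] at ht)
  have hemb : ∀ u ∈ Q.sys.U, u ∈ H → u ∈ fixG Q τ := by
    intro u hu huH
    by_contra hne
    obtain ⟨d, hd, hdH⟩ := exists_top (p := p) Q hD hratτ hu huH hne
    exact hd (by rw [hτ, iterateFrobenius_def]; exact hfixA d hdH)
  obtain ⟨U, Z, Zs, hU, hZ, hc, hneg, hlen, -⟩ := exists_cert (p := p) Q hD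
  exact le_fix_of_embedded Q (p := p) hD ⟨hS, PC.linkB_of_mem hD, hratτ,
    fun u hu h hh huh => borel_fixed Q hU hZ hc hneg hlen hratτ hemb hu hh huh, hemb⟩

end Cfsg.Agent.H51.Sub
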