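import Cfsg.Agent.H51.SubMax.Leading

/-!
From a central unipotent element of `H` outside the fixed points to an irrational element of
the highest root subgroup.
-/

set_option autoImplicit false
set_option maxRecDepth 100000

namespace Cfsg.Agent.H51.Sub

open Cfsg.Lie Cfsg.Agent.H37 Cfsg.Agent.H37.RootSys

variable {D : ChevalleyDatum} {F : Type*} [Field F] (Q : Chev.Data D F) {σ : F →+* F}

/-- A fundamental representative moves root elements with a sign. -/
theorem ns_conj_sign {i r : ℕ} (hi : i < D.rank) (hr : r < D.nroots) :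
    ∃ e : F, (e = 1 ∨ e = -1) ∧ ∀ t, nG Q.K F i * Q.sys.x r t * (nG Q.K F i)⁻¹ =
      Q.sys.x (D.reflectRoot i r) (e * t) := by
  refine ⟨(Q.K.sg i r : F), by rcases Q.K.sg_pm i r with h | h <;> simp [h], fun t => ?_⟩
  refine Subtype.ext ?_
  rw [Q.K.w_reflect i hi r hr]
  exact Q.K.nS_conj_xU F hi hr t

theorem x_neg_arg (r : ℕ) (t : F) : Q.sys.x r (-t) = (Q.sys.x r t)⁻¹ := by
  refine eq_inv_of_mul_eq_one_left (Subtype.ext ?_)
  show Q.K.xU F r (-t) * Q.K.xU F r t = 1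
  rw [Q.K.xU_add, neg_add_cancel, Q.K.xU_zero]

theorem neg_mem {H : Subgroup ↥(D.group F)} {r : ℕ} {t : F} (h : Q.sys.x r t ∈ H) :
    Q.sys.x r (-t) ∈ H := by
  rw [x_neg_arg]
  exact inv_mem h

theorem pm_mem {H : Subgroup ↥(D.group F)} {r : ℕ} {e t : F} (he : e = 1 ∨ e = -1)
    (h : Q.sys.x r t ∈ H) : Q.sys.x r (e * t) ∈ H := by
  rcases he with rfl | rfl
  · rwa [one_mul]
  · rw [neg_one_mul]; exact neg_mem Q h

theorem of_pm_mem {H : Subgroup ↥(D.group F)} {r : ℕ} {e t : F} (he : e = 1 ∨ e = -1)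
    (h : Q.sys.x r (e * t) ∈ H) : Q.sys.x r t ∈ H := by
  have := pm_mem Q he h
  rcases he with rfl | rfl
  · rwa [one_mul, one_mul] at this
  · rwa [neg_one_mul, neg_one_mul, neg_neg] at this

/-- A product of two commuting root subgroups. -/
theorem mem_XS_pair {k l : ℕ} (hk : k < D.nroots) (hl : l < D.nroots)
    (hc : ∀ a b : F, Q.sys.x k a * Q.sys.x l b = Q.sys.x l b * Q.sys.x k a)
    {z : ↥(D.group F)} (hz : z ∈ XS Q.sys.x {r | r ∈ [k, l]}) :
    ∃ a b, z = Q.sys.x k a * Q.sys.x l b := by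
  induction hz using Subgroup.closure_induction with
  | mem g hg =>
    obtain ⟨r, hr, t, rfl⟩ := hg
    simp only [Set.mem_setOf_eq, List.mem_cons, List.not_mem_nil, or_false] at hr
    rcases hr with rfl | rfl
    · exact ⟨t, 0, by rw [Q.sys.x_zero' hl, mul_one]⟩
    · exact ⟨0, t, by rw [Q.sys.x_zero' hk, one_mul]⟩
  | one => exact ⟨0, 0, by rw [Q.sys.x_zero' hk, Q.sys.x_zero' hl, one_mul]⟩
  | mul g g' _ _ ih ih' =>
    obtain ⟨a, b, rfl⟩ := ih
    obtain ⟨a', b', rfl⟩ := ih'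
    refine ⟨a + a', b + b', ?_⟩
    rw [Q.sys.x_add' k hk, Q.sys.x_add' l hl, mul_assoc, ← mul_assoc (Q.sys.x l b), ← hc a' b]
    simp only [mul_assoc]
  | inv g _ ih =>
    obtain ⟨a, b, rfl⟩ := ih
    refine ⟨-a, -b, ?_⟩
    rw [x_neg_arg, x_neg_arg, ← mul_inv_rev, hc a b]

theorem mul_fix_irr {k l : ℕ} {a b : F} (h : Q.sys.x k a * Q.sys.x l b ∉ fixG Q σ) :
    σ a ≠ a ∨ σ b ≠ b := by
  by_contra hh
  push Not at hh
  exact h (mul_mem (x_mem_fixG Q σ k hh.1) (x_mem_fixG Q σ l hh.2))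

/-! ### G₂ in characteristic three -/

section G2

variable {F : Type*} [Field F] [CharP F 3] (Q : Chev.Data chevG2 F) {σ : F →+* F}

theorem commute_of_terms {D : ChevalleyDatum} {F : Type*} [Field F] (Q : Chev.Data D F) {r s : ℕ}
    (hr : r < D.nroots) (hs : s < D.nroots) (h1 : s ≠ r) (h2 : s ≠ D.neg r)
    (h : ∀ q ∈ D.commTerms r s, (q.2.1 : F) = 0) (t u : F) :
    Q.sys.x r t * Q.sys.x s u = Q.sys.x s u * Q.sys.x r t := by
  have e := x_conj_eq Q hr hs h1 h2 t u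
  rw [List.prod_eq_one (fun g hg => by
      obtain ⟨q, hq, rfl⟩ := List.mem_map.1 hg
      rw [h q hq, zero_mul, zero_mul]
      exact Subtype.ext (Q.K.xU_zero F _)), mul_one, mul_assoc, inv_mul_eq_iff_eq_mul] at e
  exact e.symm

theorem exists_top_G2 {H : Subgroup ↥(chevG2.group F)} (hrat : HasRat Q σ H)
    {z : ↥(chevG2.group F)} (hz : z ∈ XS Q.sys.x {r | r ∈ [9, 11]}) (hzH : z ∈ H)
    (hzn : z ∉ fixG Q σ) : ∃ d, σ d ≠ d ∧ Q.sys.x 11 d ∈ H := by
  have n12 : chevG2.nroots = 12 := rfl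
  have h3 : (3 : F) = 0 := by exact_mod_cast CharP.cast_eq_zero F 3
  obtain ⟨a, b, rfl⟩ := mem_XS_pair Q (by omega : 9 < chevG2.nroots) (by omega : 11 < chevG2.nroots)
    (fun a b => commute_of_terms Q (by omega) (by omega) (by omega) (by decide +kernel)
      (fun q hq => by
        rw [show chevG2.commTerms 9 11 = [] by decide +kernel] at hq; simp at hq) a b) hz
  have hn : ∀ i, nG Q.K F i ∈ H := fun i => hrat.ns i
  have hc6 : Q.sys.x 6 (1 : F) ∈ H := hrat.one 6
  have key : ∀ {g : ↥(chevG2.group F)}, g ∈ H →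
      g⁻¹ * ((Q.sys.x 6 1)⁻¹ * g * Q.sys.x 6 1) ∈ H := fun hg =>
    mul_mem (inv_mem hg) (mul_mem (mul_mem (inv_mem hc6) hg) hc6)
  have c610 : ∀ u, (Q.sys.x 6 (1 : F))⁻¹ * Q.sys.x 10 u * Q.sys.x 6 1 =
      Q.sys.x 10 u * Q.sys.x 11 (-u) := fun u => by
    rw [x_conj_eq Q (by omega) (by omega) (by omega) (by decide +kernel),
      show chevG2.commTerms 6 10 = [(11, 1, 1, 1)] by decide +kernel]
    simp
  obtain ⟨e9, he9, hn9⟩ := ns_conj_sign Q (i := 1) (r := 9) (by decide +kernel) (by omega)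
  obtain ⟨e11, he11, hn11⟩ := ns_conj_sign Q (i := 1) (r := 11) (by decide +kernel) (by omega)
  rw [show chevG2.reflectRoot 1 9 = 9 by decide +kernel] at hn9
  rw [show chevG2.reflectRoot 1 11 = 10 by decide +kernel] at hn11
  have hb : Q.sys.x 11 b ∈ H := by
    have h1 : Q.sys.x 9 (e9 * a) * Q.sys.x 10 (e11 * b) ∈ H := by
      rw [← hn9, ← hn11]
      have := mul_mem (mul_mem (hn 1) hzH) (inv_mem (hn 1))
      simpa only [mul_assoc, inv_mul_cancel_left] using this
    have h2 := key h1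
    have hc69 := commute_of_terms Q (r := 6) (s := 9) (by omega) (by omega) (by omega)
      (by decide +kernel) (fun q hq => by
        rw [show chevG2.commTerms 6 9 = [] by decide +kernel] at hq; simp at hq) 1 (e9 * a)
    have he : (Q.sys.x 6 (1 : F))⁻¹ * (Q.sys.x 9 (e9 * a) * Q.sys.x 10 (e11 * b)) * Q.sys.x 6 1 =
        Q.sys.x 9 (e9 * a) * (Q.sys.x 10 (e11 * b) * Q.sys.x 11 (-(e11 * b))) := by
      rw [← c610]
      calc _ = ((Q.sys.x 6 1)⁻¹ * Q.sys.x 9 (e9 * a) * Q.sys.x 6 1) *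
            ((Q.sys.x 6 1)⁻¹ * Q.sys.x 10 (e11 * b) * Q.sys.x 6 1) := by group
        _ = _ := by rw [mul_assoc (Q.sys.x 6 1)⁻¹ (Q.sys.x 9 _), ← hc69, inv_mul_cancel_left]
    rw [he, ← mul_assoc (Q.sys.x 9 _), inv_mul_cancel_left] at h2
    have h3 := neg_mem Q h2
    rw [neg_neg] at h3
    exact of_pm_mem Q he11 h3
  by_cases hbr : σ b = b
  swap
  · exact ⟨b, hbr, hb⟩
  have har : σ a ≠ a := (mul_fix_irr Q hzn).resolve_right (not_not.2 hbr)
  have h9 : Q.sys.x 9 a ∈ H := by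
    have := mul_mem hzH (inv_mem hb)
    rwa [mul_inv_cancel_right] at this
  obtain ⟨e0, he0, hn0⟩ := ns_conj_sign Q (i := 0) (r := 9) (by decide +kernel) (by omega)
  rw [show chevG2.reflectRoot 0 9 = 8 by decide +kernel] at hn0
  have h8 : Q.sys.x 8 a ∈ H := of_pm_mem Q he0 (hn0 a ▸ mul_mem (mul_mem (hn 0) h9) (inv_mem (hn 0)))
  obtain ⟨e1, he1, hn1⟩ := ns_conj_sign Q (i := 1) (r := 8) (by decide +kernel) (by omega)
  rw [show chevG2.reflectRoot 1 8 = 7 by decide +kernel] at hn1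
  have h7 : Q.sys.x 7 a ∈ H := of_pm_mem Q he1 (hn1 a ▸ mul_mem (mul_mem (hn 1) h8) (inv_mem (hn 1)))
  have hc78 : (Q.sys.x 7 a)⁻¹ * Q.sys.x 8 a * Q.sys.x 7 a = Q.sys.x 8 a * Q.sys.x 9 (-(a ^ 2)) := by
    rw [x_conj_eq Q (by omega) (by omega) (by omega) (by decide +kernel),
      show chevG2.commTerms 7 8 = [(9, -2, 1, 1), (10, -3, 2, 1), (11, 3, 1, 2)] by decide +kernel]
    simp only [List.map_cons, List.map_nil, List.prod_cons, List.prod_nil, Int.cast_neg,
      Int.cast_ofNat, h3, neg_zero, zero_mul, Q.sys.x_zero' (by omega : 10 < chevG2.nroots),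
      Q.sys.x_zero' (by omega : 11 < chevG2.nroots), mul_one]
    congr 2
    linear_combination a ^ 2 * h3
  have h92 : Q.sys.x 9 (a ^ 2) ∈ H := by
    have := mul_mem (inv_mem h8) (mul_mem (mul_mem (inv_mem h7) h8) h7)
    rw [hc78, inv_mul_cancel_left] at this
    simpa using neg_mem Q this
  have hc76 : (Q.sys.x 7 a)⁻¹ * Q.sys.x 6 1 * Q.sys.x 7 a =
      Q.sys.x 6 1 * (Q.sys.x 8 a * (Q.sys.x 9 (a ^ 2) *
        (Q.sys.x 10 (-(a ^ 3)) * Q.sys.x 11 (-(a ^ 3))))) := by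
    rw [x_conj_eq Q (by omega) (by omega) (by omega) (by decide +kernel),
      show chevG2.commTerms 7 6 =
        [(8, -1, 1, 1), (9, 1, 2, 1), (10, 1, 3, 1), (11, 1, 3, 2)] by decide +kernel]
    simp only [List.map_cons, List.map_nil, List.prod_cons, List.prod_nil, mul_one]
    push_cast
    ring_nf
  have hw : Q.sys.x 10 (-(a ^ 3)) * Q.sys.x 11 (-(a ^ 3)) ∈ H := by
    have := mul_mem (mul_mem (inv_mem h7) hc6) h7
    rw [hc76] at this
    have := mul_mem (inv_mem h92) (mul_mem (inv_mem h8) (mul_mem (inv_mem hc6) this))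
    simpa only [inv_mul_cancel_left] using this
  refine ⟨a ^ 3, fun h => har ?_, ?_⟩
  · rw [map_pow] at h
    have : (σ a - a) ^ 3 = 0 := by linear_combination h + (-(σ a) ^ 2 * a + σ a * a ^ 2) * h3
    exact sub_eq_zero.1 (eq_zero_of_pow_eq_zero this)
  · have h2 := key hw
    have hc611 := commute_of_terms Q (r := 6) (s := 11) (by omega) (by omega) (by omega)
      (by decide +kernel) (fun q hq => by
        rw [show chevG2.commTerms 6 11 = [] by decide +kernel] at hq; simp at hq) 1 (-(a ^ 3))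
    have he : (Q.sys.x 6 (1 : F))⁻¹ * (Q.sys.x 10 (-(a ^ 3)) * Q.sys.x 11 (-(a ^ 3))) *
        Q.sys.x 6 1 = Q.sys.x 10 (-(a ^ 3)) * Q.sys.x 11 (-(a ^ 3)) * Q.sys.x 11 (a ^ 3) := by
      calc _ = ((Q.sys.x 6 1)⁻¹ * Q.sys.x 10 (-(a ^ 3)) * Q.sys.x 6 1) *
            ((Q.sys.x 6 1)⁻¹ * Q.sys.x 11 (-(a ^ 3)) * Q.sys.x 6 1) := by group
        _ = _ := by
            rw [c610, neg_neg, mul_assoc (Q.sys.x 6 1)⁻¹ (Q.sys.x 11 _), ← hc611,
              inv_mul_cancel_left, mul_assoc, mul_assoc, ← Q.sys.x_add' 11 (by omega),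
              ← Q.sys.x_add' 11 (by omega), add_comm]
    rwa [he, inv_mul_cancel_left] at h2

end G2

/-! ### The pair of central roots in characteristic two -/

/-- The image of a root under a word of fundamental reflections. -/
def applyW (D : ChevalleyDatum) (w : List ℕ) (r : ℕ) : ℕ := w.foldr (fun i q => D.reflectRoot i q) r

/-- The configuration of two fundamental roots of the rank two subsystem carrying the central
roots `s` and `l`. -/
def pairB (D : ChevalleyDatum) (al be s l : ℕ) (w1 w2 : List ℕ) : Bool :=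
  (([al, be, s, l] ++ [al, be, s, l].map (fun r => D.neg r)).all fun r => decide (r < D.nroots)) &&
  ((w1 ++ w2).all fun i => decide (i < D.rank)) &&
  (match D.commTerms al be with
    | [(a, c, 1, 1), (b, e, 2, 1)] => a == s && b == l && (c == 1 || c == -1) && (e == 1 || e == -1)
    | _ => false) &&
  ([(al, s), (s, be), (be, l), (al, l), (s, l)].all fun q => q.2 != q.1 && q.2 != D.neg q.1 &&
    (D.commTerms q.1 q.2).all fun c => [0, 2, -2].contains c.2.1) &&
  be != al && be != D.neg al &&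
  applyW D w1 s == s && applyW D w1 l == be && applyW D w2 s == al && applyW D w2 l == l

variable [CharP F 2]

theorem conj_word {H : Subgroup ↥(D.group F)} (hrat : HasRat Q σ H) :
    ∀ w : List ℕ, (∀ i ∈ w, i < D.rank) → ∃ g ∈ H, ∀ r, r < D.nroots → ∀ t,
      g * Q.sys.x r t * g⁻¹ = Q.sys.x (applyW D w r) t ∧ applyW D w r < D.nroots := by
  intro w
  induction w with
  | nil => exact fun _ => ⟨1, one_mem _, fun r hr t => ⟨by simp [applyW], hr⟩⟩
  | cons i w ih =>
    intro h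
    obtain ⟨g, hg, e⟩ := ih fun j hj => h j (List.mem_cons_of_mem _ hj)
    have hi := h i (List.mem_cons_self ..)
    refine ⟨nG Q.K F i * g, mul_mem (hrat.ns i) hg, fun r hr t => ?_⟩
    obtain ⟨e1, h1⟩ := e r hr t
    obtain ⟨c, hc, h2⟩ := ns_conj_sign Q hi h1
    have hc1 : c = 1 := by
      rcases hc with rfl | rfl
      · rfl
      · exact CharTwo.neg_eq _
    refine ⟨?_, ?_⟩
    · calc nG Q.K F i * g * Q.sys.x r t * (nG Q.K F i * g)⁻¹
          = nG Q.K F i * (g * Q.sys.x r t * g⁻¹) * (nG Q.K F i)⁻¹ := by group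
        _ = _ := by rw [e1, h2, hc1, one_mul]; rfl
    · show D.reflectRoot i (applyW D w r) < D.nroots
      rw [Q.K.w_reflect i hi _ h1]
      exact (Q.K.w_lt i hi _ h1).1

theorem exists_top_pair {H : Subgroup ↥(D.group F)} (hrat : HasRat Q σ H) {al be s l : ℕ}
    {w1 w2 : List ℕ} (h : pairB D al be s l w1 w2 = true) {z : ↥(D.group F)}
    (hz : z ∈ XS Q.sys.x {r | r ∈ [s, l]}) (hzH : z ∈ H) (hzn : z ∉ fixG Q σ) :
    ∃ d, σ d ≠ d ∧ Q.sys.x l d ∈ H := by
  simp only [pairB, Bool.and_eq_true, List.all_eq_true, decide_eq_true_eq, beq_iff_eq,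
    bne_iff_ne, ne_eq, List.contains_iff_mem] at h
  obtain ⟨⟨⟨⟨⟨⟨⟨⟨⟨hlt, hw⟩, hterm⟩, hcomm⟩, hne⟩, hne'⟩, h1s⟩, h1l⟩, h2s⟩, h2l⟩ := h
  have hal := hlt al (by simp)
  have hbe := hlt be (by simp)
  have hs := hlt s (by simp)
  have hl := hlt l (by simp)
  have hcm : ∀ q ∈ [(al, s), (s, be), (be, l), (al, l), (s, l)], ∀ t u : F,
      Q.sys.x q.1 t * Q.sys.x q.2 u = Q.sys.x q.2 u * Q.sys.x q.1 t := fun q hq t u => by
    obtain ⟨⟨h1, h2⟩, h3⟩ := hcomm q hq
    refine commute_of_terms Q ?_ ?_ h1 h2 (fun c hc => ?_) t u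
    · fin_cases hq <;> assumption
    · fin_cases hq <;> assumption
    · have := h3 c hc
      have h2' : (2 : F) = 0 := CharTwo.two_eq_zero
      simp only [List.mem_cons, List.not_mem_nil, or_false] at this
      rcases this with e | e | e <;> simp [e, h2']
  have hform : ∀ t u : F, (Q.sys.x al t)⁻¹ * Q.sys.x be u * Q.sys.x al t =
      Q.sys.x be u * (Q.sys.x s (t * u) * Q.sys.x l (t ^ 2 * u)) := by
    intro t u
    rw [x_conj_eq Q hal hbe hne hne' t u]
    split at hterm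
    · rename_i a c b e heq
      simp only [Bool.and_eq_true, Bool.or_eq_true, beq_iff_eq] at hterm
      obtain ⟨⟨⟨rfl, rfl⟩, hc⟩, he⟩ := hterm
      rw [heq]
      simp only [List.map_cons, List.map_nil, List.prod_cons, List.prod_nil, mul_one]
      rcases hc with rfl | rfl <;> rcases he with rfl | rfl <;>
        simp [CharTwo.neg_eq]
    · exact absurd hterm Bool.false_ne_true
  obtain ⟨g1, hg1, e1⟩ := conj_word Q hrat w1 fun i hi => hw i (List.mem_append_left _ hi)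
  obtain ⟨g2, hg2, e2⟩ := conj_word Q hrat w2 fun i hi => hw i (List.mem_append_right _ hi)
  -- the three rules
  have move1 : ∀ {a b}, Q.sys.x s a * Q.sys.x l b ∈ H → Q.sys.x s a * Q.sys.x be b ∈ H := by
    intro a b hab
    have h1 := (e1 s hs a).1
    have h2 := (e1 l hl b).1
    rw [h1s] at h1
    rw [h1l] at h2
    rw [← h1, ← h2]
    have := mul_mem (mul_mem hg1 hab) (inv_mem hg1)
    simpa only [mul_assoc, inv_mul_cancel_left] using this
  have move2 : ∀ {a b}, Q.sys.x s a * Q.sys.x l b ∈ H → Q.sys.x al a * Q.sys.x l b ∈ H := by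
    intro a b hab
    have h1 := (e2 s hs a).1
    have h2 := (e2 l hl b).1
    rw [h2s] at h1
    rw [h2l] at h2
    rw [← h1, ← h2]
    have := mul_mem (mul_mem hg2 hab) (inv_mem hg2)
    simpa only [mul_assoc, inv_mul_cancel_left] using this
  have R1 : ∀ {a b}, Q.sys.x s a * Q.sys.x l b ∈ H → Q.sys.x s b * Q.sys.x l b ∈ H := by
    intro a b hab
    have hy := move1 hab
    have hx : Q.sys.x al 1 ∈ H := hrat.one al
    have hk := mul_mem (inv_mem hy) (mul_mem (mul_mem (inv_mem hx) hy) hx)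
    have hc := hcm (al, s) (by simp) (1 : F) a
    dsimp only at hc
    have he : (Q.sys.x al 1)⁻¹ * (Q.sys.x s a * Q.sys.x be b) * Q.sys.x al 1 =
        Q.sys.x s a * Q.sys.x be b * (Q.sys.x s b * Q.sys.x l b) := by
      calc _ = ((Q.sys.x al 1)⁻¹ * Q.sys.x s a * Q.sys.x al 1) *
            ((Q.sys.x al 1)⁻¹ * Q.sys.x be b * Q.sys.x al 1) := by group
        _ = _ := by
            rw [mul_assoc (Q.sys.x al 1)⁻¹ (Q.sys.x s a), ← hc, inv_mul_cancel_left, hform,
              one_pow, one_mul]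
            simp only [mul_assoc]
    rwa [he, inv_mul_cancel_left] at hk
  have step : ∀ {a b c d}, Q.sys.x s a * Q.sys.x l b ∈ H → Q.sys.x s c * Q.sys.x be d ∈ H →
      Q.sys.x s (a * d) * Q.sys.x l (a ^ 2 * d) ∈ H := by
    intro a b c d hab hy2
    have hy := move2 hab
    have hk := mul_mem (inv_mem hy2) (mul_mem (mul_mem (inv_mem hy) hy2) hy)
    have hlc : Commute (Q.sys.x l b) (Q.sys.x s c * Q.sys.x be d) := by
      have h1 := hcm (s, l) (by simp) c b
      have h2 := hcm (be, l) (by simp) d b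
      exact (show Commute _ _ from h1.symm).mul_right h2.symm
    have hc := hcm (al, s) (by simp) a c
    dsimp only at hc
    have he : (Q.sys.x al a * Q.sys.x l b)⁻¹ * (Q.sys.x s c * Q.sys.x be d) *
        (Q.sys.x al a * Q.sys.x l b) =
        Q.sys.x s c * Q.sys.x be d * (Q.sys.x s (a * d) * Q.sys.x l (a ^ 2 * d)) := by
      have hla : Commute (Q.sys.x l b) (Q.sys.x al a) := (hcm (al, l) (by simp) a b).symm
      rw [mul_inv_rev, show (Q.sys.x l b)⁻¹ * (Q.sys.x al a)⁻¹ =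
        (Q.sys.x al a)⁻¹ * (Q.sys.x l b)⁻¹ from (hla.inv_inv).eq]
      calc _ = (Q.sys.x al a)⁻¹ * ((Q.sys.x l b)⁻¹ * (Q.sys.x s c * Q.sys.x be d) *
            (Q.sys.x al a * Q.sys.x l b)) := by group
        _ = (Q.sys.x al a)⁻¹ * ((Q.sys.x s c * Q.sys.x be d) * Q.sys.x al a) := by
            rw [hlc.inv_left.eq, ← hla.eq]; group
        _ = ((Q.sys.x al a)⁻¹ * Q.sys.x s c * Q.sys.x al a) *
            ((Q.sys.x al a)⁻¹ * Q.sys.x be d * Q.sys.x al a) := by group
        _ = _ := by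
            rw [mul_assoc (Q.sys.x al a)⁻¹ (Q.sys.x s c), ← hc, inv_mul_cancel_left, hform]
            simp only [mul_assoc]
    rwa [he, inv_mul_cancel_left] at hk
  have R2 : ∀ {a b}, Q.sys.x s a * Q.sys.x l b ∈ H → Q.sys.x s a * Q.sys.x l (a ^ 2) ∈ H := by
    intro a b hab
    have := step (c := 0) (d := 1) hab (by
      rw [Q.sys.x_zero' hs, one_mul]; exact hrat.one be)
    rwa [mul_one, mul_one] at this
  have R3 : ∀ {a}, Q.sys.x s a * Q.sys.x l (a ^ 2) ∈ H →
      Q.sys.x s (a * a ^ 2) * Q.sys.x l (a ^ 2 * a ^ 2) ∈ H :=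
    fun ha => step ha (move1 ha)
  have pure : ∀ {a b b'}, Q.sys.x s a * Q.sys.x l b ∈ H → Q.sys.x s a * Q.sys.x l b' ∈ H →
      Q.sys.x l (b + b') ∈ H := by
    intro a b b' h1 h2
    have := mul_mem (inv_mem h2) h1
    rw [mul_inv_rev, mul_assoc, inv_mul_cancel_left,
      show (Q.sys.x l b')⁻¹ = Q.sys.x l (-b') from (x_neg_arg Q l b').symm,
      ← Q.sys.x_add' l hl, CharTwo.neg_eq, add_comm] at this
    exact this
  obtain ⟨a, b, rfl⟩ := mem_XS_pair Q hs hl (fun a b => hcm (s, l) (by simp) a b) hz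
  by_contra hcon
  push Not at hcon
  have rat : ∀ {d}, Q.sys.x l d ∈ H → σ d = d := fun {d} hd => by
    by_contra hd'
    exact hcon d hd' hd
  have q1 := R2 hzH
  have r0 := rat (pure hzH q1)
  by_cases ha : σ a = a
  · rw [map_add, map_pow, ha, add_left_inj] at r0
    exact (mul_fix_irr Q hzn).elim (fun h => h ha) (fun h => h r0)
  have q2 := R1 q1
  have r1 := rat (pure q2 (R2 q2))
  have q3 := R3 q1
  have r2 := rat (pure q3 (R2 q3))
  set m := a ^ 2 + (a ^ 2) ^ 2 with hm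
  have e : a ^ 2 * a ^ 2 + (a * a ^ 2) ^ 2 = a ^ 2 * m := by rw [hm]; ring
  rw [e, map_mul, r1, map_pow] at r2
  have hsq : ∀ {x y : F}, x ^ 2 = y ^ 2 → x = y := fun {x y} h => by
    have : (x + y) ^ 2 = 0 := by
      rw [CharTwo.add_sq, h, CharTwo.add_self_eq_zero]
    exact CharTwo.add_eq_zero.1 (eq_zero_of_pow_eq_zero this)
  by_cases hm0 : m = 0
  · rw [hm, show a ^ 2 + (a ^ 2) ^ 2 = a ^ 2 * (a + 1) ^ 2 by rw [CharTwo.add_sq]; ring] at hm0
    rcases mul_eq_zero.1 hm0 with h0 | h0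
    · exact ha (by rw [eq_zero_of_pow_eq_zero h0, map_zero])
    · exact ha (by rw [CharTwo.add_eq_zero.1 (eq_zero_of_pow_eq_zero h0), map_one])
  · exact ha (hsq (mul_right_cancel₀ hm0 r2))

end Cfsg.Agent.H51.Sub
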