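import Cfsg.Agent.H51.SubMax.Basic
import Cfsg.Agent.H51.BorelTits

/-!
The optimal parabolic of a fixed unipotent subgroup has a fixed point in its coset, so fixed
unipotent subgroups have no further normalising elements.
-/

set_option autoImplicit false

namespace Cfsg.Agent.H51.Sub

open Cfsg.Lie Cfsg.Agent.H37 Cfsg.Agent.H37.RootSys

variable {D : ChevalleyDatum} {F : Type*} [Field F] (Q : Chev.Data D F) {σ : F →+* F}

theorem frob_mem_parabolic {J : Set ℕ} {g : ↥(D.group F)}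
    (hg : (g : GL D.Idx F) ∈ D.parabolicSubgroup F J) :
    ((frob Q σ g : ↥(D.group F)) : GL D.Idx F) ∈ D.parabolicSubgroup F J := by
  show Matrix.GeneralLinearGroup.map σ (g : GL D.Idx F) ∈ _
  have hle : D.parabolicSubgroup F J ≤
      (D.parabolicSubgroup F J).comap (Matrix.GeneralLinearGroup.map σ) := by
    refine sup_le (sup_le (fun x hx => ?_) fun x hx => ?_) ((Subgroup.closure_le _).2 ?_)
    · exact Subgroup.mem_sup_left (Subgroup.mem_sup_left (Q.K.map_mem_pos σ hx))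
    · exact Subgroup.mem_sup_left (Subgroup.mem_sup_right (Q.K.map_mem_diag σ hx))
    · rintro x ⟨j, hjJ, hj, hx⟩
      have hn := congrArg Subtype.val ((mem_fixG Q σ).1 (nG_mem_fixG Q σ j))
      rw [show x = Q.K.nS F j from Units.ext (hx.trans (Q.K.coe_nU F _ _).symm)] at *
      rw [SetLike.mem_coe, Subgroup.mem_comap,
        show Matrix.GeneralLinearGroup.map σ (Q.K.nS F j) = Q.K.nS F j from hn]
      exact Subgroup.mem_sup_right (Subgroup.subset_closure ⟨j, hjJ, hj, hx⟩)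
  exact hle hg

/-- The negative roots outside a fundamental subsystem meet its parabolic subgroup trivially. -/
theorem negOut_inf_parabolic (hS : Chev.Sup Q.X.C D Q.X.n) {J : Set ℕ} {g : ↥(D.group F)}
    (hgP : (g : GL D.Idx F) ∈ D.parabolicSubgroup F J)
    (hgN : g ∈ XS Q.sys.x
      {r | r < D.nroots ∧ r < D.nroots / 2 ∧ ¬ ∀ m < D.rank, m ∉ J → Q.K.cf r m = 0}) :
    g = 1 := by
  classical
  obtain ⟨B, hB⟩ : ∃ B : ℕ, ∀ a, (Q.deg J a).natAbs ≤ B :=
    ⟨Finset.univ.sup fun a => (Q.deg J a).natAbs,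
      fun a => Finset.le_sup (f := fun a => (Q.deg J a).natAbs) (Finset.mem_univ a)⟩
  set rk₁ : D.Idx → ℕ := fun a => (Q.deg J a + B).toNat with hrk₁
  set rk₂ : D.Idx → ℕ := fun a => ((B : ℤ) - Q.deg J a).toNat with hrk₂
  have hN₁ : ∀ a, rk₁ a < 2 * B + 1 := fun a => by have := hB a; simp only [hrk₁]; omega
  have hN₂ : ∀ a, rk₂ a < 2 * B + 1 := fun a => by have := hB a; simp only [hrk₂]; omega
  let L : Subgroup (GL D.Idx F) :=
    { carrier := {g | Raises rk₁ 0 (g : Matrix D.Idx D.Idx F) ∧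
        Raises rk₁ 0 ((g⁻¹ : GL D.Idx F) : Matrix D.Idx D.Idx F)}
      one_mem' := by
        have h1 : Raises rk₁ 0 ((1 : GL D.Idx F) : Matrix D.Idx D.Idx F) := fun a b hab => by
          rw [Units.val_one] at hab
          by_cases e : a = b
          · rw [e]; omega
          · exact absurd (Matrix.one_apply_ne e) hab
        exact ⟨h1, by rwa [inv_one]⟩
      mul_mem' := by
        rintro a b ⟨ha, ha'⟩ ⟨hb, hb'⟩
        have hmul : ∀ x y : GL D.Idx F, Raises rk₁ 0 (x : Matrix D.Idx D.Idx F) →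
            Raises rk₁ 0 (y : Matrix D.Idx D.Idx F) →
            Raises rk₁ 0 ((x * y : GL D.Idx F) : Matrix D.Idx D.Idx F) := by
          intro x y hx hy i j hij
          rw [Units.val_mul, Matrix.mul_apply] at hij
          obtain ⟨k, -, hk⟩ := Finset.exists_ne_zero_of_sum_ne_zero hij
          have := hx i k (left_ne_zero_of_mul hk)
          have := hy k j (right_ne_zero_of_mul hk)
          omega
        exact ⟨hmul _ _ ha hb, by rw [mul_inv_rev]; exact hmul _ _ hb' ha'⟩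
      inv_mem' := fun {a} h => ⟨h.2, by rw [inv_inv]; exact h.1⟩ }
  have hdiag : D.diagonalSubgroup F ≤ L := by
    intro h hh
    have key : ∀ h ∈ D.diagonalSubgroup F, Raises rk₁ 0 (h : Matrix D.Idx D.Idx F) :=
      fun h hh a b hab => by
        by_cases e : a = b
        · rw [e]; omega
        · exact absurd (Q.T.off h hh a b e) hab
    exact ⟨key h hh, key _ (inv_mem hh)⟩
  have hx : ∀ r, r < D.nroots → (D.IsPosRoot r ∨ D.InRootSub J r) → ∀ t,
      Q.K.xU F r t ∈ L := by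
    intro r hr hor
    have key : ∀ t, Raises rk₁ 0 ((Q.K.xU F r t : GL D.Idx F) : Matrix D.Idx D.Idx F) := by
      intro t a b hab
      by_cases e : a = b
      · rw [e]; omega
      have hne : (D.x F r t - 1) a b ≠ 0 := by
        rw [Matrix.sub_apply, Matrix.one_apply_ne e, sub_zero, ← Q.K.coe_xU]
        exact hab
      obtain ⟨k, -, ek⟩ := Q.x_deg hS (J := J) hr t hne
      have hnn : 0 ≤ Q.deg J (.inr ⟨r, hr⟩) := by
        rcases hor with hp | hin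
        · exact Finset.sum_nonneg fun j hj => Q.K.cf_nonneg r hr
            ((Q.ord.isPosRoot_iff r).1 hp).2 j (Finset.mem_range.1 (Finset.mem_filter.1 hj).1)
        · refine le_of_eq (Finset.sum_eq_zero fun m hm => ?_).symm
          obtain ⟨hm1, hm2⟩ := Finset.mem_filter.1 hm
          exact ((Chev.inRootSub_iff Q.X.good Q.K hS).1 hin).2 m (Finset.mem_range.1 hm1) hm2
      have := hB a; have := hB b
      have : Q.deg J b ≤ Q.deg J a := by nlinarith
      simp only [hrk₁]; omega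
    exact fun t => ⟨key t, by rw [Q.K.xU_inv]; exact key _⟩
  have hPL : D.parabolicSubgroup F J ≤ L := by
    rw [Q.parabolic_eq hS]
    refine sup_le hdiag ((Subgroup.closure_le _).2 ?_)
    rintro x ⟨r, t, h1, hx'⟩
    have hr : r < D.nroots := h1.elim (fun h => h.1) fun h => h.1
    rw [show x = Q.K.xU F r t from Units.ext (hx'.trans (Q.K.coe_xU F r t).symm)]
    exact hx r hr h1 t
  have hNU : (g : GL D.Idx F) ∈ uniGroup F rk₂ (2 * B + 1) hN₂ 0 := by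
    refine coe_mem_of_XS Q.K (fun r hr t => ?_) hgN
    obtain ⟨hr1, hr2, hr3⟩ := hr
    show Raises rk₂ 1 _
    intro a b hab
    obtain ⟨k, hk, e⟩ := Q.x_deg hS (J := J) hr1 t (by rwa [← Q.K.coe_xU])
    have hneg : Q.deg J (.inr ⟨r, hr1⟩) < 0 := by
      have hnn : ∀ j, j < D.rank → Q.K.cf r j ≤ 0 := fun j hj => by
        have := Q.K.cf_nonneg (D.neg r) (Q.K.neg_lt hr1) (by rw [Q.K.neg_eq _ hr1]; omega) j hj
        rw [Q.K.cf_neg r hr1 j hj] at this
        omega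
      obtain ⟨m, hm, hmJ, hm0⟩ : ∃ m, m < D.rank ∧ m ∉ J ∧ Q.K.cf r m ≠ 0 := by
        by_contra hcon
        simp only [not_exists, not_and, not_not] at hcon
        exact hr3 hcon
      refine Finset.sum_neg' (fun j hj => hnn j (Finset.mem_range.1 (Finset.mem_filter.1 hj).1))
        ⟨m, by simp [hm, hmJ], lt_of_le_of_ne (hnn m hm) hm0⟩
    have := hB a; have := hB b
    have : Q.deg J a + 1 ≤ Q.deg J b := by nlinarith
    simp only [hrk₂]; omega
  have h1 : Raises rk₁ 0 ((g : GL D.Idx F) : Matrix D.Idx D.Idx F) := (hPL hgP).1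
  have h2 : Raises rk₂ 1 (((g : GL D.Idx F) : Matrix D.Idx D.Idx F) - 1) := hNU
  refine Subtype.ext (Units.ext ?_)
  ext a b
  by_contra hne
  have h3 := h2 a b (by rw [Matrix.sub_apply]; exact sub_ne_zero.2 hne)
  by_cases e : a = b
  · subst e; omega
  have h4 := h1 a b (fun h0 => hne (by
    show ((g : GL D.Idx F) : Matrix D.Idx D.Idx F) a b = (1 : Matrix D.Idx D.Idx F) a b
    rw [h0, Matrix.one_apply_ne e]))
  have := hB a; have := hB b
  simp only [hrk₁, hrk₂] at h3 h4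
  omega

/-- A coset of a parabolic subgroup stable under the endomorphism has a fixed element. -/
theorem exists_fixed_coset (hS : Chev.Sup Q.X.C D Q.X.n) {H : Subgroup ↥(D.group F)}
    (hrat : HasRat Q σ H) {J : Set ℕ} {g : ↥(D.group F)}
    (hg : ((g⁻¹ * frob Q σ g : ↥(D.group F)) : GL D.Idx F) ∈ D.parabolicSubgroup F J) :
    ∃ m ∈ fixG Q σ ⊓ H, ((m⁻¹ * g : ↥(D.group F)) : GL D.Idx F) ∈ D.parabolicSubgroup F J := by
  classical
  set P' := (D.parabolicSubgroup F J).subgroupOf (D.group F) with hP'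
  obtain ⟨u, hu, h, hh, w, v, hv, e⟩ := Q.sys.normalForm.exists_eq g
  change u ∈ Q.sys.U at hu
  change h ∈ Q.sys.H at hh
  change v ∈ Q.sys.Uw w at hv
  change g = u * h * Q.sys.rep w * v at e
  obtain ⟨k, hk, hkfix, hkH⟩ := exists_rat_rep Q σ hrat w
  set n := k * Q.sys.rep w with hn
  set A : Set ℕ := {r | ∃ hr : r < D.nroots, D.nroots / 2 ≤ r ∧
    (Q.X.good.hom w⁻¹ ⟨r, hr⟩).val < D.nroots / 2 ∧
    ¬ ∀ m < D.rank, m ∉ J → Q.K.cf (Q.X.good.hom w⁻¹ ⟨r, hr⟩).val m = 0} with hA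
  obtain ⟨a, ha, b, hb, hab⟩ := Q.sys.toUnip.exists_split (Q.sys.P_eq ▸ Q.sys.toUnip.closed_P)
    A {r | r ∈ posSet D ∧ r ∉ A} (fun r hr => (em (r ∈ A)).imp id fun h => ⟨hr, h⟩) hu
  have hback : ∀ r (hr : r < D.nroots) t, ∃ t', n⁻¹ * Q.sys.x r t * n =
      Q.sys.x (Q.X.good.hom w⁻¹ ⟨r, hr⟩).val t' := by
    intro r hr t
    obtain ⟨k', hk', e'⟩ := Q.sys.rep_mul w w⁻¹
    rw [mul_inv_cancel, Q.sys.rep_one, mul_one] at e'
    have hn' : n⁻¹ = Q.sys.rep w⁻¹ * (k'⁻¹ * k⁻¹) := by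
      rw [← e', hn]; group
    obtain ⟨t1, e1⟩ := Q.sys.h_conj (k'⁻¹ * k⁻¹) (mul_mem (inv_mem hk') (inv_mem hk)) r hr t
    obtain ⟨t2, e2⟩ := Q.sys.rep_conj w⁻¹ r hr t1
    refine ⟨t2, ?_⟩
    rw [← e2, ← e1]
    calc n⁻¹ * Q.sys.x r t * n = n⁻¹ * Q.sys.x r t * n⁻¹⁻¹ := by rw [inv_inv]
      _ = _ := by rw [hn']; group
  have hxP : ∀ r, r < D.nroots → (D.IsPosRoot r ∨ D.InRootSub J r) → ∀ t,
      Q.sys.x r t ∈ P' := by
    intro r hr hor t
    rw [hP', Subgroup.mem_subgroupOf, Q.parabolic_eq hS]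
    exact Subgroup.mem_sup_right (Subgroup.subset_closure ⟨r, t, hor, Q.K.coe_xU F r t⟩)
  have hbP : n⁻¹ * b * n ∈ P' := by
    have := conj_mem_XS (K := P') (a := n⁻¹) (fun r hr t => by
      obtain ⟨hr1, hr2⟩ := mem_posSet.1 hr.1
      obtain ⟨t', e'⟩ := hback r hr1 t
      rw [inv_inv, e']
      refine hxP _ (Fin.isLt _) ?_ t'
      by_contra hcon
      simp only [not_or] at hcon
      refine hr.2 ⟨hr1, hr2, ?_, fun h0 => hcon.2
        ((Chev.inRootSub_iff Q.X.good Q.K hS).2 ⟨Fin.isLt _, h0⟩)⟩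
      by_contra hge
      exact hcon.1 ((Q.ord.isPosRoot_iff _).2 ⟨Fin.isLt _, by omega⟩)) hb
    rwa [inv_inv] at this
  have hvP : v ∈ P' := by
    have hle : Q.sys.U ≤ P' := XS_le fun r hr t => by
      obtain ⟨hr1, hr2⟩ := mem_posSet.1 hr
      exact hxP r hr1 (Or.inl ((Q.ord.isPosRoot_iff r).2 ⟨hr1, hr2⟩)) t
    exact hle (Q.sys.Uw_le w hv)
  have hHP : ∀ z ∈ Q.sys.H, z ∈ P' := fun z hz =>
    Subgroup.mem_subgroupOf.2 (Subgroup.mem_sup_left (Subgroup.mem_sup_right hz))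
  set p0 := n⁻¹ * b * n * (n⁻¹ * (h * k⁻¹) * n) * v with hp0
  have hnH : n⁻¹ * (h * k⁻¹) * n ∈ P' := by
    refine hHP _ ?_
    have h1 : k⁻¹ * (h * k⁻¹) * k ∈ Q.sys.H :=
      mul_mem (mul_mem (inv_mem hk) (mul_mem hh (inv_mem hk))) hk
    obtain ⟨k', hk', e'⟩ := Q.sys.rep_mul w⁻¹ w
    rw [inv_mul_cancel, Q.sys.rep_one, mul_one] at e'
    have h2 : (Q.sys.rep w)⁻¹ = k'⁻¹ * Q.sys.rep w⁻¹ := by
      rw [← e']; group
    have h3 := mul_mem (mul_mem (inv_mem hk') (Q.sys.rep_conj_H w⁻¹ h1)) hk'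
    rw [hn, show (k * Q.sys.rep w)⁻¹ * (h * k⁻¹) * (k * Q.sys.rep w) =
      (Q.sys.rep w)⁻¹ * (k⁻¹ * (h * k⁻¹) * k) * (Q.sys.rep w)⁻¹⁻¹ by group, h2]
    rwa [show k'⁻¹ * Q.sys.rep w⁻¹ * (k⁻¹ * (h * k⁻¹) * k) * (k'⁻¹ * Q.sys.rep w⁻¹)⁻¹ =
      k'⁻¹ * (Q.sys.rep w⁻¹ * (k⁻¹ * (h * k⁻¹) * k) * (Q.sys.rep w⁻¹)⁻¹) * k' by group]
  have hp0P : p0 ∈ P' := mul_mem (mul_mem hbP hnH) hvP
  have eg : g = a * n * p0 := by rw [e, hab, hp0, hn]; group
  have hfix : a ∈ fixG Q σ := by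
    have hA' := conj_mem_XS (a := n⁻¹) (K := XS Q.sys.x
      {r | r < D.nroots ∧ r < D.nroots / 2 ∧ ¬ ∀ m < D.rank, m ∉ J → Q.K.cf r m = 0})
      (fun r hr t => by
        obtain ⟨hr1, hr2, hr3, hr4⟩ := hr
        obtain ⟨t', e'⟩ := hback r hr1 t
        rw [inv_inv, e']
        exact x_mem_XS (S := {r | r < D.nroots ∧ r < D.nroots / 2 ∧
          ¬ ∀ m < D.rank, m ∉ J → Q.K.cf r m = 0}) ⟨Fin.isLt _, hr3, hr4⟩ t')
      (mul_mem (inv_mem ha) (frob_XS Q σ ha))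
    rw [inv_inv] at hA'
    have hP2 : n⁻¹ * (a⁻¹ * frob Q σ a) * n ∈ P' := by
      have hfrob : frob Q σ p0 ∈ P' := Subgroup.mem_subgroupOf.2
        (frob_mem_parabolic Q (Subgroup.mem_subgroupOf.1 hp0P))
      have hg' : g⁻¹ * frob Q σ g ∈ P' := Subgroup.mem_subgroupOf.2 hg
      have : n⁻¹ * (a⁻¹ * frob Q σ a) * n = p0 * (g⁻¹ * frob Q σ g) * (frob Q σ p0)⁻¹ := by
        rw [eg, map_mul, map_mul, (mem_fixG Q σ).1 hkfix]; group
      rw [this]
      exact mul_mem (mul_mem hp0P hg') (inv_mem hfrob)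
    have h1 := negOut_inf_parabolic Q hS (Subgroup.mem_subgroupOf.1 hP2) hA'
    rw [mem_fixG]
    have h2 : a⁻¹ * frob Q σ a = 1 := by
      rw [show a⁻¹ * frob Q σ a = n * (n⁻¹ * (a⁻¹ * frob Q σ a) * n) * n⁻¹ by group, h1]
      group
    exact (inv_mul_eq_one.1 h2).symm
  have haU : a ∈ Q.sys.U := XS_mono (fun r hr => by
    obtain ⟨hr1, hr2, -⟩ := hr
    exact Finset.mem_coe.2 (mem_posSet.2 ⟨hr1, hr2⟩)) ha
  refine ⟨a * n, ⟨mul_mem hfix hkfix, mul_mem (hrat.mem_of_fixed Q σ haU hfix) hkH⟩, ?_⟩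
  rw [eg, inv_mul_cancel_left]
  exact Subgroup.mem_subgroupOf.1 hp0P

variable [Finite F]

/-- Without further unipotent elements, normalisers of fixed unipotent subgroups in `H` are
fixed. -/
theorem fixed_of_normalizes (hS : Chev.Sup Q.X.C D Q.X.n) (hlink : PC.linkB D = true) {p : ℕ}
    [Fact p.Prime] [CharP F p] {H : Subgroup ↥(D.group F)} (hrat : HasRat Q σ H)
    (hHU : ∀ u ∈ Q.sys.U, u ∈ H → u ∈ fixG Q σ)
    (hborel : ∀ u ∈ Q.sys.U, ∀ h ∈ Q.sys.H, u * h ∈ H → u * h ∈ fixG Q σ) {R : Subgroup ↥(D.group F)}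
    (hR : IsPGroup p ↥R) (hne : R ≠ ⊥) (hRfix : R ≤ fixG Q σ) {h : ↥(D.group F)} (hh : h ∈ H)
    (hnorm : ∀ y ∈ R, h⁻¹ * y * h ∈ R) : h ∈ fixG Q σ := by
  classical
  obtain ⟨c, hc⟩ := BT.exists_conj_le_U Q hR
  obtain ⟨g, a, ha, hf, hmin⟩ := BT.exists_optimal Q hc
  set J : Set ℕ := {i | ∃ h : i < D.rank, a ⟨i, h⟩ = 0} with hJ
  have hproper : ∃ i, i < D.rank ∧ i ∉ J := by
    by_contra hcon
    push Not at hcon
    have ha0 : ∀ m, a m = 0 := fun m => (hcon m m.isLt).2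
    refine hne ((Subgroup.eq_bot_iff_forall _).2 fun y hy => ?_)
    have h1 := hf y hy
    have hbig : BT.big (CoW.phi Q a) = ∅ := Finset.eq_empty_of_forall_notMem fun r hr => by
      obtain ⟨h1, -, h3⟩ := BT.mem_big.1 hr
      rw [CoW.phi] at h3
      simp [ha0] at h3
      linarith
    rw [hbig, Finset.coe_empty, XS_empty, Subgroup.mem_bot] at h1
    rw [show y = g * (g⁻¹ * y * g) * g⁻¹ by group, h1]
    group
  have hf1 : BT.Fits Q R (frob Q σ g) a := fun y hy => by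
    rw [show (frob Q σ g)⁻¹ * y * frob Q σ g = frob Q σ (g⁻¹ * y * g) by
      rw [map_mul, map_mul, map_inv, (mem_fixG Q σ).1 (hRfix hy)]]
    exact frob_XS Q σ (hf y hy)
  obtain ⟨m, hm', hmP⟩ := exists_fixed_coset Q hS hrat
    (BT.optimal_unique Q ha ha hf hf1 hmin le_rfl)
  obtain ⟨hm, hmH⟩ := Subgroup.mem_inf.1 hm'
  have hf2 : BT.Fits Q R (h * g) a := fun y hy => by
    rw [show (h * g)⁻¹ * y * (h * g) = g⁻¹ * (h⁻¹ * y * h) * g by group]
    exact hf _ (hnorm y hy)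
  have h3 := BT.optimal_unique Q ha ha hf hf2 hmin le_rfl
  have h4 : ((m⁻¹ * h * m : ↥(D.group F)) : GL D.Idx F) ∈ D.parabolicSubgroup F J := by
    rw [show m⁻¹ * h * m = (m⁻¹ * g) * (g⁻¹ * (h * g)) * (m⁻¹ * g)⁻¹ by group]
    simp only [Subgroup.coe_mul, Subgroup.coe_inv] at h3 hmP ⊢
    exact mul_mem (mul_mem hmP h3) (inv_mem hmP)
  have h5 := fixed_of_mem_parabolic Q hS hlink hproper hrat hHU hborel
    (mul_mem (mul_mem (inv_mem hmH) hh) hmH) h4
  have := mul_mem (mul_mem hm h5) (inv_mem hm)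
  rwa [show m * (m⁻¹ * h * m) * m⁻¹ = h by group] at this

end Cfsg.Agent.H51.Sub
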