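import Cfsg.Agent.H51.SubMax.Overgroup
import Mathlib.RingTheory.Jacobson.Ring
import Mathlib.FieldTheory.Finite.GaloisField
import Mathlib.FieldTheory.IsAlgClosed.Basic

/-!
Finite subgroups over an algebraically closed field with the root elements over a finite field:
reduction to finite fields by specialising the parameters.
-/

set_option autoImplicit false
set_option maxRecDepth 100000

namespace Cfsg.Agent.H51.Sub

open Cfsg.Lie Cfsg.Agent.H37 Cfsg.Agent.H37.RootSys

/-- Each element of a closure uses finitely many generators. -/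
theorem closure_finite {G α : Type*} [Group G] (f : α → G) {g : G}
    (hg : g ∈ Subgroup.closure (Set.range f)) :
    ∃ T : Set α, T.Finite ∧ g ∈ Subgroup.closure (f '' T) := by
  induction hg using Subgroup.closure_induction with
  | mem x hx =>
    obtain ⟨a, rfl⟩ := hx
    exact ⟨{a}, Set.finite_singleton a, Subgroup.subset_closure ⟨a, rfl, rfl⟩⟩
  | one => exact ⟨∅, Set.finite_empty, one_mem _⟩
  | mul x y _ _ hx hy =>
    obtain ⟨T, hT, hx⟩ := hx
    obtain ⟨T', hT', hy⟩ := hy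
    exact ⟨T ∪ T', hT.union hT', mul_mem
      (Subgroup.closure_mono (Set.image_mono Set.subset_union_left) hx)
      (Subgroup.closure_mono (Set.image_mono Set.subset_union_right) hy)⟩
  | inv x _ hx =>
    obtain ⟨T, hT, hx⟩ := hx
    exact ⟨T, hT, inv_mem hx⟩

section Roots

variable {k : Type*} [Field k] (p : ℕ) [Fact p.Prime] [CharP k p]

theorem roots_finite {n : ℕ} (hn : 1 ≤ n) :
    {t : k | t ^ p ^ n = t}.Finite ∧ Nat.card {t : k // t ^ p ^ n = t} ≤ p ^ n := by
  have h1 : 1 < p ^ n := Nat.one_lt_pow (by omega) (Fact.out : p.Prime).one_lt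
  set P : Polynomial k := Polynomial.X ^ p ^ n - Polynomial.X with hP
  have hP0 : P ≠ 0 := FiniteField.X_pow_card_sub_X_ne_zero k h1
  classical
  have hmem : ∀ t : k, t ^ p ^ n = t → t ∈ P.roots.toFinset := fun t ht =>
    Multiset.mem_toFinset.2 ((Polynomial.mem_roots hP0).2 (by simp [hP, ht]))
  refine ⟨P.roots.toFinset.finite_toSet.subset fun t ht => hmem t ht, ?_⟩
  calc Nat.card {t : k // t ^ p ^ n = t} ≤ Nat.card ↥P.roots.toFinset := by
        refine Nat.card_le_card_of_injective (fun t => ⟨t.1, hmem t.1 t.2⟩) fun a b h => ?_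
        exact Subtype.ext (congrArg (fun z : ↥P.roots.toFinset => (z : k)) h)
    _ = P.roots.toFinset.card := Nat.card_eq_finsetCard _
    _ ≤ Multiset.card P.roots := Multiset.toFinset_card_le _
    _ ≤ P.natDegree := P.card_roots'
    _ = p ^ n := FiniteField.X_pow_card_sub_X_natDegree_eq k h1

theorem roots_card [IsAlgClosed k] {n : ℕ} (hn : 1 ≤ n) :
    Nat.card {t : k // t ^ p ^ n = t} = p ^ n := by
  have h1 : 1 < p ^ n := Nat.one_lt_pow (by omega) (Fact.out : p.Prime).one_lt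
  classical
  set P : Polynomial k := Polynomial.X ^ p ^ n - Polynomial.X with hP
  have hP0 : P ≠ 0 := FiniteField.X_pow_card_sub_X_ne_zero k h1
  have hsep : P.Separable := galois_poly_separable p (p ^ n) (dvd_pow (dvd_refl p) (by omega))
  have hcard : P.roots.toFinset.card = p ^ n := by
    rw [Multiset.toFinset_card_of_nodup (Polynomial.nodup_roots hsep),
      IsAlgClosed.card_roots_eq_natDegree, FiniteField.X_pow_card_sub_X_natDegree_eq k h1]
  refine Eq.trans (Nat.card_congr (Equiv.subtypeEquivRight (q := fun t => t ∈ P.roots.toFinset)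
    fun t => ?_)) ((Nat.card_eq_finsetCard _).trans hcard)
  rw [Multiset.mem_toFinset, Polynomial.mem_roots hP0]
  simp [hP, sub_eq_zero]

omit [Fact p.Prime] [CharP k p] in
theorem pow_fix_dvd {t : k} {b e : ℕ} (hbe : b ∣ e) (ht : t ^ p ^ b = t) : t ^ p ^ e = t := by
  obtain ⟨c, rfl⟩ := hbe
  induction c with
  | zero => simp
  | succ c ih => rw [Nat.mul_succ, pow_add, pow_mul, ih, ht]

omit [Fact p.Prime] [CharP k p] in
theorem pow_fix_gcd {t : k} {a b : ℕ} (ha : t ^ p ^ a = t) (hb : t ^ p ^ b = t) :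
    t ^ p ^ Nat.gcd a b = t := by
  have key : ∀ n, (fun x : k => x ^ p)^[n] t = t ^ p ^ n := by
    intro n
    induction n with
    | zero => simp
    | succ n ih => rw [Function.iterate_succ_apply', ih, ← pow_mul, ← pow_succ]
  have h1 : Function.IsPeriodicPt (fun x : k => x ^ p) a t := (key a).trans ha
  have h2 : Function.IsPeriodicPt (fun x : k => x ^ p) b t := (key b).trans hb
  exact (key _).symm.trans (h1.gcd h2)

end Roots

variable {D : ChevalleyDatum}

/-- The root element over a subring of a field, as a unit. -/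
def xRU (Q : Chevalley.Cert D) {k : Type*} [Field k] {R : Type*} [CommRing R] (f : R →+* k)
    (hf : Function.Injective f) (r : Fin D.nroots) (t : R) : GL D.Idx R where
  val := Chevalley.xR D R r t
  inv := Chevalley.xR D R r (-t)
  val_inv := Matrix.map_injective hf (by
    dsimp only
    rw [Matrix.map_mul, Chevalley.xR_map, Chevalley.xR_map,
      Matrix.map_one f (map_zero f) (map_one f), map_neg, ← Q.x_eq r.isLt, ← Q.x_eq r.isLt,
      ← Q.coe_xU, ← Q.coe_xU, ← Units.val_mul, Q.xU_add, add_neg_cancel, Q.xU_zero, Units.val_one])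
  inv_val := Matrix.map_injective hf (by
    dsimp only
    rw [Matrix.map_mul, Chevalley.xR_map, Chevalley.xR_map,
      Matrix.map_one f (map_zero f) (map_one f), map_neg, ← Q.x_eq r.isLt, ← Q.x_eq r.isLt,
      ← Q.coe_xU, ← Q.coe_xU, ← Units.val_mul, Q.xU_add, neg_add_cancel, Q.xU_zero, Units.val_one])

theorem map_xRU (Q : Chevalley.Cert D) {k : Type*} [Field k] {R : Type*} [CommRing R]
    (f : R →+* k) (hf : Function.Injective f) {E : Type*} [Field E] (g : R →+* E)
    (r : Fin D.nroots) (t : R) :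
    Matrix.GeneralLinearGroup.map g (xRU Q f hf r t) = Q.xU E r (g t) := by
  refine Units.ext ?_
  show (Chevalley.xR D R r t).map g = _
  rw [Chevalley.xR_map, ← Q.x_eq r.isLt, ← Q.coe_xU]

variable {k : Type*} [Field k] [IsAlgClosed k] {p : ℕ} [Fact p.Prime] [CharP k p]

/-- Finite subgroups with the root elements over a finite field. -/
theorem finite_overgroup
    (hD : D ∈ [chevG2, chevB2, chevD4, chevF4, chevE6, chevE7, chevE8]) {a : ℕ} (ha : 1 ≤ a)
    (M : Subgroup (GL D.Idx k)) [Finite ↥M] (hMG : M ≤ D.group k)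
    (hL : ∀ (Q : Chevalley.Cert D), ∀ s t, t ^ p ^ a = t → Q.xU k s t ∈ M) :
    ∃ b, 1 ≤ b ∧ a ∣ b ∧ (∀ (g : GL D.Idx k) (s : ℕ) (t : k), t ^ p ^ b = t →
        (g : Matrix D.Idx D.Idx k) = D.x k s t → g ∈ M) ∧
      ∀ g ∈ M, ∀ i j, ((g : Matrix D.Idx D.Idx k) i j) ^ p ^ b =
        (g : Matrix D.Idx D.Idx k) i j := by
  classical
  obtain ⟨Qk, -⟩ := Agent.H37.Chev.exists_data hD k
  set K := Qk.K with hK
  set N := Nat.card ↥M with hN
  have hN1 : 1 ≤ N := Nat.card_pos
  set e := a * N.factorial with he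
  have he1 : 1 ≤ e := Nat.one_le_iff_ne_zero.2
    (Nat.mul_ne_zero (by omega) (Nat.factorial_ne_zero N))
  -- finitely many parameters
  have hgen : ∀ m : ↥M, ∃ T : Set (Fin D.nroots × k), T.Finite ∧ (m : GL D.Idx k) ∈
      Subgroup.closure ((fun z : Fin D.nroots × k => K.xU k z.1 z.2) '' T) := fun m => by
    refine closure_finite _ ?_
    have h := hMG m.2
    rw [K.group_eq] at h
    refine Subgroup.closure_mono ?_ h
    rintro _ ⟨r, t, hr, rfl⟩
    exact ⟨⟨⟨r, hr⟩, t⟩, rfl⟩
  choose T hTf hTm using hgen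
  set Pset : Set k := (⋃ m, Prod.snd '' T m) ∪ {t | t ^ p ^ e = t} with hPset
  have hPfin : Pset.Finite :=
    (Set.finite_iUnion fun m => (hTf m).image _).union (roots_finite p he1).1
  letI : Algebra (ZMod p) k := ZMod.algebra k p
  set R := Algebra.adjoin (ZMod p) Pset with hR
  have : Algebra.FiniteType (ZMod p) ↥R := by
    refine Subalgebra.fg_iff_finiteType _ |>.1 ?_
    rw [hR, ← hPfin.coe_toFinset]
    exact Subalgebra.fg_adjoin_finset _
  set f : ↥R →+* k := R.val.toRingHom with hf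
  have hfi : Function.Injective f := Subtype.val_injective
  set incl := Matrix.GeneralLinearGroup.map (n := D.Idx) f with hincl
  have hincl_inj : Function.Injective incl := fun x y h => Units.ext (Matrix.map_injective hfi
    (congrArg (fun z : GL D.Idx k => (z : Matrix D.Idx D.Idx k)) h))
  set GR := M.comap incl ⊓ Subgroup.closure
    (Set.range fun z : Fin D.nroots × ↥R => xRU K f hfi z.1 z.2) with hGR
  have hsurj : ∀ m ∈ M, ∃ g ∈ GR, incl g = m := by
    intro m hm
    have hle : Subgroup.closure ((fun z : Fin D.nroots × k => K.xU k z.1 z.2) '' T ⟨m, hm⟩) ≤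
        (Subgroup.closure (Set.range fun z : Fin D.nroots × ↥R => xRU K f hfi z.1 z.2)).map incl := by
      refine (Subgroup.closure_le _).2 ?_
      rintro _ ⟨z, hz, rfl⟩
      refine ⟨xRU K f hfi z.1 ⟨z.2, Algebra.subset_adjoin (Or.inl (Set.mem_iUnion.2
        ⟨⟨m, hm⟩, z, hz, rfl⟩))⟩, Subgroup.subset_closure ⟨⟨z.1, _⟩, rfl⟩, ?_⟩
      exact map_xRU K f hfi f _ _
    obtain ⟨g, hg, e1⟩ := hle (hTm ⟨m, hm⟩)
    exact ⟨g, ⟨show incl g ∈ M from e1 ▸ hm, hg⟩, e1⟩
  have hGRM : ∀ g ∈ GR, incl g ∈ M := fun g hg => hg.1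
  have : Finite ↥GR := Finite.of_injective (fun g : ↥GR => (⟨incl g, hGRM g g.2⟩ : ↥M))
    fun x y h => Subtype.ext (hincl_inj (congrArg Subtype.val h))
  -- roots of unity stay apart in every residue field
  have hroots : ∀ c : k, c ^ p ^ e = c → c ∈ R := fun c hc => Algebra.subset_adjoin (Or.inr hc)
  -- every maximal ideal
  have spec : ∀ m : Ideal ↥R, m.IsMaximal → ∃ b, 1 ≤ b ∧ a ∣ b ∧ b ∣ e ∧
      (∀ (g : GL D.Idx ↥R), g ∈ GR → ∀ i j,
        ((g : Matrix D.Idx D.Idx ↥R) i j) ^ p ^ b - (g : Matrix D.Idx D.Idx ↥R) i j ∈ m) ∧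
      ∀ (s : Fin D.nroots) (t : ↥R), ((t : k) ^ p ^ b = t) →
        ∃ g ∈ GR, ∀ i j, (g : Matrix D.Idx D.Idx ↥R) i j -
          (Chevalley.xR D ↥R s t) i j ∈ m := by
    intro m hm
    letI : Field (↥R ⧸ m) := Ideal.Quotient.field m
    set ψ : ↥R →+* ↥R ⧸ m := Ideal.Quotient.mk m with hψ
    have : Algebra.FiniteType (ZMod p) (↥R ⧸ m) :=
      Algebra.FiniteType.of_surjective (Ideal.Quotient.mkₐ (ZMod p) m)
        (Ideal.Quotient.mkₐ_surjective _ _)
    have := finite_of_finite_type_of_isJacobsonRing (ZMod p) (↥R ⧸ m)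
    have : Finite (↥R ⧸ m) := Module.finite_of_finite (ZMod p)
    have := Fintype.ofFinite (↥R ⧸ m)
    have : CharP (↥R ⧸ m) p :=
      charP_of_injective_algebraMap (algebraMap (ZMod p) (↥R ⧸ m)).injective p
    obtain ⟨Q0, hS0⟩ := Agent.H37.Chev.exists_data hD (↥R ⧸ m)
    set gl := Matrix.GeneralLinearGroup.map (n := D.Idx) ψ with hgl
    have hmapX : ∀ s t, gl (xRU K f hfi s t) = Q0.K.xU (↥R ⧸ m) s (ψ t) := fun s t =>
      (map_xRU K f hfi ψ s t).trans (Units.ext (by rw [K.coe_xU, Q0.K.coe_xU]))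
    set H0 := (GR.map gl).subgroupOf (D.group (↥R ⧸ m)) with hH0
    have hle0 : GR.map gl ≤ D.group (↥R ⧸ m) := by
      refine le_trans (Subgroup.map_mono inf_le_right) ?_
      rw [MonoidHom.map_closure, Subgroup.closure_le]
      rintro _ ⟨_, ⟨z, rfl⟩, rfl⟩
      rw [SetLike.mem_coe, hmapX]
      exact Q0.K.xU_mem_group _ _ _
    have hcardH : Nat.card ↥H0 ≤ N := by
      rw [hH0, Nat.card_congr (Subgroup.subgroupOfEquivOfLe hle0).toEquiv]
      refine le_trans (Nat.card_le_card_of_surjective (fun g : ↥GR =>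
        (⟨gl g, Subgroup.mem_map_of_mem _ g.2⟩ : ↥(GR.map gl))) ?_) ?_
      · rintro ⟨_, g, hg, rfl⟩; exact ⟨⟨g, hg⟩, rfl⟩
      · exact Nat.card_le_card_of_injective (fun g : ↥GR => (⟨incl g, hGRM g g.2⟩ : ↥M))
          fun x y h => Subtype.ext (hincl_inj (congrArg Subtype.val h))
    -- injectivity on the roots
    have hinj : ∀ x y : ↥R, (x : k) ^ p ^ e = x → (y : k) ^ p ^ e = y → ψ x = ψ y → x = y := by
      intro x y hx hy hxy
      by_contra hne
      have hd : ((x - y : ↥R) : k) ^ p ^ e = ((x - y : ↥R) : k) := by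
        rw [AddSubgroupClass.coe_sub, sub_pow_char_pow, hx, hy]
      have hd' : (x - y) ^ (p ^ e - 1) * (x - y) = 1 * (x - y) := by
        refine Subtype.ext ?_
        rw [← pow_succ, Nat.sub_add_cancel (Nat.one_le_pow _ _ (Fact.out : p.Prime).pos), one_mul]
        exact hd
      have h1 := congrArg ψ (mul_right_cancel₀ (sub_ne_zero.2 hne) hd')
      rw [map_pow, map_sub, hxy, sub_self, map_one, zero_pow] at h1
      · exact zero_ne_one h1
      · have := Nat.one_lt_pow (by omega : e ≠ 0) (Fact.out : p.Prime).one_lt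
        omega
    set σ0 := iterateFrobenius (↥R ⧸ m) p a with hσ0
    have hrat : HasRat Q0 σ0 H0 := by
      intro s t ht
      rw [hσ0, iterateFrobenius_def] at ht
      -- `t` comes from a root in `k`
      have hroot : ∀ c : {c : k // c ^ p ^ a = c}, (c : k) ^ p ^ e = (c : k) := fun c =>
        pow_fix_dvd p (Dvd.intro _ rfl) c.2
      let φ : {c : k // c ^ p ^ a = c} → {c : ↥R ⧸ m // c ^ p ^ a = c} := fun c =>
        ⟨ψ ⟨c, hroots _ (hroot c)⟩, by
          rw [← map_pow]; exact congrArg ψ (Subtype.ext c.2)⟩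
      have hφ : Function.Injective φ := fun c d h => Subtype.ext (congrArg (fun z : ↥R => (z : k))
        (hinj ⟨c, hroots _ (hroot c)⟩ ⟨d, hroots _ (hroot d)⟩ (hroot c) (hroot d)
          (congrArg Subtype.val h)))
      have hcard : Nat.card {c : k // c ^ p ^ a = c} = Nat.card {c : ↥R ⧸ m // c ^ p ^ a = c} :=
        le_antisymm (Nat.card_le_card_of_injective φ hφ)
          ((roots_card (k := k) p ha).symm ▸ (roots_finite p ha).2)
      obtain ⟨⟨c, hc⟩, hce⟩ := ((Nat.bijective_iff_injective_and_card φ).2 ⟨hφ, hcard⟩).2 ⟨t, ht⟩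
      have hct : ψ ⟨c, hroots _ (hroot ⟨c, hc⟩)⟩ = t := congrArg Subtype.val hce
      by_cases hs : s < D.nroots
      · rw [hH0, Subgroup.mem_subgroupOf]
        obtain ⟨g, hg, eg⟩ := hsurj (K.xU k s c) (hL K s c hc)
        have : g = xRU K f hfi ⟨s, hs⟩ ⟨c, hroots _ (hroot ⟨c, hc⟩)⟩ :=
          hincl_inj (by rw [eg]; exact (map_xRU K f hfi f ⟨s, hs⟩ ⟨c, hroots _ (hroot ⟨c, hc⟩)⟩).symm)
        refine ⟨g, hg, ?_⟩
        rw [this, hmapX, hct]
        rfl
      · rw [hH0, Subgroup.mem_subgroupOf,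
          show ((Q0.sys.x s t : ↥(D.group (↥R ⧸ m))) : GL D.Idx (↥R ⧸ m)) = 1 from Units.ext (by
            show (Q0.K.xU (↥R ⧸ m) s t).val = _
            rw [Q0.K.coe_xU, ChevalleyDatum.x, dif_neg hs]; rfl)]
        exact one_mem _
    obtain ⟨b, hb1, hbH, hab, hcardA, hx, hfixH⟩ := overgroup (p := p) Q0 hS0 hD hrat
    have hbN : b ≤ N := le_trans (Nat.lt_pow_self (Fact.out : p.Prime).one_lt).le
      (hbH.trans hcardH)
    -- the degree divides
    have hdvd : a ∣ b := by
      have hg1 : 1 ≤ Nat.gcd a b := Nat.gcd_pos_of_pos_left b (by omega)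
      have h : Nat.card {c : k // c ^ p ^ a = c} ≤ p ^ Nat.gcd a b := by
        have hroot : ∀ c : {c : k // c ^ p ^ a = c}, (c : k) ^ p ^ e = (c : k) := fun c =>
          pow_fix_dvd p (Dvd.intro _ rfl) c.2
        refine le_trans (Nat.card_le_card_of_injective
          (β := {c : ↥R ⧸ m // c ^ p ^ Nat.gcd a b = c})
          (fun c => ⟨ψ ⟨c, hroots _ (hroot c)⟩, ?_⟩) fun c d h => Subtype.ext (congrArg (fun z : ↥R => (z : k))
            (hinj ⟨c, hroots _ (hroot c)⟩ ⟨d, hroots _ (hroot d)⟩ (hroot c) (hroot d)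
              (congrArg Subtype.val h)))) (roots_finite p hg1).2
        have h1 : (ψ ⟨c, hroots _ (hroot c)⟩) ^ p ^ a = ψ ⟨c, hroots _ (hroot c)⟩ := by
          rw [← map_pow]; exact congrArg ψ (Subtype.ext c.2)
        exact pow_fix_gcd p h1 (hab _ (by rw [hσ0, iterateFrobenius_def]; exact h1))
      rw [roots_card (k := k) p ha] at h
      have := (Nat.pow_le_pow_iff_right (Fact.out : p.Prime).one_lt).1 h
      have h2 : Nat.gcd a b = a := le_antisymm (Nat.gcd_le_left b (by omega)) this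
      rw [← h2]
      exact Nat.gcd_dvd_right a b
    have hbe : b ∣ e := dvd_mul_of_dvd_right (Nat.dvd_factorial (by omega) hbN) a
    refine ⟨b, hb1, hdvd, hbe, fun g hg i j => ?_, fun s t ht => ?_⟩
    · have hmem : (⟨gl g, hle0 (Subgroup.mem_map_of_mem _ hg)⟩ : ↥(D.group (↥R ⧸ m))) ∈ H0 :=
        Subgroup.mem_subgroupOf.2 (Subgroup.mem_map_of_mem _ hg)
      have h1 := congrArg (fun z : ↥(D.group (↥R ⧸ m)) =>
        ((z : GL D.Idx (↥R ⧸ m)) : Matrix D.Idx D.Idx (↥R ⧸ m)) i j) ((mem_fixG Q0 _).1 (hfixH hmem))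
      change iterateFrobenius (↥R ⧸ m) p b (ψ ((g : Matrix D.Idx D.Idx ↥R) i j)) =
        ψ ((g : Matrix D.Idx D.Idx ↥R) i j) at h1
      rw [iterateFrobenius_def, ← map_pow] at h1
      exact Ideal.Quotient.eq.1 h1
    · have hψt : (ψ t) ^ p ^ b = ψ t := by
        rw [← map_pow]; exact congrArg ψ (Subtype.ext ht)
      obtain ⟨g, hg, hge⟩ := Subgroup.mem_subgroupOf.1 (hx s (ψ t) hψt)
      refine ⟨g, hg, fun i j => Ideal.Quotient.eq.1 ?_⟩
      have h1 : gl g = gl (xRU K f hfi s t) := by rw [hge, hmapX]; rfl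
      exact congrArg (fun z : GL D.Idx (↥R ⧸ m) => (z : Matrix D.Idx D.Idx (↥R ⧸ m)) i j) h1
  -- all entries are algebraic
  have hentry : ∀ g ∈ GR, ∀ i j, ((g : Matrix D.Idx D.Idx ↥R) i j) ^ p ^ e =
      (g : Matrix D.Idx D.Idx ↥R) i j := by
    intro g hg i j
    set c := (g : Matrix D.Idx D.Idx ↥R) i j with hc
    have : IsJacobsonRing ↥R := isJacobsonRing_of_finiteType (A := ZMod p)
    have hjac : (⊥ : Ideal ↥R).jacobson = ⊥ :=
      IsJacobsonRing.out inferInstance Ideal.isPrime_bot.isRadical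
    refine sub_eq_zero.1 ((Ideal.mem_bot (R := ↥R)).1 ?_)
    rw [← hjac, Ideal.jacobson, Ideal.mem_sInf]
    rintro m ⟨-, hm⟩
    obtain ⟨b, -, -, hbe, hent, -⟩ := spec m hm
    letI : Field (↥R ⧸ m) := Ideal.Quotient.field m
    refine Ideal.Quotient.eq.1 ?_
    rw [map_pow]
    refine pow_fix_dvd p hbe ?_
    rw [← map_pow]
    exact Ideal.Quotient.eq.2 (hent g hg i j)
  obtain ⟨m, hm⟩ := Ideal.exists_maximal ↥R
  obtain ⟨b, hb1, hab, hbe, hent, hx⟩ := spec m hm
  have hsep : ∀ x : ↥R, (x : k) ^ p ^ e = x → x ∈ m → x = 0 := by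
    intro x hxe hxm
    by_contra hne
    have hd : x ^ (p ^ e - 1) * x = 1 * x := by
      refine Subtype.ext ?_
      rw [← pow_succ, Nat.sub_add_cancel (Nat.one_le_pow _ _ (Fact.out : p.Prime).pos), one_mul]
      exact hxe
    have h1 : x ^ (p ^ e - 1) = 1 := mul_right_cancel₀ hne hd
    refine hm.ne_top ((Ideal.eq_top_iff_one _).2 (h1 ▸ Ideal.pow_mem_of_mem m hxm _ ?_))
    have := Nat.one_lt_pow (by omega : e ≠ 0) (Fact.out : p.Prime).one_lt
    omega
  refine ⟨b, hb1, hab, fun g s t ht hgx => ?_, fun g hg i j => ?_⟩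
  · obtain rfl : g = K.xU k s t := Units.ext (hgx.trans (K.coe_xU k s t).symm)
    by_cases hs : s < D.nroots
    swap
    · rw [show K.xU k s t = 1 from Units.ext (by
        rw [K.coe_xU, ChevalleyDatum.x, dif_neg hs]; rfl)]
      exact one_mem _
    have hte := pow_fix_dvd p hbe ht
    set tR : ↥R := ⟨t, hroots t hte⟩ with htR
    obtain ⟨g, hg, hgm⟩ := hx ⟨s, hs⟩ tR ht
    have hxe : ∀ i j, (((Chevalley.xR D ↥R s tR) i j : ↥R) : k) ^ p ^ e =
        (((Chevalley.xR D ↥R s tR) i j : ↥R) : k) := by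
      intro i j
      have h := Chevalley.xR_map (D := D) (iterateFrobenius k p e) s t
      rw [iterateFrobenius_def, hte] at h
      have h2 : ((Chevalley.xR D ↥R s tR).map f) i j = Chevalley.xR D k s t i j := by
        rw [Chevalley.xR_map]; rfl
      rw [show (((Chevalley.xR D ↥R s tR) i j : ↥R) : k) = Chevalley.xR D k s t i j from h2]
      conv_rhs => rw [← h]
      rw [Matrix.map_apply, iterateFrobenius_def]
    have e2 : g = xRU K f hfi ⟨s, hs⟩ tR := Units.ext (Matrix.ext fun i j => by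
      refine sub_eq_zero.1 (hsep _ ?_ (hgm i j))
      rw [AddSubgroupClass.coe_sub, sub_pow_char_pow,
        show (xRU K f hfi ⟨s, hs⟩ tR : Matrix D.Idx D.Idx ↥R) = Chevalley.xR D ↥R s tR from rfl,
        hxe]
      rw [← SubmonoidClass.coe_pow, hentry g hg])
    rw [← show incl g = K.xU k s t from e2 ▸ map_xRU K f hfi f _ _]
    exact hGRM g hg
  · obtain ⟨g0, hg0, rfl⟩ := hsurj g hg
    show (((g0 : Matrix D.Idx D.Idx ↥R) i j : ↥R) : k) ^ p ^ b = _
    rw [← SubmonoidClass.coe_pow]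
    refine congrArg Subtype.val (sub_eq_zero.1 (hsep _ ?_ (hent g0 hg0 i j)))
    have h := congrArg (fun z : ↥R => (z : k)) (hentry g0 hg0 i j)
    simp only [SubmonoidClass.coe_pow] at h
    rw [AddSubgroupClass.coe_sub, SubmonoidClass.coe_pow, sub_pow_char_pow, ← pow_mul, mul_comm,
      pow_mul, h]

end Cfsg.Agent.H51.Sub
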